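import Mathlib

/-!
A non-abelian minimal normal subgroup is generated by pairwise commuting conjugates of a
non-abelian simple subgroup.
-/

namespace Cfsg.Agent.RecogA

set_option linter.style.haveILetI false

variable {G : Type*} [Group G]

/-- The image of a subgroup under conjugation. -/
abbrev cjg (g : G) (T : Subgroup G) : Subgroup G := T.map (MulAut.conj g).toMonoidHom

theorem mem_cjg {g x : G} {T : Subgroup G} : x ∈ cjg g T ↔ g⁻¹ * x * g ∈ T := by
  constructor
  · rintro ⟨y, hy, rfl⟩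
    have : g⁻¹ * (g * y * g⁻¹) * g = y := by group
    simpa [this] using (show g⁻¹ * (g * y * g⁻¹) * g ∈ T by rw [this]; exact hy)
  · intro h
    exact ⟨_, h, by simp [mul_assoc]⟩

theorem exists_simple_factor [Finite G] (N : Subgroup G) [hN : N.Normal] (hne : N ≠ ⊥)
    (hmin : ∀ M : Subgroup G, M.Normal → M ≤ N → M ≠ ⊥ → M = N) (hna : ¬ IsMulCommutative N) :
    ∃ T : Subgroup G, T ≤ N ∧ N ≤ Subgroup.normalizer (T : Set G) ∧ IsSimpleGroup T ∧
      ¬ IsMulCommutative T ∧
      (∀ g : G, cjg g T ≠ T → T ⊓ cjg g T = ⊥ ∧ ∀ a ∈ T, ∀ b ∈ cjg g T, Commute a b) ∧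
      (⨆ g : G, cjg g T) = N := by
  classical
  obtain ⟨T, ⟨hTN, hTne, hTnorm⟩, hTmin⟩ :=
    WellFounded.has_min (wellFounded_lt (α := Subgroup G))
      {T : Subgroup G | T ≤ N ∧ T ≠ ⊥ ∧ N ≤ Subgroup.normalizer (T : Set G)}
      ⟨N, le_rfl, hne, Subgroup.le_normalizer⟩
  have hle : ∀ g, cjg g T ≤ N := by
    intro g x hx
    have := hN.conj_mem _ (hTN (mem_cjg.1 hx)) g
    simpa [mul_assoc] using this
  have hnorm : ∀ (g x : G), x ∈ N → ∀ y ∈ cjg g T, x * y * x⁻¹ ∈ cjg g T := by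
    intro g x hx y hy
    rw [mem_cjg] at hy ⊢
    have hx' : g⁻¹ * x * g ∈ N := by simpa using hN.conj_mem x hx g⁻¹
    have := (Subgroup.mem_normalizer_iff.1 (hTnorm hx') _).1 hy
    simpa [mul_assoc] using this
  have hdisj : ∀ g, cjg g T ≠ T → T ⊓ cjg g T = ⊥ ∧ ∀ a ∈ T, ∀ b ∈ cjg g T, Commute a b := by
    intro g hg
    have hI : T ⊓ cjg g T = ⊥ := by
      by_contra hb
      refine hTmin (T ⊓ cjg g T) ⟨inf_le_left.trans hTN, hb, fun x hx => ?_⟩
        (inf_le_left.lt_of_ne fun h => hg ?_)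
      · rw [Subgroup.mem_normalizer_iff]
        intro y
        constructor
        · rintro ⟨h1, h2⟩
          exact ⟨(Subgroup.mem_normalizer_iff.1 (hTnorm hx) y).1 h1, hnorm g x hx y h2⟩
        · rintro ⟨h1, h2⟩
          refine ⟨(Subgroup.mem_normalizer_iff.1 (hTnorm hx) y).2 h1, ?_⟩
          simpa [mul_assoc] using hnorm g x⁻¹ (inv_mem hx) _ h2
      · refine (Subgroup.eq_of_le_of_card_ge (inf_eq_left.1 h) ?_).symm
        exact (Nat.card_congr (Subgroup.equivMapOfInjective T _ (MulEquiv.injective _)).toEquiv).ge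
    refine ⟨hI, fun a ha b hb => ?_⟩
    have hmem : a * b * a⁻¹ * b⁻¹ ∈ T ⊓ cjg g T := by
      refine Subgroup.mem_inf.2 ⟨?_, mul_mem (hnorm g a (hTN ha) b hb) (inv_mem hb)⟩
      have := mul_mem ha ((Subgroup.mem_normalizer_iff.1 (hTnorm (hle g hb)) a⁻¹).1 (inv_mem ha))
      simpa [mul_assoc] using this
    rw [hI, Subgroup.mem_bot, mul_inv_eq_one, mul_inv_eq_iff_eq_mul] at hmem
    exact hmem
  have hsup : (⨆ g : G, cjg g T) = N := by
    have hone : T ≤ ⨆ g : G, cjg g T := fun x hx =>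
      Subgroup.mem_iSup_of_mem (1 : G) (mem_cjg.2 (by simpa using hx))
    refine hmin _ ?_ (iSup_le hle) fun h => hTne (eq_bot_iff.2 (h ▸ hone))
    refine ⟨fun x hx g => ?_⟩
    have hmap : (⨆ h : G, cjg h T).map (MulAut.conj g).toMonoidHom ≤ ⨆ h : G, cjg h T := by
      rw [Subgroup.map_iSup]
      refine iSup_le fun h => le_iSup_of_le (g * h) (le_of_eq ?_)
      rw [Subgroup.map_map]
      congr 1
      ext y
      simp [mul_assoc]
    exact hmap ⟨x, hx, rfl⟩
  have hTna : ¬ IsMulCommutative T := by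
    intro hab
    apply hna
    have key : ∀ g h : G, cjg g T ≤ Subgroup.centralizer (cjg h T : Set G) := by
      intro g h b hb a ha
      have ha' := mem_cjg.1 ha
      have hb' : b ∈ cjg g T := hb
      have hb2 : h⁻¹ * b * h ∈ cjg (h⁻¹ * g) T := by
        rw [mem_cjg] at hb' ⊢
        simpa [mul_assoc] using hb'
      have hc : Commute (h⁻¹ * a * h) (h⁻¹ * b * h) := by
        by_cases he : cjg (h⁻¹ * g) T = T
        · exact congrArg Subtype.val (hab.is_comm.comm (⟨_, ha'⟩ : T) ⟨_, he ▸ hb2⟩)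
        · exact (hdisj _ he).2 _ ha' _ hb2
      have := hc.eq
      rw [show h⁻¹ * a * h * (h⁻¹ * b * h) = h⁻¹ * (a * b) * h by group,
        show h⁻¹ * b * h * (h⁻¹ * a * h) = h⁻¹ * (b * a) * h by group] at this
      exact mul_left_cancel (mul_right_cancel this)
    have h2 : N ≤ Subgroup.centralizer (N : Set G) := by
      conv_lhs => rw [← hsup]
      refine iSup_le fun g => ?_
      rw [Subgroup.le_centralizer_iff]
      conv_lhs => rw [← hsup]
      exact iSup_le fun h => key h g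
    exact ⟨⟨fun a b => Subtype.ext (h2 b.2 (a : G) a.2)⟩⟩
  refine ⟨T, hTN, hTnorm, ?_, hTna, hdisj, hsup⟩
  haveI : Nontrivial T := (Subgroup.nontrivial_iff_ne_bot T).2 hTne
  refine IsSimpleGroup.mk fun K hK => ?_
  rw [or_iff_not_imp_left]
  intro hKne
  have hK' : K.map T.subtype ≤ T := Subgroup.map_subtype_le _
  have hKn : N ≤ Subgroup.normalizer (K.map T.subtype : Set G) := by
    rw [← hsup]
    refine iSup_le fun g x hx => ?_
    rw [Subgroup.mem_normalizer_iff]
    by_cases he : cjg g T = T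
    · have hxT : x ∈ T := he ▸ hx
      intro y
      constructor
      · rintro ⟨k, hk, rfl⟩
        exact ⟨⟨x, hxT⟩ * k * ⟨x, hxT⟩⁻¹, hK.conj_mem k hk _, rfl⟩
      · rintro ⟨k, hk, hky⟩
        refine ⟨⟨x, hxT⟩⁻¹ * k * ⟨x, hxT⟩, by simpa using hK.conj_mem k hk (⟨x, hxT⟩ : T)⁻¹, ?_⟩
        have hky' : (k : G) = x * y * x⁻¹ := hky
        simp [hky', mul_assoc]
    · intro y
      have hcomm : ∀ k ∈ K.map T.subtype, x * k * x⁻¹ = k := fun k hk => by
        rw [((hdisj g he).2 k (hK' hk) x hx).symm.eq, mul_inv_cancel_right]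
      constructor
      · intro hy
        rw [hcomm y hy]
        exact hy
      · intro hy
        have h3 : x * y * x⁻¹ = y := mul_left_cancel (mul_right_cancel (hcomm _ hy))
        exact h3 ▸ hy
  have hKne' : K.map T.subtype ≠ ⊥ := by
    rwa [Ne, Subgroup.map_eq_bot_iff_of_injective _ T.subtype_injective]
  have heq : K.map T.subtype = T := by
    by_contra hlt
    exact hTmin _ ⟨hK'.trans hTN, hKne', hKn⟩ (hK'.lt_of_ne hlt)
  rw [eq_top_iff]
  intro t _
  have : (t : G) ∈ K.map T.subtype := heq.symm ▸ t.2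
  obtain ⟨k, hk, hkt⟩ := this
  exact (Subtype.ext hkt : k = t) ▸ hk

end Cfsg.Agent.RecogA
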