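import Cfsg.Agent.RecogA.SocleAction
import Cfsg.Agent.Perm.Sharp
import Cfsg.Agent.Lib.MinimalNormal

/-!
Primitive groups with a single conjugacy class of derangements: outside the almost simple groups
these are exactly the sharply doubly transitive groups.
-/

namespace Cfsg.Agent.RecogA

open MulAction Cfsg.Agent.PermLib

set_option linter.style.haveILetI false

variable {G : Type*} [Group G] [Finite G] {Ω : Type*} [Finite Ω] [MulAction G Ω] [FaithfulSMul G Ω]

omit [Finite Ω] [MulAction G Ω] [FaithfulSMul G Ω] in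
/-- A group in which the non-identity elements of a simple non-abelian subgroup all have the same
order does not exist. -/
theorem exists_two_orders {T : Subgroup G} [IsSimpleGroup T] (hTna : ¬ IsMulCommutative T) :
    ∃ x ∈ T, ∃ y ∈ T, x ≠ 1 ∧ y ≠ 1 ∧ orderOf x ≠ orderOf y := by
  haveI : Nontrivial T := IsSimpleGroup.toNontrivial
  have hcard : 1 < Nat.card T := Finite.one_lt_card
  obtain ⟨p, hp, hpd⟩ := Nat.exists_prime_and_dvd hcard.ne'
  haveI : Fact p.Prime := ⟨hp⟩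
  obtain ⟨x, hx⟩ := exists_prime_orderOf_dvd_card' (G := T) p hpd
  by_contra hno
  push Not at hno
  have hx1 : (x : G) ≠ 1 := fun e => hp.ne_one (by
    rw [← hx, show x = 1 from Subtype.ext e, orderOf_one])
  have hT : IsPGroup p T := by
    intro y
    by_cases hy : (y : G) = 1
    · exact ⟨0, by simpa using Subtype.ext hy⟩
    refine ⟨1, ?_⟩
    have h := hno x x.2 y y.2 hx1 hy
    rw [Subgroup.orderOf_coe, Subgroup.orderOf_coe, hx] at h
    rw [pow_one, h, pow_orderOf_eq_one]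
  haveI := hT.center_nontrivial
  rcases (inferInstance : (Subgroup.center T).Normal).eq_bot_or_eq_top with e | e
  · exact (Subgroup.nontrivial_iff_ne_bot _).1 inferInstance e
  · exact hTna ⟨⟨fun a b => (Subgroup.mem_center_iff.1 (e ▸ Subgroup.mem_top a) b).symm⟩⟩

theorem sharp_of_unique_class [Nontrivial Ω] (hprim : IsPreprimitive G Ω)
    (hnas : ¬ ∃ T : Subgroup G, T.Normal ∧ IsSimpleGroup T ∧ ¬ IsMulCommutative T ∧
      Subgroup.centralizer (T : Set G) = ⊥)
    (huniq : ∀ x y : G, (∀ ω : Ω, x • ω ≠ ω) → (∀ ω : Ω, y • ω ≠ ω) → IsConj x y) :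
    IsMultiplyPretransitive G Ω 2 ∧
      ∀ g : G, g ≠ 1 → ∀ a b : Ω, a ≠ b → g • a = a → g • b ≠ b := by
  classical
  haveI := hprim
  haveI : IsPretransitive G Ω := hprim.toIsPretransitive
  obtain ⟨α, β, hαβ⟩ := exists_pair_ne Ω
  haveI : Nontrivial G := by
    obtain ⟨g, hg⟩ := exists_smul_eq G α β
    exact nontrivial_of_ne g 1 fun e => hαβ (by rw [← hg, e, one_smul])
  obtain ⟨N, hNn, hNne, hNmin⟩ := Cfsg.Agent.MinNormal.exists_minimal_normal (G := G)
  haveI := hNn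
  haveI : IsPretransitive N Ω := isPretransitive_of_normal_ne_bot hNne
  by_cases hab : IsMulCommutative N
  · -- the affine case
    have hreg : ∀ ω : Ω, stabilizer N ω = ⊥ := stabilizer_eq_bot_of_isMulCommutative hab
    have hfpf : ∀ n ∈ N, n ≠ 1 → ∀ ω : Ω, n • ω ≠ ω := fun n hn hn1 ω e =>
      hn1 (congrArg Subtype.val ((Subgroup.eq_bot_iff_forall _).1 (hreg ω) ⟨n, hn⟩ e))
    obtain ⟨⟨n0, hn0⟩, hn01⟩ := Subgroup.ne_bot_iff_exists_ne_one.1 hNne
    have hn01' : n0 ≠ 1 := fun e => hn01 (Subtype.ext e)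
    have hder : ∀ x : G, (∀ ω : Ω, x • ω ≠ ω) → x ∈ N := by
      intro x hx
      obtain ⟨c, hc⟩ := isConj_iff.1 (huniq n0 x (hfpf n0 hn0 hn01') hx)
      exact hc ▸ hNn.conj_mem n0 hn0 c
    refine ⟨?_, ?_⟩
    · rw [two_pretransitive_iff_stabilizer α]
      intro x y hx hy
      obtain ⟨⟨n, hn⟩, hnx⟩ := exists_smul_eq N α x
      obtain ⟨⟨m, hm⟩, hmy⟩ := exists_smul_eq N α y
      have hnx' : n • α = x := hnx
      have hmy' : m • α = y := hmy
      have hn1 : n ≠ 1 := fun e => hx (by rw [← hnx', e, one_smul])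
      have hm1 : m ≠ 1 := fun e => hy (by rw [← hmy', e, one_smul])
      obtain ⟨g, hg⟩ := isConj_iff.1 (huniq n m (hfpf n hn hn1) (hfpf m hm hm1))
      obtain ⟨k, hk, h, hh, rfl⟩ := exists_mem_mul_mem_stabilizer N α g
      refine ⟨h, hh, ?_⟩
      have hhn : h * n * h⁻¹ ∈ N := hNn.conj_mem n hn h
      have hcomm : k * (h * n * h⁻¹) = (h * n * h⁻¹) * k :=
        congrArg Subtype.val (hab.is_comm.comm (⟨k, hk⟩ : N) ⟨_, hhn⟩)
      have hg' : h * n * h⁻¹ = m := by
        rw [← hg, mul_inv_rev, show k * h * n * (h⁻¹ * k⁻¹) = k * (h * n * h⁻¹) * k⁻¹ by group,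
          hcomm, mul_inv_cancel_right]
      rw [← hmy', ← hg', ← hnx', mul_smul, mul_smul, mem_stabilizer_iff.1 (inv_mem hh)]
    · intro g hg1 a b hab' hga hgb
      obtain ⟨⟨n, hn⟩, hnb⟩ := exists_smul_eq N a b
      have hnb' : n • a = b := hnb
      have hn1 : n ≠ 1 := fun e => hab' (by rw [← hnb', e, one_smul])
      have hgn : g * n * g⁻¹ = n := by
        have hfix : (n⁻¹ * (g * n * g⁻¹)) • a = a := by
          rw [mul_smul, mul_smul, mul_smul, inv_smul_eq_iff.2 hga.symm, hnb', hgb, ← hnb',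
            inv_smul_smul]
        have hmem : n⁻¹ * (g * n * g⁻¹) ∈ N := mul_mem (inv_mem hn) (hNn.conj_mem n hn g)
        have := congrArg Subtype.val ((Subgroup.eq_bot_iff_forall _).1 (hreg a) ⟨_, hmem⟩ hfix)
        exact (inv_mul_eq_one.1 this).symm
      let φ : N → N := fun m => ⟨m * (g * m * g⁻¹)⁻¹,
        mul_mem m.2 (inv_mem (hNn.conj_mem m m.2 g))⟩
      have hnot : ¬ Function.Injective φ := fun hinj => hn1 (congrArg Subtype.val
        (hinj (a₁ := ⟨n, hn⟩) (a₂ := 1) (Subtype.ext (by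
          show n * (g * n * g⁻¹)⁻¹ = (1 : G) * (g * 1 * g⁻¹)⁻¹
          rw [hgn]; group))))
      rw [Finite.injective_iff_surjective] at hnot
      obtain ⟨⟨n', hn'⟩, hn''⟩ := not_forall.1 hnot
      have hgN : g ∉ N := fun hgN => hfpf g hgN hg1 a hga
      apply hgN
      have hmem : n' * g ∈ N := by
        refine hder _ fun ω e => hn'' ?_
        obtain ⟨m, rfl⟩ := exists_smul_eq N a ω
        refine ⟨m, Subtype.ext ?_⟩
        show (m : G) * (g * m * g⁻¹)⁻¹ = n'
        have e' : (n' * g) • (m : G) • a = (m : G) • a := e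
        have hfix : ((m : G)⁻¹ * (n' * (g * m * g⁻¹))) • a = a := by
          rw [mul_smul, mul_smul, mul_smul, mul_smul, inv_smul_eq_iff.2 hga.symm,
            inv_smul_eq_iff, ← mul_smul n' g]
          exact e'
        have hmem : (m : G)⁻¹ * (n' * (g * m * g⁻¹)) ∈ N :=
          mul_mem (inv_mem m.2) (mul_mem hn' (hNn.conj_mem m m.2 g))
        have h3 := inv_mul_eq_one.1
          (congrArg Subtype.val ((Subgroup.eq_bot_iff_forall _).1 (hreg a) ⟨_, hmem⟩ hfix))
        rw [eq_comm, ← eq_mul_inv_iff_mul_eq] at h3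
        exact h3.symm
      simpa using mul_mem (inv_mem hn') hmem
  · exfalso
    obtain ⟨T, hTN, hNT, hTs, hTna, hdisj, hsup⟩ := exists_simple_factor N hNne
      (fun M h1 h2 h3 => (hNmin M h1 h2).resolve_left h3) hab
    haveI := hTs
    have hsemi_false : (∀ x ∈ T, x ≠ 1 → ∀ ω : Ω, x • ω ≠ ω) → False := by
      intro h
      obtain ⟨x, hx, y, hy, hx1, hy1, hne⟩ := exists_two_orders (G := G) hTna
      obtain ⟨c, hc⟩ := isConj_iff.1 (huniq x y (h x hx hx1) (h y hy hy1))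
      apply hne
      rw [← hc]
      exact ((MulAut.conj c).orderOf_eq x).symm
    by_cases hCbot : Subgroup.centralizer (N : Set G) = ⊥
    swap
    · haveI : IsPretransitive (Subgroup.centralizer (N : Set G)) Ω :=
        isPretransitive_of_normal_ne_bot hCbot
      exact hsemi_false fun x hx hx1 ω e => hx1 (congrArg Subtype.val
        ((Subgroup.eq_bot_iff_forall _).1
          (stabilizer_centralizer_eq_bot (N := Subgroup.centralizer (N : Set G)) ω)
          ⟨x, fun c hc => (hc x (hTN hx)).symm⟩ e))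
    obtain ⟨g, hg⟩ : ∃ g, cjg g T ≠ T := by
      by_contra hall
      push Not at hall
      have hTN' : T = N := by rw [← hsup]; simp [hall]
      subst hTN'
      exact hnas ⟨T, hNn, hTs, hTna, hCbot⟩
    have hfac := exists_factor_mul_centralizer hTN hdisj hsup
    by_cases hcov : ∀ ω : Ω, ∀ t ∈ T, ∃ s ∈ N ⊓ stabilizer G ω,
        s⁻¹ * t ∈ Subgroup.centralizer (T : Set G)
    · exact hsemi_false fun x hx hx1 ω e =>
        hx1 (eq_one_of_mem_stabilizer hTN hNT (hcov ω) hx e)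
    push Not at hcov
    obtain ⟨ω, t0, ht0, hnot⟩ := hcov
    have hSN : N ⊓ stabilizer G ω ≤ Subgroup.normalizer (T : Set G) := inf_le_left.trans hNT
    set P := (covered (N ⊓ stabilizer G ω) T hSN).subgroupOf T with hP
    haveI : Nontrivial (T ⧸ P) := by
      refine nontrivial_of_ne ((⟨t0, ht0⟩ : T) : T ⧸ P) ((1 : T) : T ⧸ P) fun e => ?_
      rw [QuotientGroup.eq, mul_one] at e
      obtain ⟨-, s, hs, hsc⟩ := (covered (N ⊓ stabilizer G ω) T hSN).inv_mem_iff.1
        (show ((⟨t0, ht0⟩ : T) : G)⁻¹ ∈ covered (N ⊓ stabilizer G ω) T hSN from e)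
      exact hnot s hs hsc
    obtain ⟨t, ht⟩ := exists_forall_smul_ne (G := T) (α := T ⧸ P)
    have ht1 : (t : G) ≠ 1 := fun e => ht ((1 : T) : T ⧸ P)
      (by rw [show t = 1 from Subtype.ext e, one_smul])
    -- every product of `t` with an element centralizing `T` in `N` is a derangement
    have hkey : ∀ u ∈ N, u ∈ Subgroup.centralizer (T : Set G) → ∀ x : Ω,
        ((t : G) * u) • x ≠ x := by
      intro u hu huc x e
      obtain ⟨⟨n, hn⟩, hnx⟩ := exists_smul_eq N ω x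
      have hnx' : n • ω = x := hnx
      obtain ⟨r, hr, hrc⟩ := hfac n hn
      set y : G := n⁻¹ * ((t : G) * u) * n with hy
      have hyS : y ∈ N ⊓ stabilizer G ω := by
        refine Subgroup.mem_inf.2 ⟨mul_mem (mul_mem (inv_mem hn) (mul_mem (hTN t.2) hu)) hn, ?_⟩
        rw [mem_stabilizer_iff, hy, mul_smul, mul_smul, hnx', e, ← hnx', inv_smul_smul]
      apply ht ((⟨r, hr⟩ : T) : T ⧸ P)
      rw [MulAction.Quotient.smul_coe, smul_eq_mul, QuotientGroup.eq, hP,
        Subgroup.mem_subgroupOf, ← (covered (N ⊓ stabilizer G ω) T hSN).inv_mem_iff]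
      have e1 : (((t * ⟨r, hr⟩ : T)⁻¹ * (⟨r, hr⟩ : T) : T) : G)⁻¹ = r⁻¹ * (t : G) * r := by
        push_cast
        group
      rw [e1]
      refine ⟨mul_mem (mul_mem (inv_mem hr) t.2) hr, y, hyS, ?_⟩
      -- `y⁻¹ (r⁻¹ t r)` centralizes `T`
      have hnr : n⁻¹ * (t : G) * n = r⁻¹ * (t : G) * r := by
        have h2 := mul_conj_of_mem_centralizer (T := T) (s := r⁻¹) (t := n⁻¹) t.2 (by
          have hrn : r * n⁻¹ = r * (r⁻¹ * n)⁻¹ * r⁻¹ := by group
          rw [inv_inv, hrn]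
          exact centralizer_normalized (hNT (hTN hr)) (inv_mem hrc))
        simpa using h2
      rw [← hnr, hy]
      have : (n⁻¹ * ((t : G) * u) * n)⁻¹ * (n⁻¹ * (t : G) * n) = n⁻¹ * u⁻¹ * n := by group
      rw [this]
      simpa using centralizer_normalized (hNT (inv_mem hn)) (inv_mem huc)
    obtain ⟨s2, hs2, hs21⟩ : ∃ u ∈ cjg g T, u ≠ 1 := by
      obtain ⟨t1, ht1'⟩ := exists_ne (1 : T)
      exact ⟨_, ⟨t1, t1.2, rfl⟩, fun e => ht1' (Subtype.ext ((MulAut.conj g).injective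
        (e.trans (map_one _).symm)))⟩
    have hgN : cjg g T ≤ N := by rw [← hsup]; exact le_iSup (fun g => cjg g T) g
    have hgc : cjg g T ≤ Subgroup.centralizer (T : Set G) := fun x hx =>
      Subgroup.mem_centralizer_iff.2 fun a ha => ((hdisj g hg).2 a ha x hx).eq
    obtain ⟨c, hc⟩ := isConj_iff.1 (huniq ((t : G) * 1) ((t : G) * s2)
      (hkey 1 (one_mem _) (one_mem _)) (hkey s2 (hgN hs2) (hgc hs2)))
    rw [mul_one] at hc
    have hmem : (t : G) * s2 ∈ cjg c T := ⟨t, t.2, hc⟩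
    by_cases hcT : cjg c T = T
    · rw [hcT] at hmem
      exact hs21 (simple_inter_centralizer_eq_one hTna
        (by simpa using mul_mem (inv_mem t.2) hmem) (hgc hs2))
    · have h1 : (t : G) * s2 ∈ Subgroup.centralizer (T : Set G) :=
        Subgroup.mem_centralizer_iff.2 fun a ha => ((hdisj c hcT).2 a ha _ hmem).eq
      exact ht1 (simple_inter_centralizer_eq_one hTna t.2
        (by simpa using mul_mem h1 (inv_mem (hgc hs2))))

theorem unique_class_of_sharp [Nontrivial Ω] (h2 : IsMultiplyPretransitive G Ω 2)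
    (hs : ∀ g : G, g ≠ 1 → ∀ a b : Ω, a ≠ b → g • a = a → g • b ≠ b) :
    (∃ x : G, ∀ ω : Ω, x • ω ≠ ω) ∧
      ∀ x y : G, (∀ ω : Ω, x • ω ≠ ω) → (∀ ω : Ω, y • ω ≠ ω) → IsConj x y := by
  haveI : IsPretransitive G Ω := isPretransitive_of_is_two_pretransitive
  have hsharp : ∀ x : Fin 2 ↪ Ω, stabilizer G x = ⊥ := by
    intro x
    rw [Subgroup.eq_bot_iff_forall]
    intro g hg
    by_contra hg1
    exact hs g hg1 (x 0) (x 1) (x.injective.ne (by decide))
      (DFunLike.congr_fun hg 0) (DFunLike.congr_fun hg 1)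
  obtain ⟨K, hKn, hKt, hKreg, -, hKmem, -⟩ := exists_kernel_of_sharp h2 hsharp
  haveI := hKn
  haveI := hKt
  obtain ⟨α, β, hαβ⟩ := exists_pair_ne Ω
  refine ⟨exists_forall_smul_ne, fun x y hx hy => ?_⟩
  have hxK : x ∈ K := (hKmem x).2 (Or.inr hx)
  have hyK : y ∈ K := (hKmem y).2 (Or.inr hy)
  obtain ⟨h, hh, he⟩ := (two_pretransitive_iff_stabilizer α).1 h2 (x • α) (y • α) (hx α) (hy α)
  refine isConj_iff.2 ⟨h, ?_⟩
  have := (smul_bijective_of_regular (hKreg α)).1
    (a₁ := ⟨h * x * h⁻¹, hKn.conj_mem x hxK h⟩) (a₂ := ⟨y, hyK⟩) (by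
      show (h * x * h⁻¹) • α = y • α
      rw [conj_smul_of_mem_stabilizer hh, he])
  exact congrArg Subtype.val this

theorem unique_class_iff_sharp [Nontrivial Ω] (hprim : IsPreprimitive G Ω)
    (hnas : ¬ ∃ T : Subgroup G, T.Normal ∧ IsSimpleGroup T ∧ ¬ IsMulCommutative T ∧
      Subgroup.centralizer (T : Set G) = ⊥) :
    Nat.card {c : ConjClasses G // ∃ g : G, ConjClasses.mk g = c ∧ ∀ ω : Ω, g • ω ≠ ω} = 1 ↔
      (IsMultiplyPretransitive G Ω 2 ∧
        ∀ g : G, g ≠ 1 → ∀ a b : Ω, a ≠ b → g • a = a → g • b ≠ b) := by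
  rw [Nat.card_eq_one_iff_unique]
  constructor
  · rintro ⟨hsub, -⟩
    refine sharp_of_unique_class hprim hnas fun x y hx hy => ?_
    exact ConjClasses.mk_eq_mk_iff_isConj.1
      (congrArg Subtype.val (hsub.elim ⟨_, x, rfl, hx⟩ ⟨_, y, rfl, hy⟩))
  · rintro ⟨h2, hs⟩
    obtain ⟨⟨x0, hx0⟩, huniq⟩ := unique_class_of_sharp h2 hs
    refine ⟨⟨?_⟩, ⟨⟨_, x0, rfl, hx0⟩⟩⟩
    rintro ⟨_, x, rfl, hx⟩ ⟨_, y, rfl, hy⟩
    exact Subtype.ext (ConjClasses.mk_eq_mk_iff_isConj.2 (huniq x y hx hy))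

end Cfsg.Agent.RecogA
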