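import Cfsg.Agent.Perm.Regular

/-!
Extremely primitive groups: a point stabilizer is faithful on each of its other orbits
(Manning's theorem), and its normal subgroups are transitive on them.
-/

namespace Cfsg.Agent.RecogA

open MulAction Cfsg.Agent.PermLib Pointwise

set_option linter.style.haveILetI false

variable {G : Type*} [Group G] {Ω : Type*} [MulAction G Ω]

/-- A subgroup normalized by a group acting primitively on its orbit of `x` is trivial or
transitive on that orbit. -/
theorem orbit_eq_or_fix {H K : Subgroup G} (hKH : K ≤ H)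
    (hn : H ≤ Subgroup.normalizer (K : Set G)) (x : Ω) (hx : IsPreprimitive H (orbit H x)) :
    (∀ y ∈ orbit H x, orbit K y = orbit H x) ∨ (∀ k ∈ K, ∀ y ∈ orbit H x, k • y = y) := by
  haveI : (K.subgroupOf H).Normal := Subgroup.normal_subgroupOf_of_le_normalizer hn
  by_cases hfix : fixedPoints (K.subgroupOf H) (orbit H x) = Set.univ
  · right
    intro k hk y hy
    have h : (⟨y, hy⟩ : orbit H x) ∈ fixedPoints (K.subgroupOf H) (orbit H x) :=
      hfix ▸ Set.mem_univ _
    exact congrArg Subtype.val (h ⟨⟨k, hKH hk⟩, hk⟩)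
  · left
    intro y hy
    haveI := IsQuasiPreprimitive.isPretransitive_of_normal (G := H) hfix
    refine Set.Subset.antisymm ?_ ?_
    · rintro _ ⟨k, rfl⟩
      have := (mapsTo_smul_orbit (⟨k, hKH k.2⟩ : H) x) hy
      exact this
    · intro z hz
      obtain ⟨k, hk⟩ := exists_smul_eq (K.subgroupOf H) (⟨y, hy⟩ : orbit H x) ⟨z, hz⟩
      exact ⟨⟨_, k.2⟩, congrArg Subtype.val hk⟩

/-- The kernel of the action of a point stabilizer on one of its orbits. -/
def orbitKer (α ω : Ω) : Subgroup G :=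
  stabilizer G α ⊓ fixingSubgroup G (orbit (stabilizer G α) ω)

theorem mem_orbitKer {α ω : Ω} {k : G} :
    k ∈ orbitKer (G := G) α ω ↔ k • α = α ∧ ∀ y ∈ orbit (stabilizer G α) ω, k • y = y := by
  rw [orbitKer, Subgroup.mem_inf, mem_stabilizer_iff, mem_fixingSubgroup_iff]

theorem stabilizer_le_normalizer_orbitKer (α ω : Ω) :
    stabilizer G α ≤ Subgroup.normalizer (orbitKer (G := G) α ω : Set G) := by
  intro h hh
  rw [Subgroup.mem_normalizer_iff]
  have fwd : ∀ h ∈ stabilizer G α, ∀ k, k ∈ orbitKer (G := G) α ω →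
      h * k * h⁻¹ ∈ orbitKer (G := G) α ω := by
    intro h hh k hk
    rw [mem_orbitKer] at hk ⊢
    refine ⟨?_, fun y hy => ?_⟩
    · rw [mul_smul, mul_smul, mem_stabilizer_iff.1 (inv_mem hh), hk.1, mem_stabilizer_iff.1 hh]
    · have := hk.2 (h⁻¹ • y) ((mapsTo_smul_orbit (⟨h⁻¹, inv_mem hh⟩ : stabilizer G α) ω) hy)
      rw [mul_smul, mul_smul, this, smul_inv_smul]
  intro k
  refine ⟨fwd h hh k, fun hk => ?_⟩
  simpa [mul_assoc] using fwd h⁻¹ (inv_mem hh) _ hk

theorem orbit_stabilizer_smul (g : G) (α ω : Ω) :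
    orbit (stabilizer G (g • α)) (g • ω) = (g • ·) '' orbit (stabilizer G α) ω := by
  ext y
  constructor
  · rintro ⟨⟨h, hh⟩, rfl⟩
    refine ⟨(g⁻¹ * h * g) • ω, ⟨⟨g⁻¹ * h * g, ?_⟩, rfl⟩, ?_⟩
    · rw [mem_stabilizer_iff, mul_smul, mul_smul, mem_stabilizer_iff.1 hh, inv_smul_smul]
    · change g • (g⁻¹ * h * g) • ω = h • g • ω
      rw [mul_smul, mul_smul, smul_inv_smul]
  · rintro ⟨_, ⟨⟨h, hh⟩, rfl⟩, rfl⟩
    refine ⟨⟨g * h * g⁻¹, ?_⟩, ?_⟩
    · rw [mem_stabilizer_iff, mul_smul, inv_smul_smul, mul_smul, mem_stabilizer_iff.1 hh]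
    · change (g * h * g⁻¹) • g • ω = g • h • ω
      rw [mul_smul, inv_smul_smul, mul_smul]

theorem orbitKer_smul (g : G) (α ω : Ω) :
    orbitKer (G := G) (g • α) (g • ω) = (orbitKer α ω).map (MulAut.conj g).toMonoidHom := by
  ext k
  constructor
  · intro hk
    rw [mem_orbitKer, orbit_stabilizer_smul] at hk
    refine ⟨g⁻¹ * k * g, mem_orbitKer.2 ⟨?_, fun y hy => ?_⟩, by simp [mul_assoc]⟩
    · rw [mul_smul, mul_smul, hk.1, inv_smul_smul]
    · rw [mul_smul, mul_smul, hk.2 (g • y) ⟨y, hy, rfl⟩, inv_smul_smul]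
  · rintro ⟨m, hm, rfl⟩
    rw [SetLike.mem_coe, mem_orbitKer] at hm
    rw [mem_orbitKer, orbit_stabilizer_smul]
    refine ⟨?_, ?_⟩
    · change (g * m * g⁻¹) • g • α = g • α
      rw [mul_smul, inv_smul_smul, mul_smul, hm.1]
    · rintro _ ⟨y, hy, rfl⟩
      change (g * m * g⁻¹) • g • y = g • y
      rw [mul_smul, inv_smul_smul, mul_smul, hm.2 y hy]

variable [Finite G] [FaithfulSMul G Ω]

/-- In a primitive group with non-trivial point stabilizers distinct points have incomparable
stabilizers. -/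
theorem stabilizer_not_le (hprim : IsPreprimitive G Ω) {α β : Ω} (hne : stabilizer G α ≠ ⊥)
    (hαβ : β ≠ α) : ¬ stabilizer G β ≤ stabilizer G α := by
  haveI := hprim
  haveI : Nontrivial Ω := nontrivial_of_ne _ _ hαβ
  intro hle
  obtain ⟨g, hg⟩ := exists_smul_eq G α β
  have hmap : stabilizer G β = (stabilizer G α).map (MulAut.conj g).toMonoidHom := by
    rw [← hg]; exact stabilizer_smul_eq_stabilizer_map_conj g α
  have heq : stabilizer G β = stabilizer G α := by
    refine Subgroup.eq_of_le_of_card_ge hle ?_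
    rw [hmap]
    exact (Nat.card_congr
      (Subgroup.equivMapOfInjective _ _ (MulEquiv.injective _)).toEquiv).le
  have hgN : g ∈ Subgroup.normalizer (stabilizer G α : Set G) :=
    Subgroup.mem_normalizer_iff_map_conj_eq.2 (hmap.symm.trans heq)
  rcases (IsPreprimitive.isCoatom_stabilizer_of_isPreprimitive G α).le_iff.1 Subgroup.le_normalizer with h | h
  · haveI : (stabilizer G α).Normal := Subgroup.normalizer_eq_top_iff.1 h
    haveI := isPretransitive_of_normal_ne_bot (G := G) (α := Ω) hne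
    obtain ⟨s, hs⟩ := exists_smul_eq (stabilizer G α) α β
    exact hαβ (hs ▸ s.2)
  · rw [h] at hgN
    exact hαβ (hg ▸ hgN)

variable [Finite Ω]

theorem orbitKer_eq_bot (hprim : IsPreprimitive G Ω) (hH : ∀ α : Ω, stabilizer G α ≠ ⊥)
    (hep : ∀ α ω : Ω, IsPreprimitive (stabilizer G α) (orbit (stabilizer G α) ω))
    (α ω : Ω) (hω : ω ≠ α) : orbitKer (G := G) α ω = ⊥ := by
  classical
  haveI := hprim
  haveI : Nontrivial Ω := nontrivial_of_ne _ _ hω
  haveI : IsPretransitive G Ω := hprim.toIsPretransitive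
  let sz : Ω → Ω → ℕ := fun a b => Nat.card (orbit (stabilizer G a) b)
  haveI : Nonempty {p : Ω × Ω // p.2 ≠ p.1} := ⟨⟨(α, ω), hω⟩⟩
  haveI : Fintype {p : Ω × Ω // p.2 ≠ p.1} := Fintype.ofFinite _
  obtain ⟨⟨⟨a0, b0⟩, hab⟩, -, hmax⟩ := Finset.exists_max_image Finset.univ
    (fun p : {p : Ω × Ω // p.2 ≠ p.1} => sz p.1.1 p.1.2) Finset.univ_nonempty
  have hle : ∀ a b : Ω, b ≠ a → sz a b ≤ sz a0 b0 := fun a b h =>
    hmax ⟨(a, b), h⟩ (Finset.mem_univ _)
  have hsmul : ∀ (g : G) a b, sz (g • a) (g • b) = sz a b := by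
    intro g a b
    simp only [sz, orbit_stabilizer_smul]
    exact Nat.card_image_of_injective (MulAction.injective g) _
  have self_fixed : ∀ {a b : Ω}, b ≠ a → a ∉ orbit (stabilizer G a) b := by
    rintro a b hb ⟨⟨g, hg⟩, h⟩
    exact hb (MulAction.injective g ((show g • b = a from h).trans (mem_stabilizer_iff.1 hg).symm))
  -- every non-trivial kernel fixes all orbits of greatest length
  have step1 : ∀ a b : Ω, b ≠ a → orbitKer (G := G) a b ≠ ⊥ → ∀ x, x ≠ a →
      sz a x = sz a0 b0 → orbitKer (G := G) a b ≤ orbitKer a x := by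
    intro a b hb _ x hx hsz
    rcases orbit_eq_or_fix (K := orbitKer a b) inf_le_left
      (stabilizer_le_normalizer_orbitKer a b) x (hep a x) with h | h
    · intro k hk
      by_cases hxb : b ∈ orbit (stabilizer G a) x
      · rw [mem_orbitKer] at hk ⊢
        exact ⟨hk.1, by rw [← orbit_eq_iff.2 hxb]; exact hk.2⟩
      exfalso
      have hxb' : x ≠ b := fun e => hxb (e ▸ mem_orbit_self x)
      have hsub : orbit (stabilizer G a) x ⊆ orbit (stabilizer G b) x := by
        rw [← h x (mem_orbit_self x)]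
        rintro _ ⟨⟨k, hk⟩, rfl⟩
        exact ⟨⟨k, (mem_orbitKer.1 hk).2 b (mem_orbit_self b)⟩, rfl⟩
      have heq : orbit (stabilizer G a) x = orbit (stabilizer G b) x := by
        refine Set.eq_of_subset_of_ncard_le hsub ?_ (Set.toFinite _)
        rw [← Nat.card_coe_set_eq, ← Nat.card_coe_set_eq]
        exact (hle b x hxb').trans hsz.ge
      set S : Set Ω := orbit (stabilizer G a) x
      have hSa : stabilizer G a ≤ stabilizer G S := fun g hg =>
        mem_stabilizer_iff.2 (smul_orbit (⟨g, hg⟩ : stabilizer G a) x)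
      have hSb : stabilizer G b ≤ stabilizer G S := fun g hg => by
        rw [mem_stabilizer_iff, heq]
        exact smul_orbit (⟨g, hg⟩ : stabilizer G b) x
      rcases (IsPreprimitive.isCoatom_stabilizer_of_isPreprimitive G a).le_iff.1 hSa with ht | ht
      · obtain ⟨g, hg⟩ := exists_smul_eq G x a
        have hmem : g • x ∈ g • S := Set.smul_mem_smul_set (mem_orbit_self x)
        rw [mem_stabilizer_iff.1 (ht ▸ Subgroup.mem_top g : g ∈ stabilizer G S), hg] at hmem
        exact self_fixed hx hmem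
      · exact stabilizer_not_le hprim (hH a) hb (ht ▸ hSb)
    · intro k hk
      exact mem_orbitKer.2 ⟨(mem_orbitKer.1 hk).1, h k hk⟩
  by_contra hker
  -- the kernel `K0` on a longest orbit
  obtain ⟨g0, hg0⟩ := exists_smul_eq G a0 α
  set b := g0 • b0 with hb
  have hbα : b ≠ α := fun e => hab (MulAction.injective g0 (e.trans hg0.symm))
  have hbsz : sz α b = sz a0 b0 := by rw [← hg0, hb, hsmul]
  have hK0 : orbitKer (G := G) α b ≠ ⊥ := fun h =>
    hker (eq_bot_iff.2 (h ▸ step1 α ω hω hker b hbα hbsz))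
  obtain ⟨g, hg⟩ := exists_smul_eq G α b
  have hcard : Nat.card (orbitKer (G := G) b (g • b)) = Nat.card (orbitKer (G := G) α b) := by
    conv_lhs => rw [show orbitKer (G := G) b (g • b) = orbitKer (g • α) (g • b) by rw [hg]]
    rw [orbitKer_smul]
    exact (Nat.card_congr
      (Subgroup.equivMapOfInjective _ _ (MulEquiv.injective _)).toEquiv).symm
  have hgb : g • b ≠ b := fun e => hbα (MulAction.injective g (e.trans hg.symm))
  have hK1 : orbitKer (G := G) b (g • b) ≠ ⊥ := by
    intro h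
    rw [h, Subgroup.card_bot] at hcard
    exact hK0 (Subgroup.eq_bot_of_card_eq _ hcard.symm)
  have hszb : sz b α = sz a0 b0 := by
    rw [← hbsz]
    simp only [sz]
    have h1 := card_eq_mul_card_stabilizer (G := stabilizer G b)
      (⟨α, mem_orbit_self α⟩ : orbit (stabilizer G b) α)
    have h2 := card_eq_mul_card_stabilizer (G := stabilizer G α)
      (⟨b, mem_orbit_self b⟩ : orbit (stabilizer G α) b)
    have e1 : Nat.card (stabilizer G b) = Nat.card (stabilizer G α) := by
      rw [← hg, stabilizer_smul_eq_stabilizer_map_conj]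
      exact (Nat.card_congr
        (Subgroup.equivMapOfInjective _ _ (MulEquiv.injective _)).toEquiv).symm
    have e2 : Nat.card (stabilizer (stabilizer G b) (⟨α, mem_orbit_self α⟩ : orbit (stabilizer G b) α))
        = Nat.card (stabilizer (stabilizer G α)
          (⟨b, mem_orbit_self b⟩ : orbit (stabilizer G α) b)) :=
      Nat.card_congr
        { toFun := fun s => ⟨⟨(s.1 : G), congrArg Subtype.val s.2⟩, Subtype.ext s.1.2⟩
          invFun := fun s => ⟨⟨(s.1 : G), congrArg Subtype.val s.2⟩, Subtype.ext s.1.2⟩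
          left_inv := fun _ => rfl
          right_inv := fun _ => rfl }
    rw [e1, h2, e2] at h1
    exact (Nat.eq_of_mul_eq_mul_right Nat.card_pos h1).symm
  have hle1 : orbitKer (G := G) b (g • b) ≤ orbitKer b α :=
    step1 b (g • b) hgb hK1 α hbα.symm hszb
  have hK1' : orbitKer (G := G) b α ≠ ⊥ := fun h => hK1 (eq_bot_iff.2 (h ▸ hle1))
  have hszg : sz b (g • b) = sz a0 b0 := by
    rw [← hbsz, show sz b (g • b) = sz (g • α) (g • b) by rw [hg], hsmul]
  have hK1eq : orbitKer (G := G) b (g • b) = orbitKer b α :=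
    le_antisymm hle1 (step1 b α hbα.symm hK1' (g • b) hgb hszg)
  have hne : ¬ orbitKer (G := G) α b ≤ orbitKer b α := by
    intro h
    have heq : orbitKer (G := G) α b = orbitKer b α :=
      Subgroup.eq_of_le_of_card_ge h (by rw [← hK1eq, hcard])
    have hn1 : stabilizer G α ≤ Subgroup.normalizer (orbitKer (G := G) α b : Set G) :=
      stabilizer_le_normalizer_orbitKer α b
    rcases (IsPreprimitive.isCoatom_stabilizer_of_isPreprimitive G α).le_iff.1 hn1 with ht | ht
    · haveI : (orbitKer (G := G) α b).Normal := Subgroup.normalizer_eq_top_iff.1 ht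
      haveI := isPretransitive_of_normal_ne_bot (G := G) (α := Ω) hK0
      obtain ⟨s, hs⟩ := exists_smul_eq (orbitKer (G := G) α b) α b
      exact hbα (hs ▸ (mem_orbitKer.1 s.2).1)
    · refine stabilizer_not_le hprim (hH α) hbα ?_
      rw [← ht, heq]
      exact stabilizer_le_normalizer_orbitKer b α
  obtain ⟨k, hk, hk'⟩ := SetLike.not_le_iff_exists.1 hne
  have hkb : k • b = b := (mem_orbitKer.1 hk).2 b (mem_orbit_self b)
  obtain ⟨x, hx, hkx⟩ : ∃ x ∈ orbit (stabilizer G b) α, k • x ≠ x := by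
    by_contra hno
    push Not at hno
    exact hk' (mem_orbitKer.2 ⟨hkb, hno⟩)
  have hxα : x ≠ α := fun e => hkx (by rw [e]; exact (mem_orbitKer.1 hk).1)
  have hsub : orbit (stabilizer G α) x ⊆ orbit (stabilizer G b) α := by
    rcases orbit_eq_or_fix (K := orbitKer α b) inf_le_left
      (stabilizer_le_normalizer_orbitKer α b) x (hep α x) with h | h
    · rw [← h x (mem_orbit_self x)]
      rintro _ ⟨⟨m, hm⟩, rfl⟩
      exact (mapsTo_smul_orbit
        (⟨m, (mem_orbitKer.1 hm).2 b (mem_orbit_self b)⟩ : stabilizer G b) α) hx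
    · exact absurd (h k hk x (mem_orbit_self x)) hkx
  have hle2 : orbitKer (G := G) b α ≤ orbitKer α x := fun m hm =>
    mem_orbitKer.2 ⟨(mem_orbitKer.1 hm).2 α (mem_orbit_self α),
      fun y hy => (mem_orbitKer.1 hm).2 y (hsub hy)⟩
  have hx0 : orbitKer (G := G) α x ≠ ⊥ := fun h => hK1' (eq_bot_iff.2 (h ▸ hle2))
  have hle3 := hle2.trans (step1 α x hxα hx0 b hbα hbsz)
  exact hne (Subgroup.eq_of_le_of_card_ge hle3 (by rw [← hK1eq, hcard])).ge

/-- Manning's theorem: a point stabilizer of an extremely primitive group is faithful on its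
non-trivial orbits. -/
theorem faithful_on_orbit (hprim : IsPreprimitive G Ω) (hH : ∀ α : Ω, stabilizer G α ≠ ⊥)
    (hep : ∀ α ω : Ω, IsPreprimitive (stabilizer G α) (orbit (stabilizer G α) ω))
    {α ω : Ω} (hω : ω ≠ α) {k : G} (hk : k • α = α)
    (hfix : ∀ y ∈ orbit (stabilizer G α) ω, k • y = y) : k = 1 :=
  Subgroup.mem_bot.1 (orbitKer_eq_bot hprim hH hep α ω hω ▸ mem_orbitKer.2 ⟨hk, hfix⟩)

/-- Non-trivial normal subgroups of a point stabilizer of an extremely primitive group have the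
same orbits as the stabilizer. -/
theorem orbit_normal_eq (hprim : IsPreprimitive G Ω) (hH : ∀ α : Ω, stabilizer G α ≠ ⊥)
    (hep : ∀ α ω : Ω, IsPreprimitive (stabilizer G α) (orbit (stabilizer G α) ω))
    {α : Ω} {M : Subgroup G} (hM : M ≠ ⊥) (hle : M ≤ stabilizer G α)
    (hn : stabilizer G α ≤ Subgroup.normalizer (M : Set G)) (ω : Ω) :
    orbit M ω = orbit (stabilizer G α) ω := by
  rcases eq_or_ne ω α with e | hω
  · rw [e]
    ext y
    constructor
    · rintro ⟨m, rfl⟩; exact ⟨⟨m, hle m.2⟩, rfl⟩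
    · rintro ⟨h, rfl⟩; exact ⟨1, (one_smul M α).trans h.2.symm⟩
  rcases orbit_eq_or_fix hle hn ω (hep α ω) with h | h
  · exact h ω (mem_orbit_self ω)
  · refine absurd ((Subgroup.eq_bot_iff_forall _).2 fun m hm => ?_) hM
    exact faithful_on_orbit hprim hH hep hω (hle hm) (h m hm)

/-- A point stabilizer acts on each other orbit with maximal stabilizers. -/
theorem isCoatom_stabilizer_of_orbit (hprim : IsPreprimitive G Ω) (hH : ∀ α : Ω, stabilizer G α ≠ ⊥)
    (hep : ∀ α ω : Ω, IsPreprimitive (stabilizer G α) (orbit (stabilizer G α) ω))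
    {α ω : Ω} (hω : ω ≠ α) : IsCoatom (stabilizer (stabilizer G α) ω) := by
  haveI := hep α ω
  haveI : Nontrivial (orbit (stabilizer G α) ω) := by
    rw [← not_subsingleton_iff_nontrivial]
    intro hs
    refine hH α ((Subgroup.eq_bot_iff_forall _).2 fun k hk => ?_)
    exact faithful_on_orbit hprim hH hep hω hk fun y hy =>
      congrArg Subtype.val (hs.elim ⟨_, (mapsTo_smul_orbit (⟨k, hk⟩ : stabilizer G α) ω) hy⟩ ⟨y, hy⟩)
  have h := IsPreprimitive.isCoatom_stabilizer_of_isPreprimitive (stabilizer G α)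
    (⟨ω, mem_orbit_self ω⟩ : orbit (stabilizer G α) ω)
  convert h using 1
  ext k
  exact ⟨fun hk => Subtype.ext hk, fun hk => congrArg Subtype.val hk⟩

end Cfsg.Agent.RecogA
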