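import Mathlib
import Cfsg.Agent.RecogA.Manning
import Cfsg.Agent.Cores.Fitting

/-!
The structure of the point stabilizers of extremely primitive groups.
-/

namespace Cfsg.Agent.RecogA

open MulAction Cfsg.Agent.PermLib

set_option linter.style.haveILetI false

variable {G : Type*} [Group G] [Finite G] {Ω : Type*} [Finite Ω] [MulAction G Ω] [FaithfulSMul G Ω]

theorem exists_ne_of_stabilizer_ne_bot {α : Ω} (h : stabilizer G α ≠ ⊥) : ∃ ω : Ω, ω ≠ α := by
  by_contra hno
  push Not at hno
  exact h (eq_bot_of_forall_smul (α := Ω) fun g hg a => by rw [hno a]; exact hg)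

variable (hprim : IsPreprimitive G Ω) (hH : ∀ α : Ω, stabilizer G α ≠ ⊥)
  (hep : ∀ α ω : Ω, IsPreprimitive (stabilizer G α) (orbit (stabilizer G α) ω)) {α : Ω}
  {A : Subgroup G} (hA : A ≠ ⊥) (hAle : A ≤ stabilizer G α)
  (hAn : stabilizer G α ≤ Subgroup.normalizer (A : Set G))

include hprim hH hep hA hAle hAn

/-- An element of a point stabilizer centralizing a non-trivial normal subgroup of it fixes no
other point unless it is trivial. -/
theorem eq_one_of_commute_normal {c : G} (hc : c • α = α) (hcA : ∀ a ∈ A, c * a = a * c) {ω : Ω}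
    (hω : ω ≠ α) (hfix : c • ω = ω) : c = 1 := by
  refine faithful_on_orbit hprim hH hep hω hc fun y hy => ?_
  rw [← orbit_normal_eq hprim hH hep hA hAle hAn ω] at hy
  obtain ⟨⟨a, ha⟩, rfl⟩ := hy
  show c • a • ω = a • ω
  rw [smul_smul, hcA a ha, mul_smul, hfix]

/-- An abelian normal subgroup of a point stabilizer is self-centralizing there. -/
theorem mem_of_commute_normal (hab : ∀ a ∈ A, ∀ b ∈ A, a * b = b * a) {c : G} (hc : c • α = α)
    (hcA : ∀ a ∈ A, c * a = a * c) : c ∈ A := by
  obtain ⟨ω, hω⟩ := exists_ne_of_stabilizer_ne_bot (hH α)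
  have h : c • ω ∈ orbit A ω := by
    rw [orbit_normal_eq hprim hH hep hA hAle hAn ω]
    exact ⟨⟨c, hc⟩, rfl⟩
  obtain ⟨⟨a, ha⟩, hae⟩ := h
  have hae' : a • ω = c • ω := hae
  have h1 : a⁻¹ * c = 1 := by
    refine eq_one_of_commute_normal hprim hH hep hA hAle hAn ?_ (fun b hb => ?_) hω ?_
    · rw [mul_smul, hc]
      exact mem_stabilizer_iff.1 (inv_mem (hAle ha))
    · rw [mul_assoc, hcA b hb, ← mul_assoc, hab _ (inv_mem ha) b hb, mul_assoc]
    · rw [mul_smul, ← hae', inv_smul_smul]
  exact inv_mul_eq_one.1 h1 ▸ ha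

/-- An abelian normal subgroup of a point stabilizer is regular on every other orbit. -/
theorem card_orbit_eq_card (hab : ∀ a ∈ A, ∀ b ∈ A, a * b = b * a) {ω : Ω} (hω : ω ≠ α) :
    Nat.card (orbit (stabilizer G α) ω) = Nat.card A := by
  rw [← orbit_normal_eq hprim hH hep hA hAle hAn ω]
  refine (Nat.card_eq_of_bijective (fun a : A => (⟨(a : G) • ω, ⟨a, rfl⟩⟩ : orbit A ω)) ⟨?_, ?_⟩).symm
  · intro a b h
    have h' : (a : G) • ω = (b : G) • ω := congrArg Subtype.val h
    have h1 : (b : G)⁻¹ * a = 1 := by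
      refine eq_one_of_commute_normal hprim hH hep hA hAle hAn
        (mem_stabilizer_iff.1 (hAle (mul_mem (inv_mem b.2) a.2))) (fun x hx => ?_) hω ?_
      · exact hab _ (mul_mem (inv_mem b.2) a.2) x hx
      · rw [mul_smul, h', inv_smul_smul]
    exact Subtype.ext (inv_mul_eq_one.1 h1).symm
  · rintro ⟨_, a, rfl⟩
    exact ⟨a, rfl⟩

omit hprim hH hep hA hAle hAn

omit [Finite G] [FaithfulSMul G Ω] in
/-- A group acting semiregularly off a common fixed point has order dividing the number of other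
points. -/
theorem card_dvd_card_sub_one {A : Subgroup G} (hle : A ≤ stabilizer G α)
    (hfree : ∀ a ∈ A, ∀ ω : Ω, ω ≠ α → a • ω = ω → a = 1) : Nat.card A ∣ Nat.card Ω - 1 := by
  classical
  haveI := Fintype.ofFinite Ω
  let X := {ω : Ω // ω ≠ α}
  letI : MulAction A X :=
    { smul := fun a x => ⟨(a : G) • (x : Ω), fun h => x.2 (by
        have h1 := congrArg ((a : G)⁻¹ • ·) h
        simpa [mem_stabilizer_iff.1 (inv_mem (hle a.2))] using h1)⟩
      one_smul := fun x => Subtype.ext (one_smul G (x : Ω))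
      mul_smul := fun a b x => Subtype.ext (mul_smul (a : G) (b : G) (x : Ω)) }
  have hstab : ∀ x : X, stabilizer A x = ⊥ := fun x =>
    (Subgroup.eq_bot_iff_forall _).2 fun a ha =>
      Subtype.ext (hfree a a.2 x x.2 (congrArg Subtype.val ha))
  have e : X ≃ (Σ _ω : orbitRel.Quotient A X, A) :=
    (selfEquivSigmaOrbitsQuotientStabilizer A X).trans (Equiv.sigmaCongrRight fun ω => by
      rw [hstab]
      exact QuotientGroup.quotientBot.toEquiv)
  have hX : Nat.card X = Nat.card Ω - 1 := by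
    rw [Nat.card_eq_fintype_card, Nat.card_eq_fintype_card, Fintype.card_subtype_compl,
      Fintype.card_subtype_eq]
  rw [← hX, Nat.card_congr e, Nat.card_congr (Equiv.sigmaEquivProd _ _), Nat.card_prod]
  exact dvd_mul_left _ _

include hprim hH hep

/-- A stabilizer of composite order has trivial centre. -/
theorem center_stabilizer_eq_bot (hp : ¬ (Nat.card (stabilizer G α)).Prime) :
    Subgroup.center (stabilizer G α) = ⊥ := by
  by_contra hZ
  apply hp
  set H := stabilizer G α
  set Z := (Subgroup.center H).map H.subtype with hZdef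
  have hZne : Z ≠ ⊥ := by
    rwa [Ne, hZdef, Subgroup.map_eq_bot_iff_of_injective _ H.subtype_injective]
  have hcomm : ∀ a ∈ Z, ∀ x ∈ H, x * a = a * x := by
    rintro _ ⟨z, hz, rfl⟩ x hx
    exact congrArg Subtype.val (Subgroup.mem_center_iff.1 hz ⟨x, hx⟩)
  have hZn : H ≤ Subgroup.normalizer (Z : Set G) := by
    intro h hh
    rw [Subgroup.mem_normalizer_iff]
    intro x
    constructor
    · intro hx
      rw [hcomm x hx h hh, mul_inv_cancel_right]
      exact hx
    · intro hx
      have h2 : h * x * h⁻¹ = x := mul_left_cancel (a := h) (by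
        have := hcomm _ hx h hh
        calc h * (h * x * h⁻¹) = h * x * h⁻¹ * h := this
          _ = h * x := by group)
      exact h2 ▸ hx
  obtain ⟨ω, hω⟩ := exists_ne_of_stabilizer_ne_bot (hH α)
  have hreg : stabilizer H ω = ⊥ := (Subgroup.eq_bot_iff_forall _).2 fun c hc => Subtype.ext
    (eq_one_of_commute_normal hprim hH hep hZne (Subgroup.map_subtype_le _) hZn c.2
      (fun a ha => hcomm a ha c c.2) hω hc)
  have hco := isCoatom_stabilizer_of_orbit hprim hH hep hω
  rw [hreg] at hco
  haveI : Nontrivial H := (Subgroup.nontrivial_iff_ne_bot H).2 (hH α)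
  obtain ⟨p, hp', hpd⟩ := Nat.exists_prime_and_dvd (Finite.one_lt_card (α := H)).ne'
  haveI : Fact p.Prime := ⟨hp'⟩
  obtain ⟨x, hx⟩ := exists_prime_orderOf_dvd_card' (G := H) p hpd
  have htop : Subgroup.zpowers x = ⊤ := hco.2 _ (bot_lt_iff_ne_bot.2 fun e => hp'.ne_one (by
    rw [← hx, Subgroup.zpowers_eq_bot.1 e, orderOf_one]))
  rw [← Subgroup.card_top, ← htop, Nat.card_zpowers, hx]
  exact hp'

/-- The Fitting subgroup of a point stabilizer, viewed in the group. -/
theorem fitting_facts (hF : Cfsg.fittingSubgroup (stabilizer G α) ≠ ⊥) :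
    ∃ A : Subgroup G, A = (Cfsg.fittingSubgroup (stabilizer G α)).map (stabilizer G α).subtype ∧
      A ≠ ⊥ ∧ A ≤ stabilizer G α ∧ stabilizer G α ≤ Subgroup.normalizer (A : Set G) ∧
      (∀ a ∈ A, ∀ b ∈ A, a * b = b * a) ∧
      ∃ p e : ℕ, p.Prime ∧ 1 ≤ e ∧ Nat.card A = p ^ e ∧ ∀ a ∈ A, a ^ p = 1 := by
  classical
  set H := stabilizer G α with hHdef
  set F := Cfsg.fittingSubgroup H with hFdef
  haveI := Cores.fittingSubgroup_isNilpotent (G := H)
  haveI : Nontrivial F := (Subgroup.nontrivial_iff_ne_bot F).2 hF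
  have hnorm : ∀ K : Subgroup H, K.Normal → H ≤ Subgroup.normalizer (K.map H.subtype : Set G) := by
    intro K hK h hh
    rw [Subgroup.mem_normalizer_iff]
    intro x
    constructor
    · rintro ⟨k, hk, rfl⟩
      exact ⟨⟨h, hh⟩ * k * ⟨h, hh⟩⁻¹, hK.conj_mem k hk _, rfl⟩
    · rintro ⟨k, hk, hkx⟩
      have hkx' : (k : G) = h * x * h⁻¹ := hkx
      refine ⟨⟨h, hh⟩⁻¹ * k * ⟨h, hh⟩, by simpa using hK.conj_mem k hk (⟨h, hh⟩ : H)⁻¹, ?_⟩
      simp [hkx', mul_assoc]
  let Z : Subgroup H := (Subgroup.center F).map F.subtype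
  have hZn : Z.Normal := ConjAct.normal_of_characteristic_of_normal
  set B := Z.map H.subtype with hB
  have hBne : B ≠ ⊥ := by
    rw [hB, Ne, Subgroup.map_eq_bot_iff_of_injective _ H.subtype_injective,
      Subgroup.map_eq_bot_iff_of_injective _ F.subtype_injective]
    exact Group.IsNilpotent.center_ne_bot _
  have hBcomm : ∀ b ∈ B, ∀ f ∈ F.map H.subtype, f * b = b * f := by
    rintro _ ⟨_, ⟨z, hz, rfl⟩, rfl⟩ _ ⟨f, hf, rfl⟩
    exact congrArg (fun y : F => ((y : H) : G)) (Subgroup.mem_center_iff.1 hz ⟨f, hf⟩)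
  have hBF : B ≤ F.map H.subtype := Subgroup.map_mono (Subgroup.map_subtype_le _)
  have hBH : B ≤ H := Subgroup.map_subtype_le _
  have hBab : ∀ a ∈ B, ∀ b ∈ B, a * b = b * a := fun a ha b hb => hBcomm b hb a (hBF ha)
  have hA : F.map H.subtype = B := le_antisymm (fun f hf =>
    mem_of_commute_normal hprim hH hep hBne hBH (hnorm Z hZn) hBab
      (Subgroup.map_subtype_le _ hf) (fun b hb => hBcomm b hb f hf)) hBF
  refine ⟨F.map H.subtype, rfl, hA ▸ hBne, Subgroup.map_subtype_le _,
    hnorm F inferInstance, hA ▸ hBab, ?_⟩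
  rw [hA]
  haveI : Nontrivial B := (Subgroup.nontrivial_iff_ne_bot B).2 hBne
  obtain ⟨p, hp, hpd⟩ := Nat.exists_prime_and_dvd (Finite.one_lt_card (α := B)).ne'
  haveI : Fact p.Prime := ⟨hp⟩
  let P : Subgroup G :=
    { carrier := {x | x ∈ B ∧ x ^ p = 1}
      one_mem' := ⟨one_mem _, one_pow _⟩
      mul_mem' := fun {a b} ha hb => ⟨mul_mem ha.1 hb.1, by
        rw [(show Commute a b from hBab a ha.1 b hb.1).mul_pow, ha.2, hb.2, one_mul]⟩
      inv_mem' := fun {a} ha => ⟨inv_mem ha.1, by rw [inv_pow, ha.2, inv_one]⟩ }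
  have hPne : P ≠ ⊥ := by
    obtain ⟨z, hz⟩ := exists_prime_orderOf_dvd_card' (G := B) p hpd
    intro h
    have h1 : (z : G) ∈ P := ⟨z.2, by
      rw [← hz, ← Subgroup.orderOf_coe]; exact pow_orderOf_eq_one _⟩
    rw [h, Subgroup.mem_bot] at h1
    rw [show z = 1 from Subtype.ext h1, orderOf_one] at hz
    exact hp.ne_one hz.symm
  have hPn : H ≤ Subgroup.normalizer (P : Set G) := by
    intro h hh
    rw [Subgroup.mem_normalizer_iff]
    intro x
    have hmem := Subgroup.mem_normalizer_iff.1 (hnorm Z hZn hh) x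
    show (x ∈ B ∧ x ^ p = 1) ↔ (h * x * h⁻¹ ∈ B ∧ (h * x * h⁻¹) ^ p = 1)
    rw [conj_pow, conj_eq_one_iff]
    exact and_congr_left fun _ => hmem
  have hexp : ∀ a ∈ B, a ^ p = 1 := fun a ha =>
    (mem_of_commute_normal hprim hH hep hPne (fun x hx => hBH hx.1) hPn
      (fun x hx y hy => hBab x hx.1 y hy.1) (hBH ha) (fun b hb => hBab a ha b hb.1) : a ∈ P).2
  obtain ⟨e, he⟩ := IsPGroup.iff_card.1 (show IsPGroup p B from fun x => ⟨1, by
    rw [pow_one]; exact Subtype.ext (by simpa using hexp x x.2)⟩)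
  refine ⟨p, e, hp, ?_, he, hexp⟩
  rcases Nat.eq_zero_or_pos e with h0 | h0
  · rw [h0, pow_zero] at he
    have := Finite.one_lt_card (α := B)
    omega
  · exact h0

omit hprim hH hep

/-- An action by additive endomorphisms on a finite `ZMod p`-module as matrices. -/
theorem exists_matrix_hom_of_addEnd {H M : Type*} [Group H] [AddCommGroup M] {p e : ℕ}
    [Fact p.Prime] [Module (ZMod p) M] [Finite M] (hcard : Nat.card M = p ^ e)
    (f : H →* AddMonoid.End M) :
    ∃ φ : H →* GL (Fin e) (ZMod p), ∀ h, φ h = 1 ↔ f h = 1 := by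
  classical
  haveI : Module.Finite (ZMod p) M := Module.Finite.of_finite
  have hr : Module.finrank (ZMod p) M = e := by
    have h : Nat.card M = Nat.card (ZMod p) ^ Module.finrank (ZMod p) M :=
      Module.natCard_eq_pow_finrank
    rw [hcard, Nat.card_zmod] at h
    exact (Nat.pow_right_injective (Fact.out : p.Prime).two_le h).symm
  let b : Module.Basis (Fin e) (ZMod p) M := Module.finBasisOfFinrankEq _ _ hr
  let L : H →* Module.End (ZMod p) M :=
    { toFun := fun h =>
        { toFun := fun x => f h x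
          map_add' := map_add (f h)
          map_smul' := fun c x => ZMod.map_smul (f h) c x }
      map_one' := LinearMap.ext fun x => by
        show f 1 x = x
        rw [map_one]
        rfl
      map_mul' := fun g h => LinearMap.ext fun x => by
        show f (g * h) x = f g (f h x)
        rw [map_mul]
        rfl }
  refine ⟨((LinearMap.toMatrixAlgEquiv b).toAlgHom.toMonoidHom.comp L).toHomUnits, fun h => ?_⟩
  rw [Units.ext_iff]
  show LinearMap.toMatrixAlgEquiv b (L h) = 1 ↔ _
  rw [map_eq_one_iff _ (LinearMap.toMatrixAlgEquiv b).injective]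
  constructor
  · intro hL
    refine AddMonoidHom.ext fun x => ?_
    exact LinearMap.congr_fun hL x
  · intro hc
    refine LinearMap.ext fun x => ?_
    show f h x = x
    rw [hc]
    rfl

/-- An action by automorphisms on an elementary abelian group as a matrix representation. -/
theorem exists_matrix_hom_of_mulAut {H F : Type*} [Group H] [CommGroup F] [Finite F] {p e : ℕ}
    [Fact p.Prime] (hexp : ∀ a : F, a ^ p = 1) (hcard : Nat.card F = p ^ e) (ψ : H →* MulAut F) :
    ∃ φ : H →* GL (Fin e) (ZMod p), φ.ker = ψ.ker := by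
  let inst : Module (ZMod p) (Additive F) := AddCommGroup.zmodModule fun x => by
    show Additive.ofMul ((Additive.toMul x) ^ p) = 0
    rw [hexp]
    rfl
  haveI : Finite (Additive F) := Finite.of_equiv F Additive.ofMul
  let f : H →* AddMonoid.End (Additive F) :=
    { toFun := fun h => MonoidHom.toAdditive (ψ h).toMonoidHom
      map_one' := by rw [map_one]; rfl
      map_mul' := fun g h => by rw [map_mul]; rfl }
  obtain ⟨φ, hφ⟩ := @exists_matrix_hom_of_addEnd H (Additive F) _ _ p e _ inst _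
    ((Nat.card_congr Additive.toMul).trans hcard) f
  refine ⟨φ, ?_⟩
  ext h
  rw [MonoidHom.mem_ker, MonoidHom.mem_ker, hφ]
  constructor
  · intro hf
    ext a
    exact congrArg Additive.toMul (DFunLike.congr_fun hf (Additive.ofMul a))
  · intro hc
    refine AddMonoidHom.ext fun x => ?_
    show Additive.ofMul ((ψ h) (Additive.toMul x)) = x
    rw [hc]
    rfl

/-- The conjugation action on an elementary abelian normal subgroup as a matrix representation. -/
theorem exists_matrix_hom {H : Type*} [Group H] [Finite H] (F : Subgroup H) [F.Normal]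
    {p e : ℕ} [Fact p.Prime] (hab : ∀ a b : F, a * b = b * a) (hexp : ∀ a : F, a ^ p = 1)
    (hcard : Nat.card F = p ^ e) :
    ∃ φ : H →* GL (Fin e) (ZMod p), φ.ker = Subgroup.centralizer (F : Set H) := by
  haveI : IsMulCommutative F := ⟨⟨hab⟩⟩
  letI : CommGroup F := { (inferInstance : Group F) with mul_comm := hab }
  obtain ⟨φ, hφ⟩ := exists_matrix_hom_of_mulAut (H := H) (F := F) hexp hcard MulAut.conjNormal
  refine ⟨φ, hφ.trans ?_⟩
  ext h
  rw [MonoidHom.mem_ker, Subgroup.mem_centralizer_iff]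
  constructor
  · intro hh a ha
    have h2 : h * a * h⁻¹ = a := congrArg Subtype.val (DFunLike.congr_fun hh (⟨a, ha⟩ : F))
    calc a * h = h * a * h⁻¹ * h := by rw [h2]
      _ = h * a := by group
  · intro hc
    ext a
    show h * (a : H) * h⁻¹ = a
    rw [← hc _ a.2, mul_inv_cancel_right]

end Cfsg.Agent.RecogA
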