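import Mathlib

/-!
When a linear map has a fixed space of dimension at least two and its characteristic polynomial
divides `X ^ N - 1`, the sum of its first `N` powers vanishes.
-/

namespace Cfsg.Agent.RecogA

open Polynomial Module

variable {F V : Type*} [Field F] [AddCommGroup V] [Module F V] [FiniteDimensional F V]

theorem charpoly_of_fixed_subspace (f : Module.End F V) {W W' : Submodule F V} (hc : IsCompl W W')
    (hW : ∀ w ∈ W, f w = w) :
    ∃ P : F[X], f.charpoly = (X - 1) ^ finrank F W * P ∧ ∀ v, aeval f P v ∈ W := by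
  classical
  let π : V →ₗ[F] W' := W'.projectionOnto W hc.symm
  let D : Module.End F W' := π ∘ₗ f ∘ₗ W'.subtype
  have hπ : ∀ v, v - (π v : V) ∈ W := fun v => by
    obtain ⟨w, hw, w', hw', rfl⟩ := Submodule.mem_sup.1 (hc.sup_eq_top ▸ Submodule.mem_top (x := v))
    have : π (w + w') = ⟨w', hw'⟩ := by
      rw [map_add]
      have h1 : π w = 0 := (Submodule.projectionOnto_apply_eq_zero_iff hc.symm).2 hw
      have h2 : π w' = ⟨w', hw'⟩ := Submodule.projectionOnto_apply_left hc.symm ⟨w', hw'⟩
      rw [h1, h2, zero_add]
    rw [this, add_sub_cancel_right]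
    exact hw
  have hcomm : ∀ v, π (f v) = D (π v) := fun v => by
    conv_lhs => rw [← sub_add_cancel v (π v : V), map_add, hW _ (hπ v), map_add,
      (Submodule.projectionOnto_apply_eq_zero_iff hc.symm).2 (hπ v), zero_add]
    rfl
  refine ⟨D.charpoly, ?_, fun v => ?_⟩
  · let e := W.prodEquivOfIsCompl W' hc
    let f' : Module.End F (W × W') := e.symm.conj f
    have hcp : f'.charpoly = f.charpoly := LinearEquiv.charpoly_conj e.symm f
    let b := Module.finBasis F W
    let b' := Module.finBasis F W'
    rw [← hcp, ← LinearMap.charpoly_toMatrix f' (b.prod b')]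
    have hf' : ∀ x, e (f' x) = f (e x) := fun x => by
      show e (e.symm (f (e.symm.symm x))) = _
      rw [LinearEquiv.apply_symm_apply, LinearEquiv.symm_symm]
    have he : ∀ x, e x = (x.1 : V) + x.2 := fun x => Submodule.coe_prodEquivOfIsCompl' _ _ hc x
    have hf1 : ∀ w : W, f' (w, 0) = (w, 0) := fun w => e.injective (by
      rw [hf', he]
      simpa using hW _ w.2)
    have hf2 : ∀ w' : W', (f' (0, w')).2 = D w' := fun w' => by
      have h1 := congrArg π (hf' (0, w'))
      rw [he, he, map_add, (Submodule.projectionOnto_apply_eq_zero_iff hc.symm).2 (Subtype.prop _),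
        zero_add, Submodule.projectionOnto_apply_left, ZeroMemClass.coe_zero, zero_add] at h1
      exact h1
    clear_value f' D
    have hM : LinearMap.toMatrix (b.prod b') (b.prod b') f' = Matrix.fromBlocks 1
        (Matrix.of fun i j => b.repr (f' (0, b' j)).1 i) 0 (LinearMap.toMatrix b' b' D) := by
      refine Matrix.ext fun i j => ?_
      rw [LinearMap.toMatrix_apply]
      rcases i with i | i <;> rcases j with j | j
      · rw [Module.Basis.prod_apply]
        simp only [LinearMap.coe_inl, Sum.elim_inl, Function.comp_apply, hf1,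
          Module.Basis.prod_repr_inl, Module.Basis.repr_self, Matrix.fromBlocks_apply₁₁]
        rw [Finsupp.single_apply, Matrix.one_apply]
        simp only [eq_comm]
      · rw [Module.Basis.prod_apply]
        simp only [LinearMap.coe_inr, Sum.elim_inr, Function.comp_apply,
          Module.Basis.prod_repr_inl, Matrix.fromBlocks_apply₁₂, Matrix.of_apply]
      · rw [Module.Basis.prod_apply]
        simp only [LinearMap.coe_inl, Sum.elim_inl, Function.comp_apply, hf1,
          Module.Basis.prod_repr_inr, map_zero, Finsupp.coe_zero, Pi.zero_apply,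
          Matrix.fromBlocks_apply₂₁, Matrix.zero_apply]
      · rw [Module.Basis.prod_apply]
        simp only [LinearMap.coe_inr, Sum.elim_inr, Function.comp_apply, hf2,
          Module.Basis.prod_repr_inr, Matrix.fromBlocks_apply₂₂, LinearMap.toMatrix_apply]
    rw [hM, Matrix.charpoly_fromBlocks_zero₂₁, Matrix.charpoly_one, Fintype.card_fin,
      LinearMap.charpoly_toMatrix]
  · have key : ∀ (R : F[X]), π (aeval f R v) = aeval D R (π v) := fun R => by
      induction R using Polynomial.induction_on generalizing v with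
      | C r => simp
      | add p q hp hq => simp [hp, hq]
      | monomial n r ih =>
        rw [pow_succ, ← mul_assoc, map_mul (aeval f) _ X, map_mul (aeval D) _ X, Module.End.mul_apply,
          Module.End.mul_apply, aeval_X, aeval_X, ← hcomm, ih]
    have := key D.charpoly
    rw [LinearMap.aeval_self_charpoly, LinearMap.zero_apply] at this
    exact (Submodule.projectionOnto_apply_eq_zero_iff hc.symm).1 this

theorem geom_sum_eq_zero_of_two_le (f : Module.End F V) {N : ℕ}
    (hk : 2 ≤ finrank F (LinearMap.ker (f - 1))) (hdvd : f.charpoly ∣ X ^ N - 1) :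
    ∑ i ∈ Finset.range N, f ^ i = 0 := by
  obtain ⟨W', hc⟩ := Submodule.exists_isCompl (LinearMap.ker (f - 1))
  have hfix : ∀ w ∈ LinearMap.ker (f - 1), f w = w := fun w hw => by
    simpa [sub_eq_zero] using hw
  obtain ⟨P, hP, hPW⟩ := charpoly_of_fixed_subspace f hc hfix
  have h1 : (X - 1) * ((X - 1) * P) ∣ (X - 1) * ∑ i ∈ Finset.range N, (X : F[X]) ^ i := by
    rw [mul_geom_sum]
    refine dvd_trans ?_ hdvd
    rw [hP, ← mul_assoc, ← pow_two]
    exact mul_dvd_mul_right (pow_dvd_pow _ hk) _
  have hne : (X - 1 : F[X]) ≠ 0 := by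
    rw [← C_1]; exact X_sub_C_ne_zero 1
  obtain ⟨R, hR⟩ := (mul_dvd_mul_iff_left hne).1 h1
  have h2 := congrArg (aeval f) hR
  simp only [map_sum, map_pow, aeval_X, map_mul, map_sub, map_one] at h2
  rw [h2]
  have h3 : (f - 1) * aeval f P = 0 := LinearMap.ext fun v => by
    simpa [sub_eq_zero] using hfix _ (hPW v)
  rw [h3, zero_mul]

end Cfsg.Agent.RecogA
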