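import Cfsg.Agent.RecogA.SiegelOrders
import Cfsg.Agent.Elusive25.Even

/-!
Element orders in the extension of the natural module by the commutator subgroup of an orthogonal
group in characteristic two.
-/

set_option autoImplicit false
set_option linter.unusedSectionVars false

namespace Cfsg.Agent.RecogA

open QuadraticMap Cfsg.Agent.Classical Cfsg.Agent.Forms
open scoped commutatorElement

variable {F : Type*} [Field F] {V : Type*} [AddCommGroup V] [Module F V]
  (Q : QuadraticForm F V)

/-- An isometry as an additive automorphism. -/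
def isoInt : OQ Q →* (V ≃ₗ[ℤ] V) where
  toFun g := g.1.restrictScalars ℤ
  map_one' := rfl
  map_mul' _ _ := rfl

theorem isoInt_injective : Function.Injective (isoInt Q) := fun g h e =>
  Subtype.ext (LinearEquiv.ext fun v => LinearEquiv.congr_fun e v)

/-- The commutator subgroup of the isometry group, as additive automorphisms. -/
def omegaInt : Subgroup (V ≃ₗ[ℤ] V) := (commutator (OQ Q)).map (isoInt Q)

variable {Q}

/-- The element of the model's point stabiliser attached to an isometry. -/
def toOmegaInt {u : OQ Q} (hu : u ∈ commutator (OQ Q)) : omegaInt Q := ⟨isoInt Q u, u, hu, rfl⟩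

theorem toOmegaInt_apply {u : OQ Q} (hu : u ∈ commutator (OQ Q)) (v : V) :
    (toOmegaInt hu : V ≃ₗ[ℤ] V) v = u.1 v := rfl

theorem orderOf_toOmegaInt {u : OQ Q} (hu : u ∈ commutator (OQ Q)) :
    orderOf (toOmegaInt hu) = orderOf u := by
  rw [← Subgroup.orderOf_coe]
  exact orderOf_injective _ (isoInt_injective Q) u

theorem mem_range_model {u : OQ Q} (hu : u ∈ commutator (OQ Q)) :
    orderOf u ∈ Set.range (orderOf : ModExt (omegaInt Q) → ℕ) :=
  ⟨SemidirectProduct.inr (toOmegaInt hu), by
    rw [orderOf_injective _ SemidirectProduct.inr_injective, orderOf_toOmegaInt]⟩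

variable [CharP F 2]

variable (F) in
include F in
theorem two_nsmul_eq_zero (v : V) : 2 • v = 0 := by
  rw [two_nsmul, vec_add_self F]

theorem model_two_mul {t : OQ Q} (ht : t ∈ commutator (OQ Q)) (hm : Odd (orderOf t)) {v : V}
    (hv : v ≠ 0) (htv : t.1 v = v) :
    2 * orderOf t ∈ Set.range (orderOf : ModExt (omegaInt Q) → ℕ) := by
  haveI : Fact (Nat.Prime 2) := ⟨Nat.prime_two⟩
  obtain ⟨g, hg⟩ := modExt_exists_fixed_order (two_nsmul_eq_zero F) (u := toOmegaInt ht) hv htv
    (by rw [orderOf_toOmegaInt]; exact Nat.coprime_two_left.2 hm)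
  exact ⟨g, by rw [hg, orderOf_toOmegaInt]⟩

/-- Multiplying an element of the model by a commuting odd element which fixes the translation. -/
theorem model_mul_commuting {t σ : OQ Q} (ht : t ∈ commutator (OQ Q)) (hσ : σ ∈ commutator (OQ Q))
    {y : V} (hty : t.1 y = y) (hc : Commute t σ) (hm : Odd (orderOf t)) {k : ℕ}
    (hk : orderOf (⟨Multiplicative.ofAdd y, toOmegaInt hσ⟩ : ModExt (omegaInt Q)) = 2 ^ k) :
    2 ^ k * orderOf t ∈ Set.range (orderOf : ModExt (omegaInt Q) → ℕ) := by
  set h : ModExt (omegaInt Q) := ⟨Multiplicative.ofAdd y, toOmegaInt hσ⟩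
  have hc' : Commute h (SemidirectProduct.inr (toOmegaInt ht)) := by
    refine SemidirectProduct.ext (Multiplicative.toAdd.injective ?_) (Subtype.ext ?_)
    · simp only [h, SemidirectProduct.mul_left, SemidirectProduct.left_inr, map_one, mul_one,
        SemidirectProduct.right_inr, one_mul]
      exact hty.symm
    · show isoInt Q σ * isoInt Q t = isoInt Q t * isoInt Q σ
      rw [← map_mul, ← map_mul, hc.eq]
  refine ⟨h * SemidirectProduct.inr (toOmegaInt ht), ?_⟩
  rw [hc'.orderOf_mul_eq_mul_orderOf_of_coprime, hk,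
    orderOf_injective _ SemidirectProduct.inr_injective, orderOf_toOmegaInt]
  rw [hk, orderOf_injective _ SemidirectProduct.inr_injective, orderOf_toOmegaInt]
  exact Nat.Coprime.pow_left _ (Nat.coprime_two_left.2 hm)

variable [Finite F] [FiniteDimensional F V] [Finite V]

theorem model_four_mul (hB : BNondeg Q) (hx : OrthGen.NotExceptional Q) {t : OQ Q}
    (ht : t ∈ commutator (OQ Q)) (hm : Odd (orderOf t)) {u y a w : V}
    (h : SiegelConfig Q u y a w) (htu : t.1 u = u) (hty : t.1 y = y) (hta : t.1 a = a)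
    (htw : t.1 w = w) :
    4 * orderOf t ∈ Set.range (orderOf : ModExt (omegaInt Q) → ℕ) := by
  have hσ := mul_self_mem_commutator hB hx h.elt
  haveI : Fact (Nat.Prime 2) := ⟨Nat.prime_two⟩
  refine model_mul_commuting ht hσ hty ((h.commute_elt htu hta htw).mul_right
    (h.commute_elt htu hta htw)) hm (k := 2) ?_
  refine orderOf_eq_prime_pow (n := 1) (fun e => h.elt_sq_moves ?_) ?_
  · rw [pow_one] at e
    have h1 := congrArg (fun g : ModExt (omegaInt Q) => g.left.toAdd) e
    simp only [modExt_pow_left, Finset.sum_range_succ, Finset.sum_range_zero, zero_add, pow_zero,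
      pow_one, toAdd_ofAdd, SemidirectProduct.one_left, toAdd_one] at h1
    have h2 : y + (h.elt * h.elt).1 y = 0 := h1
    rw [← sub_eq_zero, sub_eq_add_even F, add_comm]
    exact h2
  · refine orderOf_dvd_iff_pow_eq_one.1 ((modExt_orderOf_dvd_mul (d := 2) (two_nsmul_eq_zero F) ?_).trans
      (by norm_num))
    apply Subtype.ext
    show isoInt Q (h.elt * h.elt) ^ 2 = 1
    rw [← map_pow, ← pow_two, ← pow_mul, h.elt_pow_four, map_one]

theorem siegel_mem_commutator {u a w : V} (hu : Q u = 0) (hua : polar Q u a = 0)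
    (huw : polar Q u w = 0) (hw : Q w ≠ 0) (haw : polar Q a w ≠ 0) :
    siegel Q hu huw ∈ commutator (OQ Q) := by
  set a' := (Q w * (polar Q w a)⁻¹) • a with ha'
  have hua' : polar Q u a' = 0 := by rw [ha', polar_smul_right, hua, smul_zero]
  have hmem : ⁅siegel Q hu hua', reflQ Q w hw⁆ ∈ commutator (OQ Q) :=
    Subgroup.commutator_mem_commutator (Subgroup.mem_top _) (Subgroup.mem_top _)
  have hru : (reflQ Q w hw).1 u = u := OrthGen.reflQ_fix Q hw (by rw [polar_comm, huw])
  have hinv : (siegel Q hu hua')⁻¹ = siegel Q hu hua' :=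
    inv_eq_of_mul_eq_one_right (siegel_sq_eq_one hu hua')
  have h1 := siegel_conj Q (reflQ Q w hw) hu hua'
  rw [commutatorElement_def, hinv, reflQ_inv] at hmem
  rw [reflQ_inv] at h1
  rw [mul_assoc (siegel Q hu hua') (reflQ Q w hw), mul_assoc (siegel Q hu hua'), h1,
    siegel_congr _ _ hu (show polar Q u ((reflQ Q w hw).1 a') = 0 by
      conv_lhs => arg 2; rw [← hru]
      rw [OQ_polar, hua']) hru rfl, siegel_mul] at hmem
  convert hmem using 1
  refine siegel_congr _ _ _ _ rfl ?_
  rw [reflQ_apply, sub_eq_add_even F, ← add_assoc, vec_add_self F, zero_add, ha', polar_smul_right,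
    smul_eq_mul, ← mul_assoc, ← mul_assoc, inv_mul_cancel₀ hw, one_mul,
    inv_mul_cancel₀ (polar_comm Q a w ▸ haw), one_smul]

theorem model_eight_mul (hB : BNondeg Q) (hx : OrthGen.NotExceptional Q) {t : OQ Q}
    (ht : t ∈ commutator (OQ Q)) (hm : Odd (orderOf t)) {u y a w b : V}
    (h : SiegelConfig Q u y a w) (hw : Q w ≠ 0) (hb : Q b ≠ 0) (hbu : polar Q b u = 0)
    (hby : polar Q b y = 0) (hba : polar Q b a = 0) (hbw : polar Q b w = 0) (htu : t.1 u = u)
    (hty : t.1 y = y) (hta : t.1 a = a) (htw : t.1 w = w) (htb : t.1 b = b) :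
    8 * orderOf t ∈ Set.range (orderOf : ModExt (omegaInt Q) → ℕ) := by
  set rb := reflQ Q b hb with hrb
  set σ := h.elt * rb with hσdef
  have hσ : σ ∈ commutator (OQ Q) := by
    rw [hσdef, SiegelConfig.elt, mul_assoc]
    refine mul_mem (siegel_mem_commutator h.qu h.ua h.uw hw h.aw) ?_
    have h2 := (refls_mem_commutator_iff hB hx [⟨a, h.qa⟩, ⟨b, hb⟩]).2 ⟨by simp, by
      haveI := Fintype.ofFinite F
      exact FiniteField.isSquare_of_char_two (ringChar.eq F 2) _⟩
    simpa [hrb] using h2
  have hcb : Commute rb h.elt := h.commute_elt (OrthGen.reflQ_fix Q hb hbu)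
    (OrthGen.reflQ_fix Q hb hba) (OrthGen.reflQ_fix Q hb hbw)
  have hry : rb.1 y = y := OrthGen.reflQ_fix Q hb hby
  have hσn : ∀ n, (σ ^ n).1 y = (h.elt ^ n).1 y := fun n => by
    have hfix : (rb ^ n).1 y = y := by
      induction n with
      | zero => rfl
      | succ n ih => rw [pow_succ, Subgroup.coe_mul, LinearEquiv.mul_apply, hry, ih]
    rw [hσdef, hcb.symm.mul_pow, Subgroup.coe_mul, LinearEquiv.mul_apply, hfix]
  have hσ4 : σ ^ 4 = 1 := by
    rw [hσdef, hcb.symm.mul_pow, h.elt_pow_four, one_mul, show (4 : ℕ) = 2 * 2 from rfl, pow_mul,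
      pow_two rb, reflQ_mul_self, one_pow]
  haveI : Fact (Nat.Prime 2) := ⟨Nat.prime_two⟩
  refine model_mul_commuting ht hσ hty ((h.commute_elt htu hta htw).mul_right
    (commute_reflQ_of_fixed hb htb)) hm (k := 3) ?_
  refine orderOf_eq_prime_pow (n := 2) (fun e => h.sum_coeff_ne_zero ?_) ?_
  · rw [← h.elt_sum]
    have h1 := congrArg (fun g : ModExt (omegaInt Q) => g.left.toAdd) e
    simp only [modExt_pow_left, Nat.reducePow, Finset.sum_range_succ, Finset.sum_range_zero,
      zero_add, toAdd_ofAdd, SemidirectProduct.one_left, toAdd_one] at h1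
    have h2 : (σ ^ 0).1 y + (σ ^ 1).1 y + (σ ^ 2).1 y + (σ ^ 3).1 y = 0 := h1
    rw [hσn, hσn, hσn, hσn, pow_one, pow_succ h.elt 2, pow_two] at h2
    exact h2
  · refine orderOf_dvd_iff_pow_eq_one.1 ((modExt_orderOf_dvd_mul (d := 4) (two_nsmul_eq_zero F) ?_).trans
      (by norm_num))
    apply Subtype.ext
    show isoInt Q σ ^ 4 = 1
    rw [← map_pow, hσ4, map_one]

end Cfsg.Agent.RecogA
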