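import Cfsg.Agent.Classical.OrthForms

/-!
Orthogonal sums of the standard quadratic forms of plus and minus type.
-/

set_option autoImplicit false

namespace Cfsg.Agent.RecogA

open QuadraticMap Cfsg.Agent.Classical

section SumHom

variable {F : Type*} [Field F] {V₁ V₂ V : Type*} [AddCommGroup V₁] [Module F V₁] [AddCommGroup V₂]
  [Module F V₂] [AddCommGroup V] [Module F V] {R₁ : QuadraticForm F V₁} {R₂ : QuadraticForm F V₂}
  {Q : QuadraticForm F V}

/-- Isometry groups of orthogonal summands inside the isometry group of the sum. -/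
def sumHom (e : (V₁ × V₂) ≃ₗ[F] V) (h : ∀ v, Q (e v) = R₁ v.1 + R₂ v.2) :
    OQ R₁ × OQ R₂ →* OQ Q :=
  (OQCongr (Q := R₁.prod R₂) (R := Q) e fun v => by rw [h, QuadraticMap.prod_apply]).toMonoidHom.comp
    { toFun := fun g => ⟨g.1.1.prodCongr g.2.1, fun v => by simp [QuadraticMap.prod_apply]⟩
      map_one' := rfl
      map_mul' := fun _ _ => rfl }

theorem sumHom_apply (e : (V₁ × V₂) ≃ₗ[F] V) (h : ∀ v, Q (e v) = R₁ v.1 + R₂ v.2)
    (g : OQ R₁ × OQ R₂) (x : V₁) (y : V₂) :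
    (sumHom e h g).1 (e (x, y)) = e (g.1.1 x, g.2.1 y) := by
  simp only [sumHom, OQCongr, MonoidHom.comp_apply, MulEquiv.toMonoidHom_eq_coe, MonoidHom.coe_coe,
    MulEquiv.coe_mk, Equiv.coe_fn_mk, LinearEquiv.trans_apply, LinearEquiv.symm_apply_apply]
  rfl

theorem sumHom_injective (e : (V₁ × V₂) ≃ₗ[F] V) (h : ∀ v, Q (e v) = R₁ v.1 + R₂ v.2) :
    Function.Injective (sumHom e h) := by
  intro g g' hg
  have key : ∀ x y, g.1.1 x = g'.1.1 x ∧ g.2.1 y = g'.2.1 y := fun x y => by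
    have h1 := congrArg (fun k : OQ Q => k.1 (e (x, y))) hg
    simp only [sumHom_apply] at h1
    exact Prod.ext_iff.1 (e.injective h1)
  exact Prod.ext (Subtype.ext (LinearEquiv.ext fun x => (key x 0).1))
    (Subtype.ext (LinearEquiv.ext fun y => (key 0 y).2))

theorem orderOf_sumHom (e : (V₁ × V₂) ≃ₗ[F] V) (h : ∀ v, Q (e v) = R₁ v.1 + R₂ v.2)
    (g : OQ R₁ × OQ R₂) : orderOf (sumHom e h g) = Nat.lcm (orderOf g.1) (orderOf g.2) := by
  rw [orderOf_injective _ (sumHom_injective e h), Prod.orderOf]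

theorem sumHom_fix_right (e : (V₁ × V₂) ≃ₗ[F] V) (h : ∀ v, Q (e v) = R₁ v.1 + R₂ v.2)
    (g : OQ R₁) (y : V₂) : (sumHom e h (g, 1)).1 (e (0, y)) = e (0, y) := by
  rw [sumHom_apply, map_zero]; rfl

theorem sumHom_fix_left (e : (V₁ × V₂) ≃ₗ[F] V) (h : ∀ v, Q (e v) = R₁ v.1 + R₂ v.2)
    (g : OQ R₂) (x : V₁) : (sumHom e h (1, g)).1 (e (x, 0)) = e (x, 0) := by
  rw [sumHom_apply, map_zero]; rfl

end SumHom

variable {F : Type*} [Field F]

/-- Plus type and minus type: coordinates of the sum. -/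
def plusMinus (k m : ℕ) :
    ((Fin k ⊕ Fin k → F) × ((Fin m ⊕ Fin m) ⊕ Fin 2 → F)) ≃ₗ[F]
      ((Fin (k + m) ⊕ Fin (k + m)) ⊕ Fin 2 → F) where
  toFun v := Sum.elim (Sum.elim
    (Fin.append (fun i => v.1 (.inl i)) fun i => v.2 (.inl (.inl i)))
    (Fin.append (fun i => v.1 (.inr i)) fun i => v.2 (.inl (.inr i)))) fun i => v.2 (.inr i)
  invFun w := (Sum.elim (fun i => w (.inl (.inl (i.castAdd m)))) (fun i => w (.inl (.inr (i.castAdd m)))),
    Sum.elim (Sum.elim (fun i => w (.inl (.inl (i.natAdd k)))) (fun i => w (.inl (.inr (i.natAdd k)))))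
      fun i => w (.inr i))
  map_add' u v := by ext ((i | i) | i) <;> (try refine Fin.addCases ?_ ?_ i) <;> simp
  map_smul' c v := by ext ((i | i) | i) <;> (try refine Fin.addCases ?_ ?_ i) <;> simp
  left_inv v := Prod.ext (by ext (i | i) <;> simp) (by ext ((i | i) | i) <;> simp)
  right_inv w := by ext ((i | i) | i) <;> (try refine Fin.addCases ?_ ?_ i) <;> simp

theorem plusMinus_spec (k m : ℕ) (a b : F)
    (v : (Fin k ⊕ Fin k → F) × ((Fin m ⊕ Fin m) ⊕ Fin 2 → F)) :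
    minusQF (k + m) a b (plusMinus k m v) = plusQF k F v.1 + minusQF m a b v.2 := by
  simp [minusQF_apply, plusQF_apply, Cfsg.quadFormMinus, Cfsg.quadFormPlus, plusMinus,
    Fin.sum_univ_add, add_assoc]

/-- Plus type and plus type: coordinates of the sum. -/
def plusPlus (k m : ℕ) :
    ((Fin k ⊕ Fin k → F) × (Fin m ⊕ Fin m → F)) ≃ₗ[F] (Fin (k + m) ⊕ Fin (k + m) → F) where
  toFun v := Sum.elim
    (Fin.append (fun i => v.1 (.inl i)) fun i => v.2 (.inl i))
    (Fin.append (fun i => v.1 (.inr i)) fun i => v.2 (.inr i))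
  invFun w := (Sum.elim (fun i => w (.inl (i.castAdd m))) (fun i => w (.inr (i.castAdd m))),
    Sum.elim (fun i => w (.inl (i.natAdd k))) (fun i => w (.inr (i.natAdd k))))
  map_add' u v := by ext (i | i) <;> refine Fin.addCases ?_ ?_ i <;> simp
  map_smul' c v := by ext (i | i) <;> refine Fin.addCases ?_ ?_ i <;> simp
  left_inv v := Prod.ext (by ext (i | i) <;> simp) (by ext (i | i) <;> simp)
  right_inv w := by ext (i | i) <;> refine Fin.addCases ?_ ?_ i <;> simp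

theorem plusPlus_spec (k m : ℕ) (v : (Fin k ⊕ Fin k → F) × (Fin m ⊕ Fin m → F)) :
    plusQF (k + m) F (plusPlus k m v) = plusQF k F v.1 + plusQF m F v.2 := by
  simp [plusQF_apply, Cfsg.quadFormPlus, plusPlus, Fin.sum_univ_add]

variable [CharP F 2]

/-- Two planes of minus type make a space of plus type. -/
noncomputable def minusMinus {a : F} (ha : a ≠ 0) (b : F) :
    (((Fin 0 ⊕ Fin 0) ⊕ Fin 2 → F) × ((Fin 0 ⊕ Fin 0) ⊕ Fin 2 → F)) ≃ₗ[F]
      (Fin 2 ⊕ Fin 2 → F) where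
  toFun v := Sum.elim ![v.1 (.inr 0) + v.2 (.inr 0), v.1 (.inr 1) + v.2 (.inr 1)]
    ![v.1 (.inr 0) + v.2 (.inr 0) + a * v.2 (.inr 1),
      b * (v.1 (.inr 1) + v.2 (.inr 1)) + a * v.1 (.inr 0)]
  invFun w :=
    let z₁ := a⁻¹ * (w (.inl 0) + w (.inr 0))
    let y₀ := a⁻¹ * (b * w (.inl 1) + w (.inr 1))
    (Sum.elim isEmptyElim ![y₀, w (.inl 1) + z₁], Sum.elim isEmptyElim ![w (.inl 0) + y₀, z₁])
  map_add' u v := by ext (i | i) <;> fin_cases i <;> simp <;> ring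
  map_smul' c v := by ext (i | i) <;> fin_cases i <;> simp <;> ring
  left_inv v := by
    have h2 : (2 : F) = 0 := CharTwo.two_eq_zero
    refine Prod.ext ?_ ?_ <;> ext ((i | i) | i) <;>
      first | exact i.elim0 | (fin_cases i <;> simp <;> field_simp <;> grind)
  right_inv w := by
    have h2 : (2 : F) = 0 := CharTwo.two_eq_zero
    ext (i | i) <;> fin_cases i <;> simp <;> field_simp <;> grind

theorem minusMinus_spec {a : F} (ha : a ≠ 0) (b : F)
    (v : ((Fin 0 ⊕ Fin 0) ⊕ Fin 2 → F) × ((Fin 0 ⊕ Fin 0) ⊕ Fin 2 → F)) :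
    plusQF 2 F (minusMinus ha b v) = minusQF 0 a b v.1 + minusQF 0 a b v.2 := by
  have h2 : (2 : F) = 0 := CharTwo.two_eq_zero
  simp [minusQF_apply, plusQF_apply, Cfsg.quadFormMinus, Cfsg.quadFormPlus, minusMinus,
    Fin.sum_univ_two]
  grind

end Cfsg.Agent.RecogA
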