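import Cfsg.Agent.RecogA.OcticOrders
import Cfsg.Agent.RecogA.OrthTori
import Cfsg.Agent.RecogA.OrthSplit
import Cfsg.Agent.RecogA.OmegaModel

/-!
The maximal element orders of `Sp(8, q)` occur in the orthogonal group of minus type in dimension
eight and in the extension of its natural module by its commutator subgroup, `q` even.
-/

set_option autoImplicit false
set_option linter.unusedSimpArgs false

namespace Cfsg.Agent.RecogA

open QuadraticMap Cfsg.Agent.Classical Cfsg.Agent.Forms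

section Summand

variable {F : Type*} [Field F] {V₁ V₂ V : Type*} [AddCommGroup V₁] [Module F V₁] [AddCommGroup V₂]
  [Module F V₂] [AddCommGroup V] [Module F V] {R₁ : QuadraticForm F V₁} {R₂ : QuadraticForm F V₂}
  {Q : QuadraticForm F V} (e : (V₁ × V₂) ≃ₗ[F] V) (h : ∀ v, Q (e v) = R₁ v.1 + R₂ v.2)

include h in
theorem sum_right_value (y : V₂) : Q (e (0, y)) = R₂ y := by simp [h]

include h in
theorem sum_left_value (x : V₁) : Q (e (x, 0)) = R₁ x := by simp [h]

include h in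
theorem sum_right_polar (y z : V₂) : polar Q (e (0, y)) (e (0, z)) = polar R₂ y z := by
  rw [polar, polar, ← map_add, Prod.mk_add_mk, add_zero, sum_right_value e h, sum_right_value e h,
    sum_right_value e h]

include h in
theorem SiegelConfig.sum_right {u y a w : V₂} (c : SiegelConfig R₂ u y a w) :
    SiegelConfig Q (e (0, u)) (e (0, y)) (e (0, a)) (e (0, w)) := by
  constructor <;> simp only [sum_right_value e h, sum_right_polar e h]
  exacts [c.qu, c.qy, c.uy, c.ua, c.ya, c.uw, c.yw, c.qa, c.aw]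

end Summand

variable {F : Type*} [Field F] [Fintype F] [CharP F 2]

local notation "q" => Fintype.card F

theorem even_card_of_charTwo : Even q := by
  obtain ⟨n, -, hn⟩ := FiniteField.card F 2
  rw [hn]
  exact (Nat.even_pow.2 ⟨even_two, n.ne_zero⟩)

theorem odd_pow_card_add_one {k : ℕ} (hk : k ≠ 0) : Odd (q ^ k + 1) :=
  (Nat.even_pow.2 ⟨even_card_of_charTwo, hk⟩).add_one

theorem odd_pow_card_sub_one {k : ℕ} (hk : k ≠ 0) : Odd (q ^ k - 1) :=
  Nat.Even.sub_odd (Nat.one_le_pow _ _ Fintype.card_pos)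
    (Nat.even_pow.2 ⟨even_card_of_charTwo, hk⟩) odd_one

theorem coprime_add_sub_card {k : ℕ} (hk : k ≠ 0) : Nat.Coprime (q ^ k + 1) (q ^ k - 1) := by
  set d := Nat.gcd (q ^ k + 1) (q ^ k - 1) with hd
  have h1 : d ∣ q ^ k + 1 := Nat.gcd_dvd_left _ _
  have h2 : d ∣ q ^ k - 1 := Nat.gcd_dvd_right _ _
  have h3 : d ∣ 2 := by
    have h := Nat.dvd_sub h1 h2
    rwa [show q ^ k + 1 - (q ^ k - 1) = 2 by
      have := Nat.one_le_pow k q Fintype.card_pos
      omega] at h
  rcases (Nat.dvd_prime Nat.prime_two).1 h3 with h | h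
  · exact h
  · exact absurd (even_iff_two_dvd.2 (h ▸ h1)) (Nat.not_even_iff_odd.2 (odd_pow_card_add_one hk))

variable {a b : F}

/-- The natural module of the model. -/
abbrev MinusEight (F : Type*) := (Fin 3 ⊕ Fin 3) ⊕ Fin 2 → F

theorem mem_both {N : ℕ} {g : OQ (minusQF 3 a b)} (hB : BNondeg (minusQF 3 a b))
    (hx : OrthGen.NotExceptional (minusQF 3 a b)) (hg : orderOf g = N) (hN : Odd N) :
    N ∈ Set.range (orderOf : OQ (minusQF 3 a b) → ℕ) ∧
      N ∈ Set.range (orderOf : ModExt (omegaInt (minusQF 3 a b)) → ℕ) :=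
  ⟨⟨g, hg⟩, hg ▸ mem_range_model (Elusive25.mem_commutator_of_pow hB hx (hg ▸ hN)
    (pow_orderOf_eq_one g))⟩

theorem mem_both_two {N : ℕ} {g : OQ (minusQF 3 a b)} (hB : BNondeg (minusQF 3 a b))
    (hx : OrthGen.NotExceptional (minusQF 3 a b)) (hg : orderOf g = N) (hN : Odd N) {x : MinusEight F}
    (hQx : minusQF 3 a b x ≠ 0) (hgx : g.1 x = x) :
    2 * N ∈ Set.range (orderOf : OQ (minusQF 3 a b) → ℕ) ∧
      2 * N ∈ Set.range (orderOf : ModExt (omegaInt (minusQF 3 a b)) → ℕ) := by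
  subst hg
  exact ⟨exists_order_two_mul hB hN hQx hgx, model_two_mul
    (Elusive25.mem_commutator_of_pow hB hx hN (pow_orderOf_eq_one g)) hN
    (fun h => hQx (by rw [h, map_zero])) hgx⟩

theorem mem_both_four {N : ℕ} {g : OQ (minusQF 3 a b)} (hB : BNondeg (minusQF 3 a b))
    (hx : OrthGen.NotExceptional (minusQF 3 a b)) (hg : orderOf g = N) (hN : Odd N)
    {u y c w : MinusEight F} (h : SiegelConfig (minusQF 3 a b) u y c w) (hu : g.1 u = u)
    (hy : g.1 y = y) (hc : g.1 c = c) (hw : g.1 w = w) :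
    4 * N ∈ Set.range (orderOf : OQ (minusQF 3 a b) → ℕ) ∧
      4 * N ∈ Set.range (orderOf : ModExt (omegaInt (minusQF 3 a b)) → ℕ) := by
  subst hg
  exact ⟨exists_order_four_mul hN h hu hc hw, model_four_mul hB hx
    (Elusive25.mem_commutator_of_pow hB hx hN (pow_orderOf_eq_one g)) hN h hu hy hc hw⟩

/-- Two, and one, hyperbolic planes. -/
def split21 : ((Fin 2 ⊕ Fin 2 → F) × ((Fin 1 ⊕ Fin 1) ⊕ Fin 2 → F)) ≃ₗ[F] MinusEight F :=
  plusMinus 2 1

/-- One, and two, hyperbolic planes. -/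
def split12 : ((Fin 1 ⊕ Fin 1 → F) × ((Fin 2 ⊕ Fin 2) ⊕ Fin 2 → F)) ≃ₗ[F] MinusEight F :=
  plusMinus 1 2

/-- Three hyperbolic planes and none. -/
def split30 : ((Fin 3 ⊕ Fin 3 → F) × ((Fin 0 ⊕ Fin 0) ⊕ Fin 2 → F)) ≃ₗ[F] MinusEight F :=
  plusMinus 3 0

/-- Two hyperbolic planes. -/
def split11 : ((Fin 1 ⊕ Fin 1 → F) × (Fin 1 ⊕ Fin 1 → F)) ≃ₗ[F] (Fin 2 ⊕ Fin 2 → F) :=
  plusPlus 1 1

theorem split21_spec (a b : F) (v : (Fin 2 ⊕ Fin 2 → F) × ((Fin 1 ⊕ Fin 1) ⊕ Fin 2 → F)) :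
    minusQF 3 a b (split21 v) = plusQF 2 F v.1 + minusQF 1 a b v.2 := plusMinus_spec 2 1 a b v

theorem split12_spec (a b : F) (v : (Fin 1 ⊕ Fin 1 → F) × ((Fin 2 ⊕ Fin 2) ⊕ Fin 2 → F)) :
    minusQF 3 a b (split12 v) = plusQF 1 F v.1 + minusQF 2 a b v.2 := plusMinus_spec 1 2 a b v

theorem split30_spec (a b : F) (v : (Fin 3 ⊕ Fin 3 → F) × ((Fin 0 ⊕ Fin 0) ⊕ Fin 2 → F)) :
    minusQF 3 a b (split30 v) = plusQF 3 F v.1 + minusQF 0 a b v.2 := plusMinus_spec 3 0 a b v

theorem split11_spec (v : (Fin 1 ⊕ Fin 1 → F) × (Fin 1 ⊕ Fin 1 → F)) :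
    plusQF 2 F (split11 v) = plusQF 1 F v.1 + plusQF 1 F v.2 := plusPlus_spec 1 1 v

/-- The order `q⁴ + 1`. -/
theorem witness_singer (han : BinaryAniso a b) :
    ∃ g : OQ (minusQF 3 a b), orderOf g = q ^ 4 + 1 := exists_orderOf_minus_torus 3 han

/-- The order `q⁴ - 1`. -/
theorem witness_two_one (han : BinaryAniso a b) :
    ∃ g : OQ (minusQF 3 a b), orderOf g = q ^ 4 - 1 := by
  obtain ⟨s, hs⟩ := exists_orderOf_plus_torus (F := F) 2
  obtain ⟨t, ht⟩ := exists_orderOf_minus_torus 1 han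
  refine ⟨sumHom (split21) (split21_spec a b) (s, t), ?_⟩
  refine (orderOf_sumHom _ _ _).trans ?_
  rw [hs, ht, show (1 + 1 : ℕ) = 2 from rfl,
    (coprime_add_sub_card (F := F) two_ne_zero).symm.lcm_eq_mul, pow_four_sub_one, mul_comm]

/-- The order `(q³ + 1)(q - 1)`. -/
theorem witness_one_two (han : BinaryAniso a b) :
    ∃ g : OQ (minusQF 3 a b), orderOf g = (q ^ 3 + 1) * (q - 1) := by
  obtain ⟨s, hs⟩ := exists_orderOf_plus_torus (F := F) 1
  obtain ⟨t, ht⟩ := exists_orderOf_minus_torus 2 han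
  refine ⟨sumHom (split12) (split12_spec a b) (s, t), ?_⟩
  refine (orderOf_sumHom _ _ _).trans ?_
  rw [hs, ht, pow_one, Nat.lcm_comm,
    ((coprime_add_sub_card (F := F) three_ne_zero).coprime_dvd_right
      (cube_dvd q Fintype.card_pos).2).lcm_eq_mul]

/-- The order `(q³ - 1)(q + 1)`. -/
theorem witness_three_zero (han : BinaryAniso a b) :
    ∃ g : OQ (minusQF 3 a b), orderOf g = (q ^ 3 - 1) * (q + 1) := by
  obtain ⟨s, hs⟩ := exists_orderOf_plus_torus (F := F) 3
  obtain ⟨t, ht⟩ := exists_orderOf_minus_torus 0 han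
  refine ⟨sumHom (split30) (split30_spec a b) (s, t), ?_⟩
  refine (orderOf_sumHom _ _ _).trans ?_
  rw [hs, ht, show q ^ (0 + 1) = q by simp,
    ((coprime_add_sub_card (F := F) three_ne_zero).symm.coprime_dvd_right
      (cube_dvd q Fintype.card_pos).1).lcm_eq_mul]

/-- All the orders. -/
theorem sp8Orders_mem (han : BinaryAniso a b) :
    ∀ N ∈ sp8Orders q, N ∈ Set.range (orderOf : OQ (minusQF 3 a b) → ℕ) ∧
      N ∈ Set.range (orderOf : ModExt (omegaInt (minusQF 3 a b)) → ℕ) := by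
  have hB : BNondeg (minusQF 3 a b) := Elusive25.bNondeg_minusQF han
  have hx : OrthGen.NotExceptional (minusQF 3 a b) := notExceptional_of (Or.inr (by simp))
  have ha : a ≠ 0 := fun h => binDisc_ne_zero (anisotropic_binQF han) (by
    have h2 : (2 : F) = 0 := CharTwo.two_eq_zero
    linear_combination a * h - 2 * b * h2)
  have hb : b ≠ 0 := fun h => one_ne_zero (han 0 1 (by simp [h])).2
  have h2 : (2 : F) = 0 := CharTwo.two_eq_zero
  have hc2 := coprime_add_sub_card (F := F) two_ne_zero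
  have he2 := sq_sub_one_eq q
  intro N hN
  simp only [sp8Orders, Finset.mem_insert, Finset.mem_singleton] at hN
  rcases hN with rfl | rfl | rfl | rfl | rfl | rfl | rfl | rfl | rfl | rfl | rfl | rfl
  · obtain ⟨g, hg⟩ := witness_singer han
    exact mem_both hB hx hg (odd_pow_card_add_one (by norm_num))
  · obtain ⟨g, hg⟩ := witness_two_one han
    exact mem_both hB hx hg (odd_pow_card_sub_one (by norm_num))
  · obtain ⟨g, hg⟩ := witness_one_two han
    exact mem_both hB hx hg ((odd_pow_card_add_one three_ne_zero).mul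
      (by simpa using odd_pow_card_sub_one (F := F) one_ne_zero))
  · obtain ⟨g, hg⟩ := witness_three_zero han
    exact mem_both hB hx hg ((odd_pow_card_sub_one three_ne_zero).mul
      (by simpa using odd_pow_card_add_one (F := F) one_ne_zero))
  · obtain ⟨s, hs⟩ := exists_orderOf_plus_torus (F := F) 3
    let x : (Fin 0 ⊕ Fin 0) ⊕ Fin 2 → F := Sum.elim 0 ![1, 0]
    refine mem_both_two hB hx (g := sumHom (split30) (split30_spec a b) (s, 1))
      ((orderOf_sumHom _ _ _).trans (by simp [hs])) (odd_pow_card_sub_one three_ne_zero)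
      (x := split30 (0, x)) ?_ (sumHom_fix_right _ _ _ _)
    rw [sum_right_value (split30 (F := F)) (split30_spec a b)]
    simp [minusQF_apply, Cfsg.quadFormMinus, x]
  · obtain ⟨t, ht⟩ := exists_orderOf_minus_torus 2 han
    let x : Fin 1 ⊕ Fin 1 → F := 1
    refine mem_both_two hB hx (g := sumHom (split12) (split12_spec a b) (1, t))
      ((orderOf_sumHom _ _ _).trans (by simp [ht])) (odd_pow_card_add_one three_ne_zero)
      (x := split12 (x, 0)) ?_ (sumHom_fix_left _ _ _ _)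
    rw [sum_left_value (split12 (F := F)) (split12_spec a b)]
    simp [plusQF_apply, Cfsg.quadFormPlus, x]
  · obtain ⟨s, hs⟩ := exists_orderOf_plus_torus (F := F) 1
    obtain ⟨t, ht⟩ := exists_orderOf_minus_torus 1 han
    let S : OQ (plusQF 2 F) := sumHom (split11) (split11_spec) (s, 1)
    have hS : orderOf S = q - 1 := (orderOf_sumHom _ _ _).trans (by simp [hs])
    let x : Fin 1 ⊕ Fin 1 → F := 1
    let X : Fin 2 ⊕ Fin 2 → F := split11 (0, x)
    refine mem_both_two hB hx (g := sumHom (split21) (split21_spec a b) (S, t))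
      ((orderOf_sumHom _ _ _).trans ?_) ((odd_pow_card_add_one two_ne_zero).mul
        (by simpa using odd_pow_card_sub_one (F := F) one_ne_zero))
      (x := split21 (X, 0)) ?_ ?_
    · rw [hS, ht, Nat.lcm_comm, show (1 + 1 : ℕ) = 2 from rfl,
        (hc2.coprime_dvd_right (by rw [he2]; exact dvd_mul_left _ _)).lcm_eq_mul]
    · rw [sum_left_value (split21 (F := F)) (split21_spec a b)]
      show plusQF 2 F (split11 (0, x)) ≠ 0
      rw [sum_right_value (split11 (F := F)) (split11_spec)]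
      simp [plusQF_apply, Cfsg.quadFormPlus, x]
    · rw [sumHom_apply, map_zero]
      congr 2
      exact sumHom_fix_right _ _ _ _
  · obtain ⟨s, hs⟩ := exists_orderOf_minus_torus 0 han
    obtain ⟨t, ht⟩ := exists_orderOf_minus_torus 1 han
    let S : OQ (plusQF 2 F) := sumHom (minusMinus ha b) (minusMinus_spec ha b) (s, 1)
    have hS : orderOf S = q + 1 := (orderOf_sumHom _ _ _).trans (by simp [hs])
    let x : (Fin 0 ⊕ Fin 0) ⊕ Fin 2 → F := Sum.elim 0 ![1, 0]
    let X : Fin 2 ⊕ Fin 2 → F := minusMinus ha b (0, x)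
    refine mem_both_two hB hx (g := sumHom (split21) (split21_spec a b) (S, t))
      ((orderOf_sumHom _ _ _).trans ?_) ((odd_pow_card_add_one two_ne_zero).mul
        (by simpa using odd_pow_card_add_one (F := F) one_ne_zero))
      (x := split21 (X, 0)) ?_ ?_
    · rw [hS, ht, Nat.lcm_comm, show (1 + 1 : ℕ) = 2 from rfl,
        (hc2.coprime_dvd_right (by rw [he2]; exact dvd_mul_right _ _)).lcm_eq_mul]
    · rw [sum_left_value (split21 (F := F)) (split21_spec a b),
        sum_right_value (minusMinus ha b) (minusMinus_spec ha b)]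
      simp [minusQF_apply, Cfsg.quadFormMinus, x]
    · rw [sumHom_apply, map_zero]
      congr 2
      exact sumHom_fix_right _ _ _ _
  · obtain ⟨s, hs⟩ := exists_orderOf_plus_torus (F := F) 2
    let u : (Fin 1 ⊕ Fin 1) ⊕ Fin 2 → F := Sum.elim (Sum.elim 1 0) 0
    let y : (Fin 1 ⊕ Fin 1) ⊕ Fin 2 → F := Sum.elim (Sum.elim 0 1) 0
    let c : (Fin 1 ⊕ Fin 1) ⊕ Fin 2 → F := Sum.elim 0 ![1, 0]
    let w : (Fin 1 ⊕ Fin 1) ⊕ Fin 2 → F := Sum.elim 0 ![0, 1]
    have hcfg : SiegelConfig (minusQF 1 a b) u y c w := by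
      constructor <;> simp [polar, minusQF_apply, Cfsg.quadFormMinus, u, y, c, w, ha] <;> grind
    refine mem_both_four hB hx (g := sumHom (split21) (split21_spec a b) (s, 1))
      ((orderOf_sumHom _ _ _).trans (by simp [hs])) (odd_pow_card_sub_one two_ne_zero)
      (hcfg.sum_right (split21) (split21_spec a b))
      (sumHom_fix_right _ _ _ _) (sumHom_fix_right _ _ _ _) (sumHom_fix_right _ _ _ _)
      (sumHom_fix_right _ _ _ _)
  · obtain ⟨t, ht⟩ := exists_orderOf_minus_torus 1 han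
    let u : Fin 2 ⊕ Fin 2 → F := Sum.elim ![1, 0] 0
    let y : Fin 2 ⊕ Fin 2 → F := Sum.elim 0 ![1, 0]
    let c : Fin 2 ⊕ Fin 2 → F := Sum.elim ![0, 1] ![0, 1]
    let w : Fin 2 ⊕ Fin 2 → F := Sum.elim ![0, 1] 0
    let ι : (Fin 2 ⊕ Fin 2 → F) → MinusEight F := fun v => split21 (v, 0)
    have hQ : ∀ v, minusQF 3 a b (ι v) = plusQF 2 F v :=
      sum_left_value (split21 (F := F)) (split21_spec a b)
    have hadd : ∀ v v', ι (v + v') = ι v + ι v' := fun v v' => by
      show split21 (v + v', 0) = split21 (v, 0) + split21 (v', 0)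
      rw [← map_add, Prod.mk_add_mk, add_zero]
    have hcfg : SiegelConfig (minusQF 3 a b) (ι u) (ι y) (ι c) (ι w) := by
      constructor <;> simp only [polar, ← hadd, hQ] <;>
        simp [plusQF_apply, Cfsg.quadFormPlus, u, y, c, w, Fin.sum_univ_two] <;> grind
    exact mem_both_four hB hx (g := sumHom (split21) (split21_spec a b) (1, t))
      ((orderOf_sumHom _ _ _).trans (by simp [ht])) (odd_pow_card_add_one two_ne_zero) hcfg
      (sumHom_fix_left _ _ _ _) (sumHom_fix_left _ _ _ _) (sumHom_fix_left _ _ _ _)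
      (sumHom_fix_left _ _ _ _)
  · obtain ⟨s, hs⟩ := exists_orderOf_plus_torus (F := F) 1
    set g : OQ (minusQF 3 a b) := sumHom (split12) (split12_spec a b) (s, 1) with hgdef
    have hg : orderOf g = q - 1 := (orderOf_sumHom _ _ _).trans (by simp [hs])
    have hodd : Odd (orderOf g) := hg ▸ by simpa using odd_pow_card_sub_one (F := F) one_ne_zero
    let u₀ : (Fin 2 ⊕ Fin 2) ⊕ Fin 2 → F := Sum.elim (Sum.elim ![1, 0] 0) 0
    let y₀ : (Fin 2 ⊕ Fin 2) ⊕ Fin 2 → F := Sum.elim (Sum.elim 0 ![1, 0]) 0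
    let u₁ : (Fin 2 ⊕ Fin 2) ⊕ Fin 2 → F := Sum.elim (Sum.elim ![0, 1] 0) 0
    let y₁ : (Fin 2 ⊕ Fin 2) ⊕ Fin 2 → F := Sum.elim (Sum.elim 0 ![0, 1]) 0
    let c : (Fin 2 ⊕ Fin 2) ⊕ Fin 2 → F := Sum.elim 0 ![1, 0]
    let w : (Fin 2 ⊕ Fin 2) ⊕ Fin 2 → F := Sum.elim 0 ![0, 1]
    let d : (Fin 2 ⊕ Fin 2) ⊕ Fin 2 → F := Sum.elim (Sum.elim ![0, 1] ![0, 1]) 0
    let ι : ((Fin 2 ⊕ Fin 2) ⊕ Fin 2 → F) → MinusEight F := fun v => split12 (0, v)
    have hV : ∀ v, minusQF 3 a b (ι v) = minusQF 2 a b v :=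
      sum_right_value (split12 (F := F)) (split12_spec a b)
    have hP : ∀ v v', polar (minusQF 3 a b) (ι v) (ι v') = polar (minusQF 2 a b) v v' :=
      sum_right_polar (split12 (F := F)) (split12_spec a b)
    have hf : ∀ v, g.1 (ι v) = ι v := sumHom_fix_right _ _ _
    have c0 : SiegelConfig (minusQF 3 a b) (ι u₀) (ι y₀) (ι c) (ι w) := by
      constructor <;> simp only [hV, hP] <;>
        simp [polar, minusQF_apply, Cfsg.quadFormMinus, u₀, y₀, c, w, ha, Fin.sum_univ_two] <;> grind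
    have c1 : SiegelConfig (minusQF 3 a b) (ι u₁) (ι y₁) (ι c) (ι w) := by
      constructor <;> simp only [hV, hP] <;>
        simp [polar, minusQF_apply, Cfsg.quadFormMinus, u₁, y₁, c, w, ha, Fin.sum_univ_two] <;> grind
    constructor
    · rw [← hg]
      refine exists_order_eight_mul hodd c1 c0.qu c0.uy ?_ ?_ c0.ua c0.uw ?_ (hf _) (hf _) (hf _)
        (hf _) (hf _) <;> rw [hP] <;>
          simp [polar, minusQF_apply, Cfsg.quadFormMinus, u₀, y₀, u₁, y₁, Fin.sum_univ_two] <;> grind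
    · rw [← hg]
      refine model_eight_mul hB hx
        (Elusive25.mem_commutator_of_pow hB hx hodd (pow_orderOf_eq_one g)) hodd c0 (b := ι d)
        ?_ ?_ ?_ ?_ ?_ ?_ (hf _) (hf _) (hf _) (hf _) (hf _) <;> simp only [hV, hP] <;>
          simp [polar, minusQF_apply, Cfsg.quadFormMinus, u₀, y₀, c, w, d, hb, Fin.sum_univ_two] <;>
            grind
  · obtain ⟨t, ht⟩ := exists_orderOf_minus_torus 0 han
    set g : OQ (minusQF 3 a b) := sumHom (split30) (split30_spec a b) (1, t) with hgdef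
    have hg : orderOf g = q + 1 := (orderOf_sumHom _ _ _).trans (by simp [ht])
    have hodd : Odd (orderOf g) := hg ▸ by simpa using odd_pow_card_add_one (F := F) one_ne_zero
    let u₀ : Fin 3 ⊕ Fin 3 → F := Sum.elim ![1, 0, 0] 0
    let y₀ : Fin 3 ⊕ Fin 3 → F := Sum.elim 0 ![1, 0, 0]
    let u₁ : Fin 3 ⊕ Fin 3 → F := Sum.elim ![0, 1, 0] 0
    let y₁ : Fin 3 ⊕ Fin 3 → F := Sum.elim 0 ![0, 1, 0]
    let c : Fin 3 ⊕ Fin 3 → F := Sum.elim ![0, 0, 1] ![0, 0, 1]
    let w : Fin 3 ⊕ Fin 3 → F := Sum.elim ![0, 0, 1] 0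
    let c' : Fin 3 ⊕ Fin 3 → F := Sum.elim ![0, 1, 0] ![0, 1, 0]
    let w' : Fin 3 ⊕ Fin 3 → F := Sum.elim ![0, 1, 1] ![0, 0, 1]
    let d : Fin 3 ⊕ Fin 3 → F := Sum.elim ![0, 1, 1] ![0, 1, 0]
    let ι : (Fin 3 ⊕ Fin 3 → F) → MinusEight F := fun v => split30 (v, 0)
    have hV : ∀ v, minusQF 3 a b (ι v) = plusQF 3 F v :=
      sum_left_value (split30 (F := F)) (split30_spec a b)
    have hP : ∀ v v', polar (minusQF 3 a b) (ι v) (ι v') = polar (plusQF 3 F) v v' := fun v v' => by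
      have : ι (v + v') = ι v + ι v' := by
        show split30 (v + v', 0) = split30 (v, 0) + split30 (v', 0)
        rw [← map_add, Prod.mk_add_mk, add_zero]
      rw [polar, polar, ← this, hV, hV, hV]
    have hf : ∀ v, g.1 (ι v) = ι v := sumHom_fix_left _ _ _
    have c0 : SiegelConfig (minusQF 3 a b) (ι u₀) (ι y₀) (ι c') (ι w') := by
      constructor <;> simp only [hV, hP] <;>
        simp [polar, plusQF_apply, Cfsg.quadFormPlus, u₀, y₀, c', w', Fin.sum_univ_three] <;> grind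
    have c1 : SiegelConfig (minusQF 3 a b) (ι u₁) (ι y₁) (ι c) (ι w) := by
      constructor <;> simp only [hV, hP] <;>
        simp [polar, plusQF_apply, Cfsg.quadFormPlus, u₁, y₁, c, w, Fin.sum_univ_three] <;> grind
    constructor
    · rw [← hg]
      refine exists_order_eight_mul hodd c1 c0.qu c0.uy ?_ ?_ ?_ ?_ ?_ (hf _) (hf _) (hf _)
        (hf _) (hf _) <;> rw [hP] <;>
          simp [polar, plusQF_apply, Cfsg.quadFormPlus, u₀, y₀, u₁, y₁, c, w, Fin.sum_univ_three] <;>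
            grind
    · rw [← hg]
      refine model_eight_mul hB hx
        (Elusive25.mem_commutator_of_pow hB hx hodd (pow_orderOf_eq_one g)) hodd c0 (b := ι d)
        ?_ ?_ ?_ ?_ ?_ ?_ (hf _) (hf _) (hf _) (hf _) (hf _) <;> simp only [hV, hP] <;>
          simp [polar, plusQF_apply, Cfsg.quadFormPlus, u₀, y₀, c', w', d, Fin.sum_univ_three] <;>
            grind

end Cfsg.Agent.RecogA
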