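import Cfsg.Agent.RecogA.MinusToSymp
import Cfsg.Agent.RecogA.MinusEightWitness
import Cfsg.Agent.RecogA.GeomSum

/-!
The element orders of `Sp(8, q)`, of the orthogonal group of minus type in dimension eight and of
the extension of its natural module by its commutator subgroup coincide, `q` even.
-/

set_option autoImplicit false

namespace Cfsg.Agent.RecogA

open QuadraticMap Polynomial Cfsg.Agent.Classical Cfsg.Agent.Forms

variable {F : Type*} [Field F] [Fintype F] [CharP F 2] {a b : F}

local notation "q" => Fintype.card F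

theorem exists_charpoly_dvd_minus_eight (ha : a ≠ 0) (g : OQ (minusQF 3 a b)) :
    ∃ N ∈ sp8Orders q, LinearMap.charpoly g.1.toLinearMap ∣ X ^ N - 1 := by
  obtain ⟨hm, hd, hs⟩ := charpoly_symplectic_eight (minusToSymp ha g)
  obtain ⟨N, hN, h⟩ := palindromic_octic_dvd hm hd hs
  refine ⟨N, hN, ?_⟩
  have e : ((minusToSymp ha g).val : Matrix (Fin 4 ⊕ Fin 4) (Fin 4 ⊕ Fin 4) F).charpoly =
      LinearMap.charpoly g.1.toLinearMap := by
    show (LinearMap.toMatrix' ((sympCoord ha).conj g.1.toLinearMap)).charpoly = _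
    rw [← LinearMap.toMatrix_eq_toMatrix', LinearMap.charpoly_toMatrix, LinearEquiv.charpoly_conj]
  rwa [← e]

theorem orderOf_modExt_minus_eight_dvd (han : BinaryAniso a b)
    (h : ModExt (omegaInt (minusQF 3 a b))) : ∃ N ∈ sp8Orders q, orderOf h ∣ N := by
  have hB : BNondeg (minusQF 3 a b) := Elusive25.bNondeg_minusQF han
  have hx : OrthGen.NotExceptional (minusQF 3 a b) := notExceptional_of (Or.inr (by simp))
  obtain ⟨g, hg, hgh⟩ := h.right.2
  obtain ⟨N, hN, hdvd⟩ := exists_charpoly_dvd_minus_eight (coeff_ne_zero_of_aniso han) g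
  refine ⟨N, hN, ?_⟩
  set f : Module.End F (MinusEight F) := g.1.toLinearMap with hf
  have hfN : f ^ N = 1 := by
    obtain ⟨R, hR⟩ := hdvd
    have := congrArg (aeval f) hR
    rwa [map_mul, LinearMap.aeval_self_charpoly, zero_mul, map_sub, map_pow, aeval_X, map_one,
      sub_eq_zero] at this
  have hpow : ∀ (k : ℕ) (v : MinusEight F),
      ((h.right ^ k : omegaInt (minusQF 3 a b)) : MinusEight F ≃ₗ[ℤ] MinusEight F) v = (f ^ k) v := by
    intro k
    induction k with
    | zero => intro v; rfl
    | succ k ih =>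
      intro v
      rw [pow_succ, pow_succ, Subgroup.coe_mul, Module.End.mul_apply, ← ih]
      show ((h.right ^ k : omegaInt (minusQF 3 a b)) : MinusEight F ≃ₗ[ℤ] MinusEight F) _ = _
      rw [← hgh]
      rfl
  have hd : h.right ^ N = 1 := Subtype.ext (LinearEquiv.ext fun v => by
    rw [hpow, hfN]; rfl)
  by_cases hfix : ∀ v, g.1 v = v → v = 0
  · exact modExt_orderOf_dvd_of_fpf hd fun v hv => hfix v (by rw [← hgh] at hv; exact hv)
  · push Not at hfix
    obtain ⟨v, hv, hv0⟩ := hfix
    have hdick : Classical.dickson g = 1 := dickson_of_mem_commutator hB hx hg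
    have hpos : 0 < Module.finrank F (fixSpace g) :=
      Module.finrank_pos_iff_exists_ne_zero.2 ⟨⟨v, mem_fixSpace.2 hv⟩, fun e => hv0 (congrArg Subtype.val e)⟩
    rw [Classical.dickson, show Module.finrank F (MinusEight F) = 8 by simp] at hdick
    have hev : Even (Module.finrank F (fixSpace g)) := by
      by_contra ho
      rw [Nat.not_even_iff_odd] at ho
      rw [(ho.add_even ⟨4, rfl⟩).neg_one_pow] at hdick
      exact absurd hdick (by decide)
    have hk : 2 ≤ Module.finrank F (LinearMap.ker (f - 1)) := by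
      obtain ⟨c, hc⟩ := hev
      show 2 ≤ Module.finrank F (fixSpace g)
      omega
    refine orderOf_dvd_of_pow_eq_one (modExt_pow_eq_one hd ?_)
    simp only [hpow]
    rw [← LinearMap.sum_apply, geom_sum_eq_zero_of_two_le f hk hdvd]
    rfl

theorem range_orderOf_modExt_minus_eight (han : BinaryAniso a b) :
    Set.range (orderOf : ModExt (omegaInt (minusQF 3 a b)) → ℕ) =
      {n | ∃ N ∈ sp8Orders q, n ∣ N} := by
  haveI : Finite (MinusEight F ≃ₗ[ℤ] MinusEight F) :=
    Finite.of_injective (fun e => (e : MinusEight F → MinusEight F)) DFunLike.coe_injective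
  haveI : Finite (ModExt (omegaInt (minusQF 3 a b))) :=
    Finite.of_equiv _ SemidirectProduct.equivProd.symm
  ext n
  constructor
  · rintro ⟨h, rfl⟩
    exact orderOf_modExt_minus_eight_dvd han h
  · rintro ⟨N, hN, hn⟩
    exact Spectrum.mem_range_orderOf_of_dvd (sp8Orders_mem han N hN).2 hn

theorem range_orderOf_sp_eight (han : BinaryAniso a b) :
    Set.range (orderOf : Matrix.symplecticGroup (Fin 4) F → ℕ) =
        Set.range (orderOf : OQ (minusQF 3 a b) → ℕ) ∧
      Set.range (orderOf : Matrix.symplecticGroup (Fin 4) F → ℕ) =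
        {n | ∃ N ∈ sp8Orders q, n ∣ N} := by
  haveI : Finite (OQ (minusQF 3 a b)) := Finite.of_injective _ (minusToSymp_injective
    (coeff_ne_zero_of_aniso han))
  have h1 := range_orderOf_minus_eight_subset han
  have h2 := range_orderOf_sp_eight_subset (F := F)
  have h3 : {n | ∃ N ∈ sp8Orders q, n ∣ N} ⊆ Set.range (orderOf : OQ (minusQF 3 a b) → ℕ) :=
    fun n ⟨N, hN, hn⟩ => Spectrum.mem_range_orderOf_of_dvd (sp8Orders_mem han N hN).1 hn
  exact ⟨Set.Subset.antisymm (h2.trans h3) h1, Set.Subset.antisymm h2 (h3.trans h1)⟩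

end Cfsg.Agent.RecogA
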