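import Cfsg.Agent.RecogA.SpEightUpper
import Cfsg.Agent.Classical.CharTwoSymp

/-!
The orthogonal group of minus type in dimension eight inside `Sp(8, q)`, `q` even.
-/

namespace Cfsg.Agent.RecogA

open QuadraticMap Matrix Cfsg.Agent.Classical

variable {F : Type*} [Field F] [CharP F 2] {a b : F}

theorem coeff_ne_zero_of_aniso [Finite F]
    (han : ∀ z₁ z₂ : F, z₁ ^ 2 + a * z₁ * z₂ + b * z₂ ^ 2 = 0 → z₁ = 0 ∧ z₂ = 0) : a ≠ 0 := by
  intro h
  exact binDisc_ne_zero (anisotropic_binQF han) (by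
    have h2 : (2 : F) = 0 := CharTwo.two_eq_zero
    linear_combination a * h - 2 * b * h2)

/-- Symplectic coordinates for the polar form. -/
noncomputable def sympCoord (ha : a ≠ 0) :
    ((Fin 3 ⊕ Fin 3) ⊕ Fin 2 → F) ≃ₗ[F] (Fin 4 ⊕ Fin 4 → F) where
  toFun v := Sum.elim ![v (.inl (.inl 0)), v (.inl (.inl 1)), v (.inl (.inl 2)), v (.inr 0)]
    ![v (.inl (.inr 0)), v (.inl (.inr 1)), v (.inl (.inr 2)), a * v (.inr 1)]
  invFun w := Sum.elim (Sum.elim ![w (.inl 0), w (.inl 1), w (.inl 2)]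
    ![w (.inr 0), w (.inr 1), w (.inr 2)]) ![w (.inl 3), a⁻¹ * w (.inr 3)]
  map_add' u v := by ext (i | i) <;> fin_cases i <;> simp [mul_add]
  map_smul' c v := by ext (i | i) <;> fin_cases i <;> simp [mul_left_comm]
  left_inv v := by ext ((i | i) | i) <;> fin_cases i <;> simp [ha]
  right_inv w := by ext (i | i) <;> fin_cases i <;> simp [ha]

theorem polar_minusQF_three (ha : a ≠ 0) (u v : (Fin 3 ⊕ Fin 3) ⊕ Fin 2 → F) :
    Cfsg.sympForm 4 F (sympCoord ha u) (sympCoord ha v) = polar (minusQF 3 a b) u v := by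
  have h2 : (2 : F) = 0 := CharTwo.two_eq_zero
  simp [polar, minusQF_apply, Cfsg.quadFormMinus, Forms.sympForm_apply, Fin.sum_univ_four,
    Fin.sum_univ_three, sympCoord]
  grind

theorem charTwoSymp_mulVec (f : (Fin 4 ⊕ Fin 4 → F) →ₗ[F] (Fin 4 ⊕ Fin 4 → F))
    (x : Fin 4 ⊕ Fin 4 → F) : LinearMap.toMatrix' f *ᵥ x = f x :=
  Exc.mulVec_toMatrix' f x

/-- From the orthogonal group to the symplectic group. -/
noncomputable def minusToSymp (ha : a ≠ 0) :
    OQ (minusQF 3 a b) →* Matrix.symplecticGroup (Fin 4) F where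
  toFun g := ⟨LinearMap.toMatrix' ((sympCoord ha).conj g.1.toLinearMap),
    Forms.mem_symplecticGroup_iff_sympForm.2 fun x y => by
      rw [charTwoSymp_mulVec, charTwoSymp_mulVec, LinearEquiv.conj_apply_apply,
        LinearEquiv.conj_apply_apply, polar_minusQF_three (b := b), LinearEquiv.coe_coe, OQ_polar,
        ← polar_minusQF_three (b := b) ha, LinearEquiv.apply_symm_apply,
        LinearEquiv.apply_symm_apply]⟩
  map_one' := Subtype.ext (by
    show LinearMap.toMatrix' ((sympCoord ha).conj LinearMap.id) = 1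
    rw [LinearEquiv.conj_id, LinearMap.toMatrix'_id])
  map_mul' g h := Subtype.ext (by
    show LinearMap.toMatrix' ((sympCoord ha).conj (g.1.toLinearMap ∘ₗ h.1.toLinearMap)) = _
    rw [LinearEquiv.conj_comp, LinearMap.toMatrix'_comp]
    rfl)

theorem minusToSymp_injective (ha : a ≠ 0) :
    Function.Injective (minusToSymp (b := b) ha) := by
  intro g h e
  exact Subtype.ext (LinearEquiv.toLinearMap_injective
    ((sympCoord ha).conj.injective (LinearMap.toMatrix'.injective (congrArg Subtype.val e))))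

theorem range_orderOf_minus_eight_subset [Finite F]
    (han : ∀ z₁ z₂ : F, z₁ ^ 2 + a * z₁ * z₂ + b * z₂ ^ 2 = 0 → z₁ = 0 ∧ z₂ = 0) :
    Set.range (orderOf : OQ (minusQF 3 a b) → ℕ) ⊆
      Set.range (orderOf : Matrix.symplecticGroup (Fin 4) F → ℕ) := by
  rintro _ ⟨g, rfl⟩
  exact ⟨_, orderOf_injective _ (minusToSymp_injective (coeff_ne_zero_of_aniso han)) g⟩

end Cfsg.Agent.RecogA
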