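import Cfsg.Agent.RecogA.OddWitness
import Cfsg.Agent.InvClasses25.Orth
import Cfsg.Agent.Spectrum.Linear

/-!
`Ω(9, q)` and the extension of the natural module by `Ω⁻(8, q)` have the same element orders.
-/

set_option autoImplicit false

namespace Cfsg.Agent.RecogA

open QuadraticMap Module Cfsg.Agent.Classical Cfsg.Agent.Forms Cfsg.Agent.SpecBC

variable {F : Type*} [Field F] [Fintype F] {p : ℕ} [Fact p.Prime] [CharP F p] {a b : F}

theorem bNondeg_sq_odd {F : Type*} [Field F] (h2 : (2 : F) ≠ 0) :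
    BNondeg (QuadraticMap.sq : QuadraticForm F F) := by
  intro x hx
  have h := hx 1
  simp only [polar, QuadraticMap.sq_apply] at h
  ring_nf at h
  exact (mul_eq_zero.1 h).resolve_right h2

theorem range_orderOf_nine_eight (hp : p ≠ 2) (hab : BinaryAniso a b) :
    Set.range (orderOf : commutator (OQ ((minusQF 3 a b).prod
        (QuadraticMap.sq : QuadraticForm F F))) → ℕ) =
      Set.range (orderOf : ModExt (omegaInt (minusQF 3 a b)) → ℕ) := by
  classical
  have h2 : (2 : F) ≠ 0 := Ring.two_ne_zero (by rw [ringChar.eq F p]; exact hp)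
  have hsq : BNondeg (QuadraticMap.sq : QuadraticForm F F) := bNondeg_sq_odd h2
  have hB : BNondeg (minusQF 3 a b) := bNondeg_minusQF_odd h2 3 hab
  have hB9 : BNondeg ((minusQF 3 a b).prod (QuadraticMap.sq : QuadraticForm F F)) :=
    bNondeg_prod hB hsq
  haveI : Finite (((Fin 3 ⊕ Fin 3) ⊕ Fin 2 → F) × F) := Module.finite_of_finite F
  haveI : Finite (OQ ((minusQF 3 a b).prod (QuadraticMap.sq : QuadraticForm F F))) :=
    Finite.of_injective (fun g => (g.1 : _ → _)) fun g h e =>
      Subtype.ext (DFunLike.coe_injective e)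
  haveI : Finite (((Fin 3 ⊕ Fin 3) ⊕ Fin 2 → F) ≃ₗ[ℤ] ((Fin 3 ⊕ Fin 3) ⊕ Fin 2 → F)) :=
    Finite.of_injective (fun e => (e : _ → _)) DFunLike.coe_injective
  haveI : Finite (ModExt (omegaInt (minusQF 3 a b))) :=
    Finite.of_equiv _ SemidirectProduct.equivProd.symm
  have hall := inBoth_orders hp hab
  have hG : ∀ g : commutator (OQ ((minusQF 3 a b).prod (QuadraticMap.sq : QuadraticForm F F))),
      ∃ N ∈ omegaNineOrders (Fintype.card F) p, orderOf g ∣ N := by
    intro g
    obtain ⟨N, hN, h⟩ := exists_pow_eq_one_nine hp hB9 (by simp [Module.finrank_prod]) g.2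
    exact ⟨N, hN, orderOf_dvd_of_pow_eq_one (Subtype.ext h)⟩
  have hMdl : ∀ h : ModExt (omegaInt (minusQF 3 a b)),
      ∃ N ∈ omegaNineOrders (Fintype.card F) p, orderOf h ∣ N := by
    intro h
    obtain ⟨g, hg, hgh⟩ := h.right.2
    obtain ⟨N, hN, h1, hsum⟩ := exists_pow_eq_one_eight hp hB (by simp) hg
    refine ⟨N, hN, ?_⟩
    have hk : ∀ k : ℕ, ((h.right ^ k : omegaInt (minusQF 3 a b)) :
        ((Fin 3 ⊕ Fin 3) ⊕ Fin 2 → F) ≃ₗ[ℤ] _) = isoInt _ (g ^ k) := fun k => by
      rw [SubgroupClass.coe_pow, map_pow, hgh]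
    refine orderOf_dvd_of_pow_eq_one (modExt_pow_eq_one (Subtype.ext ?_) ?_)
    · rw [hk, h1, map_one]; rfl
    · simp only [hk]
      have e := LinearMap.congr_fun hsum h.left.toAdd
      rw [LinearMap.sum_apply, LinearMap.zero_apply] at e
      refine Eq.trans (Finset.sum_congr rfl fun k _ => ?_) e
      rw [← map_pow]
      rfl
  ext n
  constructor
  · rintro ⟨g, rfl⟩
    obtain ⟨N, hN, hd⟩ := hG g
    exact Spectrum.mem_range_orderOf_of_dvd (hall N hN).2 hd
  · rintro ⟨h, rfl⟩
    obtain ⟨N, hN, hd⟩ := hMdl h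
    exact Spectrum.mem_range_orderOf_of_dvd (hall N hN).1 hd

theorem range_orderOf_congr {G H : Type*} [Group G] [Group H] (e : G ≃* H) :
    Set.range (orderOf : G → ℕ) = Set.range (orderOf : H → ℕ) := by
  ext n
  exact ⟨fun ⟨x, hx⟩ => ⟨e x, (MulEquiv.orderOf_eq _ _).trans hx⟩,
    fun ⟨x, hx⟩ => ⟨e.symm x, (MulEquiv.orderOf_eq _ _).trans hx⟩⟩

/-- An isomorphism of groups on their commutator subgroups. -/
noncomputable def commutatorEquiv {G H : Type*} [Group G] [Group H] (e : G ≃* H) :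
    ↥(commutator G) ≃* ↥(commutator H) :=
  (e.subgroupMap _).trans (MulEquiv.subgroupCongr (by
    rw [commutator_def, commutator_def, Subgroup.map_commutator,
      Subgroup.map_top_of_surjective _ e.surjective]))

theorem center_Omega_odd_eq_bot (h2 : (2 : F) ≠ 0) {m : ℕ} (hm : 2 ≤ m) :
    Subgroup.center ↥(Cfsg.Omega F (Cfsg.quadFormOdd m F)) = ⊥ := by
  classical
  set Q := Classical.oddQF m F with hQ
  have hB : BNondeg Q := bNondeg_congr (oddEquiv m) (fun x => oddEquiv_spec m x)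
    (bNondeg_hypExt m (bNondeg_sq_odd h2))
  have hQn : LinearMap.BilinForm.Nondegenerate (QuadraticMap.polarBilin Q) :=
    ⟨fun x hx => hB x fun y => hx y, fun x hx => hB x fun y => by rw [polar_comm]; exact hx y⟩
  have hdim : Module.finrank F (Unit ⊕ (Fin m ⊕ Fin m) → F) = 2 * m + 1 := by
    rw [Module.finrank_pi]; simp; omega
  have hQS : LinearMap.BilinForm.IsSymm (QuadraticMap.polarBilin Q) :=
    ⟨fun x y => QuadraticMap.polar_comm (⇑Q) x y⟩
  obtain ⟨b, d, hd, hb⟩ := Forms25.exists_normal_basis h2 hQS hQn hdim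
  have hbij : ∀ i j, QuadraticMap.polar (⇑Q) (b i) (b j) =
      Matrix.diagonal (fun i => if i = Fin.last (2 * m) then d else 1) i j := by
    intro i j
    rw [← hb, LinearMap.BilinForm.toMatrix_apply]
    rfl
  have horth : ∀ i j, i ≠ j → QuadraticMap.polar (⇑Q) (b i) (b j) = 0 := fun i j hij => by
    rw [hbij, Matrix.diagonal_apply_ne _ hij]
  have hself : ∀ i, 2 * Q (b i) = if i = Fin.last (2 * m) then d else 1 := fun i => by
    rw [← InvClasses25.polar_self_two, hbij, Matrix.diagonal_apply_eq]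
  have hc : ∀ i, i ≠ Fin.last (2 * m) → Q (b i) = (2 : F)⁻¹ := fun i hi => by
    have := hself i
    rw [if_neg hi] at this
    exact eq_inv_of_mul_eq_one_right this
  have hl : Q (b (Fin.last (2 * m))) ≠ 0 := by
    intro h
    have := hself (Fin.last (2 * m))
    rw [h, if_pos rfl, mul_zero] at this
    exact hd this.symm
  have hcen := InvClasses25.center_commutator_eq_bot h2 hm b (inv_ne_zero h2) horth hc hl
  let e₂ := commutatorEquiv
    (Classical.isometryGroupEquiv (Cfsg.quadFormOdd m F) Q (Classical.oddQF_apply m))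
  rw [eq_bot_iff]
  intro z hz
  have : e₂ z ∈ Subgroup.center _ := by
    rw [Subgroup.mem_center_iff]
    intro g
    obtain ⟨g, rfl⟩ := e₂.surjective g
    rw [← map_mul, ← map_mul, Subgroup.mem_center_iff.1 hz g]
  rw [hcen, Subgroup.mem_bot] at this
  rw [Subgroup.mem_bot]
  exact e₂.injective (this.trans (map_one e₂).symm)

theorem exists_pomega_nine_equiv (h2 : (2 : F) ≠ 0) (hab : BinaryAniso a b) :
    Nonempty (Cfsg.POmega F (Cfsg.quadFormOdd 4 F) ≃*
      ↥(commutator (OQ ((minusQF 3 a b).prod (QuadraticMap.sq : QuadraticForm F F))))) := by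
  classical
  have hB : BNondeg ((minusQF 3 a b).prod (QuadraticMap.sq : QuadraticForm F F)) :=
    bNondeg_prod (bNondeg_minusQF_odd h2 3 hab) (bNondeg_sq_odd h2)
  have hns : NonsingOn ((minusQF 3 a b).prod (QuadraticMap.sq : QuadraticForm F F)) ⊤ :=
    fun u _ hu _ => hB u fun v => hu v trivial
  have hdim : finrank F (((Fin 3 ⊕ Fin 3) ⊕ Fin 2 → F) × F) = 9 := by simp [Module.finrank_prod]
  obtain ⟨m, hm⟩ := exists_finite_witt_decomposition _ hns
  rcases hm with ⟨hd, -⟩ | ⟨hd, c, hc, e, he⟩ | ⟨hd, -⟩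
  · omega
  swap
  · omega
  obtain rfl : m = 4 := by omega
  have hsame : OQ (c • oddQF 4 F) = OQ (oddQF 4 F) := by
    ext g
    refine forall_congr' fun v => ?_
    rw [smul_apply, smul_apply, smul_eq_mul, smul_eq_mul]
    exact ⟨mul_left_cancel₀ hc, congrArg _⟩
  let e₁ := (OQCongr (Q := (minusQF 3 a b).prod (QuadraticMap.sq : QuadraticForm F F))
    (R := c • oddQF 4 F) e fun v => by rw [smul_apply, smul_eq_mul, oddQF_apply, ← he]).trans
    ((MulEquiv.subgroupCongr hsame).trans
      (Classical.isometryGroupEquiv (Cfsg.quadFormOdd 4 F) (oddQF 4 F)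
        (Classical.oddQF_apply 4)).symm)
  exact ⟨((QuotientGroup.quotientMulEquivOfEq (center_Omega_odd_eq_bot h2 (by norm_num))).trans
    QuotientGroup.quotientBot).trans (commutatorEquiv e₁).symm⟩

end Cfsg.Agent.RecogA
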