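import Cfsg.Agent.RecogA.OddOrders
import Cfsg.Agent.RecogA.QuadPoly
import Cfsg.Agent.Forms.Orthogonal

/-!
An annihilating polynomial built from a palindromic polynomial of degree eight with a square value
at `-1` divides `X ^ N - 1` for one of the orders `N` of `PΩ(9, q)`, `q` odd.
-/

namespace Cfsg.Agent.RecogA

open Polynomial UniqueFactorizationMonoid

variable {F : Type*} [Field F]

theorem quartic_identity {A : Type*} [CommRing A] {x y : A} (hxy : x * y = 1) (c₁ c₂ c₃ c₄ : A) :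
    x ^ 4 * ((x + y) ^ 4 + c₁ * (x + y) ^ 3 + (c₂ - 4) * (x + y) ^ 2 + (c₃ - 3 * c₁) * (x + y) +
      (c₄ - 2 * c₂ + 2)) =
      x ^ 8 + c₁ * x ^ 7 + c₂ * x ^ 6 + c₃ * x ^ 5 + c₄ * x ^ 4 + c₃ * x ^ 3 + c₂ * x ^ 2 +
        c₁ * x + 1 := by
  have e : x * (x + y) = x ^ 2 + 1 := by linear_combination hxy
  calc x ^ 4 * ((x + y) ^ 4 + c₁ * (x + y) ^ 3 + (c₂ - 4) * (x + y) ^ 2 + (c₃ - 3 * c₁) * (x + y) +
        (c₄ - 2 * c₂ + 2))
      = (x * (x + y)) ^ 4 + c₁ * x * (x * (x + y)) ^ 3 + (c₂ - 4) * x ^ 2 * (x * (x + y)) ^ 2 +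
          (c₃ - 3 * c₁) * x ^ 3 * (x * (x + y)) + (c₄ - 2 * c₂ + 2) * x ^ 4 := by ring
    _ = _ := by rw [e]; ring

theorem exists_quartic_reciprocal {P : F[X]} (hm : P.Monic) (hd : P.natDegree = 8)
    (hsym : P.reverse = P) :
    ∃ Q : F[X], Q.Monic ∧ Q.natDegree = 4 ∧ ∀ (A : Type _) [CommRing A] [Algebra F A] (x y : A),
      x * y = 1 → aeval x P = x ^ 4 * aeval (x + y) Q := by
  have hs : ∀ i, i ≤ 8 → P.coeff i = P.coeff (8 - i) := fun i hi => by
    conv_lhs => rw [← hsym]
    rw [Polynomial.coeff_reverse, hd, Polynomial.revAt_le hi]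
  have h8 : P.coeff 8 = 1 := hd ▸ hm.coeff_natDegree
  have h0 : P.coeff 0 = 1 := by rw [hs 0 (by norm_num)]; exact h8
  refine ⟨X ^ 4 + C (P.coeff 1) * X ^ 3 + C (P.coeff 2 - 4) * X ^ 2 +
    C (P.coeff 3 - 3 * P.coeff 1) * X + C (P.coeff 4 - 2 * P.coeff 2 + 2), by monicity!,
    by compute_degree!, fun A _ _ x y hxy => ?_⟩
  simp only [map_add, map_sub, map_mul, map_pow, map_ofNat, aeval_X, aeval_C]
  rw [quartic_identity hxy, aeval_eq_sum_range' (n := 9) (by omega)]
  simp only [Finset.sum_range_succ, Finset.sum_range_zero, Algebra.smul_def, h0, h8,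
    hs 5 (by norm_num), hs 6 (by norm_num), hs 7 (by norm_num), map_one]
  norm_num
  ring

/-- The weight of a factor. -/
theorem sum_degree_eq [DecidableEq F] {Q : F[X]} (hQ : Q.Monic) :
    ∑ f ∈ (normalizedFactors Q).toFinset, f.natDegree * (normalizedFactors Q).count f = Q.natDegree ∧
      ∏ f ∈ (normalizedFactors Q).toFinset, f ^ (normalizedFactors Q).count f = Q := by
  have h : (normalizedFactors Q).prod = Q := by
    rw [prod_normalizedFactors_eq hQ.ne_zero, hQ.normalize_eq_self]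
  rw [Finset.prod_multiset_count] at h
  refine ⟨?_, h⟩
  conv_rhs => rw [← h]
  rw [natDegree_prod _ _ fun f hf => pow_ne_zero _
    (irreducible_of_normalized_factor f (Multiset.mem_toFinset.1 hf)).ne_zero]
  exact Finset.sum_congr rfl fun f _ => by rw [natDegree_pow, mul_comm]

variable [Fintype F]

local notation "q" => Fintype.card F

/-- In a finite field an element whose norm is a square is a square. -/
theorem isSquare_of_isSquare_norm {K : Type*} [Field K] [Fintype K] [Algebra F K]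
    (h2 : ringChar F ≠ 2) {z : K} (hz : z ≠ 0) (h : IsSquare (Algebra.norm F z)) : IsSquare z := by
  by_contra hns
  obtain ⟨α, hα⟩ := FiniteField.exists_nonsquare h2
  obtain ⟨w, hw⟩ := FiniteField.norm_surjective F K α
  apply hα
  rw [← hw]
  by_cases hws : IsSquare w
  · exact hws.map _
  · obtain ⟨r, hr⟩ := Forms.isSquare_mul_of_not_isSquare hws hns
    have hn : Algebra.norm F z ≠ 0 := Algebra.norm_ne_zero_iff.2 hz
    obtain ⟨s, hs⟩ := h
    have := congrArg (Algebra.norm F) hr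
    rw [map_mul, map_mul, hs] at this
    refine ⟨Algebra.norm F r / s, ?_⟩
    have hs0 : s ≠ 0 := by rintro rfl; exact hn (by rw [hs, mul_zero])
    field_simp
    linear_combination this

/-- The order for one irreducible factor. -/
theorem odd_factor_pow_eq_one {p : ℕ} [Fact p.Prime] [CharP F p] (hp : p ≠ 2)
    {A : Type*} [CommRing A] [Algebra F A] {x y : A} (hxy : x * y = 1)
    {f : F[X]} (hf : Irreducible f) (hfm : f.Monic) (h2 : f ≠ X - C 2) (h2' : f ≠ X + C 2)
    {m k : ℕ} (hmk : m ≤ p ^ k) (h : aeval (x + y) (f ^ m) = 0) :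
    ∃ n, (n = q ^ f.natDegree - 1 ∨ n = q ^ f.natDegree + 1) ∧ x ^ (p ^ k * n) = 1 ∧
      (IsSquare ((-1 : F) ^ f.natDegree * f.eval (-2)) →
        ∃ n', (n' = q ^ f.natDegree - 1 ∨ n' = q ^ f.natDegree + 1) ∧
          x ^ (p ^ k * (n' / 2)) = 1) := by
  classical
  have hchar : ringChar F ≠ 2 := by rw [ringChar.eq F p]; exact hp
  rcases subsingleton_or_nontrivial A with hA | hA
  · exact ⟨_, Or.inl rfl, Subsingleton.elim _ _, fun _ => ⟨_, Or.inl rfl, Subsingleton.elim _ _⟩⟩
  haveI : CharP A p := charP_of_injective_algebraMap (algebraMap F A).injective p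
  have hsum : (x + y) ^ p ^ k = x ^ p ^ k + y ^ p ^ k := add_pow_char_pow x y p k
  have hu : x ^ p ^ k * y ^ p ^ k = 1 := by rw [← mul_pow, hxy, one_pow]
  rw [map_pow] at h
  have hfk : aeval (x + y) f ^ p ^ k = 0 := pow_eq_zero_of_le hmk h
  let φ : F ≃+* F := iterateFrobeniusEquiv F p k
  set f' := f.map (φ : F →+* F) with hf'
  have hirr : Irreducible f' := by
    rw [hf', ← Polynomial.mapEquiv_apply]
    exact (MulEquiv.irreducible_iff (Polynomial.mapEquiv φ).toMulEquiv).2 hf
  have hm' : f'.Monic := hfm.map _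
  have hd' : f'.natDegree = f.natDegree := natDegree_map_eq_of_injective φ.injective f
  have hne : ∀ c : F, φ c = c → f ≠ X - C c → f' ≠ X - C c := fun c hc hne e =>
    hne (Polynomial.map_injective (φ : F →+* F) φ.injective (by
      rw [← hf', e, Polynomial.map_sub, Polynomial.map_X, Polynomial.map_C]
      exact congrArg (fun z => X - C z) hc.symm))
  have h0 : aeval ((x + y) ^ p ^ k) f' = 0 := by
    rw [← hfk, aeval_eq_sum_range' (n := f.natDegree + 1) (by omega),
      aeval_eq_sum_range' (n := f.natDegree + 1) (p := f) (by omega), sum_pow_char_pow]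
    refine Finset.sum_congr rfl fun i _ => ?_
    rw [Algebra.smul_def, Algebra.smul_def, mul_pow, ← pow_mul, ← pow_mul, hf', coeff_map,
      ← map_pow, mul_comm i]
    rfl
  haveI : Fact (Irreducible f') := ⟨hirr⟩
  let K := AdjoinRoot f'
  haveI : Module.Finite F K := (AdjoinRoot.powerBasis hirr.ne_zero).finite
  haveI : Finite K := Module.finite_of_finite F
  letI : Fintype K := Fintype.ofFinite K
  haveI : CharP K p := charP_of_injective_algebraMap (algebraMap F K).injective p
  have hK : Fintype.card K = q ^ f.natDegree := by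
    rw [Module.card_eq_pow_finrank (K := F) (V := K),
      (AdjoinRoot.powerBasis hirr.ne_zero).finrank, AdjoinRoot.powerBasis_dim, hd']
  let ψ : K →ₐ[F] A := AdjoinRoot.liftAlgHom f' (Algebra.ofId F A) ((x + y) ^ p ^ k) h0
  have hψ : ψ (AdjoinRoot.root f') = (x + y) ^ p ^ k := AdjoinRoot.liftAlgHom_root _ _ _ _
  set s := AdjoinRoot.root f' with hs
  have hroot : ∀ c : F, φ c = c → f ≠ X - C c → s ≠ algebraMap F K c := by
    intro c hc hne' e
    have hd : f' ∣ X - C c := by
      rw [← AdjoinRoot.mk_eq_zero, map_sub, AdjoinRoot.mk_X, AdjoinRoot.mk_C, ← hs, e,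
        AdjoinRoot.algebraMap_eq, sub_self]
    exact hne c hc hne'
      (eq_of_monic_of_associated hm' (monic_X_sub_C c)
        (hirr.associated_of_dvd (irreducible_X_sub_C c) hd))
  have hs2 : s ≠ 2 := by
    have := hroot 2 (map_ofNat φ 2) h2
    rwa [map_ofNat (algebraMap F K)] at this
  have hs2' : s ≠ -2 := by
    have := hroot (-2) (by rw [map_neg, map_ofNat]) (by simpa using h2')
    rwa [map_neg, map_ofNat (algebraMap F K)] at this
  have hne2 : (2 : K) ≠ 0 := Ring.two_ne_zero (by rw [ringChar.eq K p]; exact hp)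
  -- evaluation of `quadPoly`
  have hev : ∀ (t : K) (n : ℕ) (z : A), quadPoly t ∣ X ^ n - 1 →
      z ^ 2 - ψ t * z + 1 = 0 → z ^ n = 1 := by
    intro t n z hdvd hz
    have hev := map_dvd (Polynomial.eval₂RingHom (ψ : K →+* A) z) hdvd
    simp only [coe_eval₂RingHom, quadPoly, eval₂_add, eval₂_sub, eval₂_mul, eval₂_X_pow, eval₂_C,
      eval₂_X, eval₂_one, RingHom.coe_coe] at hev
    rwa [hz, zero_dvd_iff, sub_eq_zero] at hev
  obtain ⟨n, hn, hdvd, -⟩ := quadPoly_dvd (F := K) (s := s) (fun e he hse => by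
    rcases mul_self_eq_one_iff.1 he with rfl | rfl
    · exact hs2 (by rw [hse, mul_one])
    · exact hs2' (by rw [hse]; ring))
  refine ⟨n, hK ▸ hn, ?_, fun hsq => ?_⟩
  · rw [pow_mul]
    exact hev s n _ hdvd (by rw [hψ, hsum]; linear_combination -hu)
  -- the norm of `s + 2`
  have hnorm : Algebra.norm F (s + 2) = (-1 : F) ^ f.natDegree * φ (f.eval (-2)) := by
    let pb := AdjoinRoot.powerBasis hirr.ne_zero
    have h1 : Algebra.norm F (algebraMap F K (-2) - s) = f'.eval (-2) := by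
      rw [Algebra.norm_eq_matrix_det pb.basis, map_sub, AlgHom.commutes, Matrix.algebraMap_eq_diagonal]
      have := Matrix.eval_charpoly (Algebra.leftMulMatrix pb.basis pb.gen) (-2 : F)
      rw [charpoly_leftMulMatrix, AdjoinRoot.powerBasis_gen, AdjoinRoot.minpoly_root hirr.ne_zero,
        hm'.leadingCoeff, inv_one, map_one, mul_one] at this
      rw [this]
      rfl
    rw [show f'.eval (-2) = φ (f.eval (-2)) by
      rw [hf', show (-2 : F) = (φ : F →+* F) (-2) by rw [map_neg, map_ofNat], eval_map, eval₂_hom,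
        map_neg, map_ofNat]
      rfl] at h1
    rw [show s + 2 = algebraMap F K (-1) * (algebraMap F K (-2) - s) by
      rw [map_neg, map_neg, map_one, map_ofNat (algebraMap F K)]; ring, map_mul,
      Algebra.norm_algebraMap, h1, (AdjoinRoot.powerBasis hirr.ne_zero).finrank,
      AdjoinRoot.powerBasis_dim, hd']
  obtain ⟨r, hr⟩ : IsSquare (s + 2) := by
    refine isSquare_of_isSquare_norm (F := F) hchar (fun e => hs2' (eq_neg_of_add_eq_zero_left e)) ?_
    have := hsq.map φ
    rw [map_mul, map_pow, map_neg, map_one] at this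
    rw [hnorm]
    exact this
  have hr0 : r ≠ 0 := fun e => hs2' (eq_neg_of_add_eq_zero_left (by rw [hr, e, mul_zero]))
  obtain ⟨n', hn', hdvd', -⟩ := quadPoly_dvd (F := K) (s := r) (fun e he hre => hs2 (by
    linear_combination hr + (r + 2 * e) * hre + 4 * he))
  refine ⟨n', hK ▸ hn', ?_⟩
  obtain ⟨c, hc⟩ : Even n' := by
    have hodd : Odd (Fintype.card K) := Nat.odd_iff.2 (FiniteField.odd_card_of_char_ne_two (by
      rw [ringChar.eq K p]; exact hp))
    rcases hn' with rfl | rfl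
    · exact hodd.tsub_odd odd_one
    · exact hodd.add_one
  set z : A := ψ r⁻¹ * (x ^ p ^ k + 1) with hz
  have hψr : ψ r⁻¹ * ψ r = 1 := by rw [← map_mul, inv_mul_cancel₀ hr0, map_one]
  have hψs : ψ r * ψ r = x ^ p ^ k + y ^ p ^ k + 2 := by
    rw [← map_mul, ← hr, map_add, hψ, hsum, map_ofNat]
  have hz2 : z ^ 2 = x ^ p ^ k := by
    rw [hz]
    linear_combination -(ψ r⁻¹) ^ 2 * x ^ p ^ k * hψs + x ^ p ^ k * (ψ r⁻¹ * ψ r + 1) * hψr - (ψ r⁻¹) ^ 2 * hu
  have hzn : z ^ n' = 1 := hev r n' z hdvd' (by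
    rw [hz2, hz]
    linear_combination -(x ^ p ^ k + 1) * hψr)
  rw [pow_mul, ← hz2, ← pow_mul, hc, show 2 * ((c + c) / 2) = c + c by omega, ← hc]
  exact hzn

/-- The orders for the annihilating polynomial. -/
theorem octic_odd_dvd {p : ℕ} [Fact p.Prime] [CharP F p] (hp : p ≠ 2) {P : F[X]} (hm : P.Monic)
    (hd : P.natDegree = 8) (hsym : P.reverse = P) (hsq : IsSquare (P.eval (-1))) :
    ∃ N ∈ omegaNineOrders q p,
      (P.eval (-1) ≠ 0 → (X - 1) * P ∣ X ^ N - 1) ∧
        (P.eval (-1) = 0 → ∀ R, R * (X + 1) = (X - 1) * P → R ∣ X ^ N - 1) := by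
  classical
  have hp1 : 1 < p := (Fact.out : p.Prime).one_lt
  have hchar : ringChar F ≠ 2 := by rw [ringChar.eq F p]; exact hp
  have h2F : (2 : F) ≠ 0 := Ring.two_ne_zero hchar
  obtain ⟨Q, hQm, hQd, hQ⟩ := exists_quartic_reciprocal hm hd hsym
  have hval : P.eval (-1) = Q.eval (-2) := by
    have := hQ F (-1) (-1) (by norm_num)
    rw [coe_aeval_eq_eval, coe_aeval_eq_eval] at this
    rw [this]
    norm_num
  obtain ⟨hsum, hprod⟩ := sum_degree_eq hQm
  set T := (normalizedFactors Q).toFinset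
  set m := fun f => (normalizedFactors Q).count f with hmdef
  set S := (T.erase (X - C 2)).erase (X + C 2) with hS
  set i := m (X - C 2) with hi
  set j := m (X + C 2) with hj
  have hne : X - C (2 : F) ≠ X + C 2 := fun e => h2F (by
    have := congrArg (Polynomial.eval 0) e
    simp at this
    by_contra h
    exact h (mul_left_cancel₀ h (by linear_combination -this)))
  have hnot : ∀ g : F[X], g ∉ T → m g = 0 := fun g hg =>
    Multiset.count_eq_zero.2 fun h => hg (Multiset.mem_toFinset.2 h)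
  have hirr : ∀ f ∈ S, Irreducible f ∧ f.Monic ∧ 1 ≤ f.natDegree ∧ 1 ≤ m f ∧ f ≠ X - C 2 ∧
      f ≠ X + C 2 := by
    intro f hf
    obtain ⟨hne1, hf1⟩ := Finset.mem_erase.1 hf
    obtain ⟨hne2, hfT⟩ := Finset.mem_erase.1 hf1
    have hf' := Multiset.mem_toFinset.1 hfT
    have h1 := irreducible_of_normalized_factor f hf'
    refine ⟨h1, ?_, h1.natDegree_pos, Multiset.one_le_count_iff_mem.2 hf', hne2, hne1⟩
    rw [← normalize_normalized_factor f hf']
    exact monic_normalize h1.ne_zero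
  -- splitting off the two special factors
  have hsplit : Q = (X - C 2) ^ i * ((X + C 2) ^ j * ∏ f ∈ S, f ^ m f) := by
    conv_lhs => rw [← hprod]
    show ∏ f ∈ T, f ^ m f = _
    have e1 : ∀ (U : Finset F[X]) (g : F[X]), (g ∉ U → m g = 0) →
        ∏ f ∈ U, f ^ m f = g ^ m g * ∏ f ∈ U.erase g, f ^ m f := by
      intro U g hg
      by_cases h : g ∈ U
      · exact (Finset.mul_prod_erase U (fun f => f ^ m f) h).symm
      · rw [hg h, pow_zero, one_mul, Finset.erase_eq_of_notMem h]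
    rw [e1 T _ (hnot _), e1 (T.erase (X - C 2)) _ fun h => hnot _ fun hT =>
      h (Finset.mem_erase.2 ⟨hne.symm, hT⟩)]
  have hSm : ∀ f ∈ S, (f ^ m f).Monic := fun f hf => (hirr f hf).2.1.pow _
  have hw : i + j + ∑ f ∈ S, f.natDegree * m f = 4 := by
    have := congrArg natDegree hsplit
    rw [hQd, ((monic_X_sub_C _).pow _).natDegree_mul (((monic_X_add_C _).pow _).mul
      (monic_prod_of_monic _ _ hSm)), ((monic_X_add_C _).pow _).natDegree_mul
      (monic_prod_of_monic _ _ hSm), natDegree_pow, natDegree_X_sub_C, natDegree_pow,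
      natDegree_X_add_C, natDegree_prod_of_monic _ _ hSm,
      Finset.sum_congr rfl fun f hf => by rw [natDegree_pow, mul_comm]] at this
    omega
  -- the ring
  set B := (X - 1) * P with hB
  let A := AdjoinRoot B
  set x : A := AdjoinRoot.root B with hx
  have hP0 : P.coeff 0 = 1 := by
    rw [← hsym, coeff_zero_reverse, hm.leadingCoeff]
  obtain ⟨y, hxy⟩ : ∃ y, x * y = 1 := by
    refine ⟨aeval x B.divX, ?_⟩
    have h := congrArg (aeval x) (X_mul_divX_add B)
    rw [map_add, map_mul, aeval_X, aeval_C, hx, AdjoinRoot.aeval_eq B, AdjoinRoot.mk_self] at h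
    rw [show B.coeff 0 = -1 by simp [hB, mul_coeff_zero, hP0], map_neg, map_one] at h
    linear_combination h
  have hk : ∀ n, n ≤ p ^ Nat.clog p n := fun n => Nat.le_pow_clog hp1 n
  -- the order for each factor
  have hfac : ∀ f ∈ S, ∃ o : ℕ, aeval (x + y) (f ^ m f) ∣ x ^ (ppow p (m f) * o) - 1 ∧
      (o ∣ q ^ f.natDegree - 1 ∨ o ∣ q ^ f.natDegree + 1) ∧
      (IsSquare ((-1 : F) ^ f.natDegree * f.eval (-2)) →
        o ∣ (q ^ f.natDegree - 1) / 2 ∨ o ∣ (q ^ f.natDegree + 1) / 2) := by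
    intro f hf
    obtain ⟨h1, h2, -, -, h3, h4⟩ := hirr f hf
    set I := Ideal.span {aeval (x + y) (f ^ m f)} with hI
    let π : A →ₐ[F] A ⧸ I := Ideal.Quotient.mkₐ F I
    obtain ⟨n, hn, hxn, hsqn⟩ := odd_factor_pow_eq_one hp (x := π x) (y := π y)
      (by rw [← map_mul, hxy, map_one]) h1 h2 h3 h4 (hk (m f)) (by
        rw [← map_add, aeval_algHom_apply]
        exact Ideal.Quotient.eq_zero_iff_mem.2 (Ideal.mem_span_singleton_self _))
    have conv : ∀ N, π x ^ N = 1 → aeval (x + y) (f ^ m f) ∣ x ^ N - 1 := fun N h => by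
      rw [← Ideal.mem_span_singleton, ← hI, ← Ideal.Quotient.eq_zero_iff_mem, map_sub, map_one,
        map_pow, sub_eq_zero]
      exact h
    have hodd : Odd q := Nat.odd_iff.2 (FiniteField.odd_card_of_char_ne_two hchar)
    by_cases hsf : IsSquare ((-1 : F) ^ f.natDegree * f.eval (-2))
    · obtain ⟨n', hn', hxn'⟩ := hsqn hsf
      refine ⟨n' / 2, conv _ hxn', ?_, fun _ => ?_⟩
      · rcases hn' with rfl | rfl
        · exact Or.inl (Nat.div_dvd_of_dvd (hodd.pow.tsub_odd odd_one).two_dvd)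
        · exact Or.inr (Nat.div_dvd_of_dvd hodd.pow.add_one.two_dvd)
      · rcases hn' with rfl | rfl
        · exact Or.inl dvd_rfl
        · exact Or.inr dvd_rfl
    · refine ⟨n, conv _ hxn, ?_, fun h => absurd h hsf⟩
      rcases hn with rfl | rfl
      · exact Or.inl dvd_rfl
      · exact Or.inr dvd_rfl
  choose! o hdiv ho hosq using hfac
  have hhalf : j = 0 → ∀ f ∈ S, i + f.natDegree = 4 →
      o f ∣ (q ^ f.natDegree - 1) / 2 ∨ o f ∣ (q ^ f.natDegree + 1) / 2 := by
    intro hj0 f hf hdeg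
    refine hosq f hf ?_
    have h1 := Finset.add_sum_erase S (fun g => g.natDegree * m g) hf
    obtain ⟨-, -, hd1, hm1, -, -⟩ := hirr f hf
    have hmd : f.natDegree ≤ f.natDegree * m f := Nat.le_mul_of_pos_right _ hm1
    have hSf : S = {f} := by
      refine Finset.eq_singleton_iff_unique_mem.2 ⟨hf, fun g hg => ?_⟩
      by_contra hne
      have := Finset.single_le_sum (f := fun g => g.natDegree * m g) (fun g _ => Nat.zero_le _)
        (Finset.mem_erase.2 ⟨hne, hg⟩)
      have := (hirr g hg).2.2.1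
      have := Nat.le_mul_of_pos_right g.natDegree (hirr g hg).2.2.2.1
      omega
    have hmf : m f = 1 := by
      rw [hSf, Finset.sum_singleton] at hw
      have : f.natDegree * m f = f.natDegree * 1 := by omega
      exact Nat.eq_of_mul_eq_mul_left hd1 this
    obtain ⟨c, hc⟩ := hval ▸ hsq
    rw [hsplit, hSf, Finset.prod_singleton, hmf, pow_one, hj0, pow_zero, one_mul, eval_mul,
      eval_pow, eval_sub, eval_X, eval_C] at hc
    refine ⟨c / 2 ^ i, ?_⟩
    have hpar : (-1 : F) ^ f.natDegree = (-1) ^ i := by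
      rw [neg_one_pow_eq_pow_mod_two (n := f.natDegree), neg_one_pow_eq_pow_mod_two (n := i)]
      congr 1
      omega
    rw [hpar]
    have h4 : (-2 - 2 : F) ^ i = (-1) ^ i * (2 ^ i * 2 ^ i) := by
      rw [← mul_pow, ← mul_pow]; congr 1; ring
    rw [h4] at hc
    have : (2 : F) ^ i ≠ 0 := pow_ne_zero _ h2F
    field_simp
    linear_combination hc
  obtain ⟨N, hN, hNi, hNj, hNS⟩ := exists_order_of_odd_weights S (fun f => f.natDegree) m o i j q p
    Fintype.one_lt_card (Nat.odd_iff.2 (FiniteField.odd_card_of_char_ne_two hchar))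
    (fun f hf => ⟨(hirr f hf).2.2.1, (hirr f hf).2.2.2.1⟩) hw ho hhalf
  refine ⟨N, hN, ?_⟩
  -- the three parts
  have hchA : ∀ (k : ℕ) (z : A), (z - 1) ^ p ^ k = z ^ p ^ k - 1 := fun k z => by
    rcases subsingleton_or_nontrivial A with hA | hA
    · exact Subsingleton.elim _ _
    haveI : CharP A p := charP_of_injective_algebraMap (algebraMap F A).injective p
    rw [sub_pow_char_pow, one_pow]
  have h1 : (x - 1) ^ (2 * i + 1) ∣ x ^ N - 1 := by
    obtain ⟨c, hc⟩ := hNi
    refine (pow_dvd_pow _ (hk (2 * i + 1))).trans ?_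
    rw [hchA, hc, pow_mul]
    exact sub_one_dvd_pow_sub_one _ c
  have h2 : (x + 1) ^ (2 * j) ∣ (x ^ N - 1) * (x + 1) := by
    rcases Nat.eq_zero_or_pos j with hj0 | hj0
    · rw [hj0, mul_zero, pow_zero]; exact one_dvd _
    rw [show 2 * j = 2 * j - 1 + 1 by omega, pow_succ]
    refine mul_dvd_mul_right ?_ _
    obtain ⟨c, hc⟩ := hNj hj0
    refine (pow_dvd_pow _ (hk (2 * j - 1))).trans ?_
    rw [hc, pow_mul]
    refine dvd_trans ?_ (sub_one_dvd_pow_sub_one _ c)
    refine dvd_trans (pow_dvd_pow_of_dvd (show x + 1 ∣ x ^ 2 - 1 from ⟨x - 1, by ring⟩) _) ?_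
    rw [hchA, ← pow_mul]
    rfl
  have h3 : ∏ f ∈ S, aeval (x + y) (f ^ m f) ∣ x ^ N - 1 := by
    refine Finset.prod_dvd_of_coprime ?_ fun f hf => ?_
    · intro f hf g hg hne'
      refine IsCoprime.map ?_ (aeval (x + y)).toRingHom
      refine IsCoprime.pow ((hirr f hf).1.coprime_iff_not_dvd.2 fun hd' => hne' ?_)
      exact eq_of_monic_of_associated (hirr f hf).2.1 (hirr g hg).2.1
        ((hirr f hf).1.associated_of_dvd (hirr g hg).1 hd')
    · obtain ⟨c, hc⟩ := hNS f hf
      refine (hdiv f hf).trans ?_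
      rw [hc, pow_mul x (ppow p (m f) * o f) c]
      exact sub_one_dvd_pow_sub_one _ c
  -- their product is zero
  have hxu : IsUnit x := IsUnit.of_mul_eq_one _ hxy
  have hB0 : aeval x B = 0 := by rw [hx, AdjoinRoot.aeval_eq, AdjoinRoot.mk_self]
  have hzero : (x - 1) ^ (2 * i + 1) * ((x + 1) ^ (2 * j) * ∏ f ∈ S, aeval (x + y) (f ^ m f)) = 0 := by
    refine ((hxu.pow (4 - i - j)).mul_right_eq_zero).1 ?_
    have hsx : x * (x + y - 2) = (x - 1) ^ 2 := by linear_combination hxy
    have hsx' : x * (x + y + 2) = (x + 1) ^ 2 := by linear_combination hxy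
    refine Eq.trans ?_ hB0
    rw [show aeval x B = aeval x (X - 1 : F[X]) * aeval x P from map_mul (aeval x) (X - 1) P, hQ A x y hxy, hsplit, map_mul, map_mul, map_pow (aeval (x + y)),
      map_pow (aeval (x + y)), map_prod]
    simp only [map_sub, map_add, aeval_X, aeval_C, map_one, map_ofNat]
    rw [show x ^ 4 = x ^ (4 - i - j) * (x ^ i * x ^ j) by rw [← pow_add, ← pow_add]; congr 1; omega,
      pow_succ (x - 1), pow_mul, pow_mul, ← hsx, ← hsx', mul_pow, mul_pow]
    ring
  have hc0 : IsCoprime (x - 1) (x + 1) := by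
    have hh : algebraMap F A (2 : F)⁻¹ * 2 = 1 := by
      rw [← map_ofNat (algebraMap F A) 2, ← map_mul, inv_mul_cancel₀ h2F, map_one]
    exact ⟨-algebraMap F A (2 : F)⁻¹, algebraMap F A (2 : F)⁻¹, by linear_combination hh⟩
  have hcS : ∀ (g : F[X]) (z : A), z ∣ aeval (x + y) g → Irreducible g → g.Monic →
      (∀ f ∈ S, f ≠ g) → IsCoprime z (∏ f ∈ S, aeval (x + y) (f ^ m f)) := by
    intro g z hz hg hgm hgS
    refine IsCoprime.prod_right fun f hf => ?_
    rw [map_pow]
    refine (IsCoprime.of_isCoprime_of_dvd_left ?_ hz).pow_right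
    refine IsCoprime.map ?_ (aeval (x + y)).toRingHom
    exact hg.coprime_iff_not_dvd.2 fun hd' => hgS f hf
      (eq_of_monic_of_associated hgm (hirr f hf).2.1 (hg.associated_of_dvd (hirr f hf).1 hd')).symm
  have hd1 : x - 1 ∣ aeval (x + y) (X - C (2 : F)) := by
    simp only [map_sub, aeval_X, aeval_C, map_ofNat]
    exact ⟨y * (x - 1), by linear_combination -(x - 2) * hxy⟩
  have hd2 : x + 1 ∣ aeval (x + y) (X + C (2 : F)) := by
    simp only [map_add, aeval_X, aeval_C, map_ofNat]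
    exact ⟨y * (x + 1), by linear_combination -(x + 2) * hxy⟩
  have hall : (x ^ N - 1) * (x + 1) = 0 := by
    rw [← zero_dvd_iff, ← hzero]
    refine (IsCoprime.mul_right hc0.pow ((hcS _ _ hd1 (irreducible_X_sub_C _) (monic_X_sub_C _)
      fun f hf => (hirr f hf).2.2.2.2.1).pow_left)).mul_dvd (h1.trans (dvd_mul_right _ _)) ?_
    refine ((hcS _ _ hd2 ?_ (monic_X_add_C _) fun f hf => (hirr f hf).2.2.2.2.2).pow_left).mul_dvd
      h2 (h3.trans (dvd_mul_right _ _))
    exact irreducible_of_degree_eq_one (degree_X_add_C _)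
  have hdvd : B ∣ (X ^ N - 1) * (X + 1) := by
    rw [← AdjoinRoot.mk_eq_zero, map_mul, map_sub, map_pow, map_add, map_one, AdjoinRoot.mk_X]
    exact hall
  have hX1 : (X + 1 : F[X]) = X + C 1 := by rw [map_one]
  refine ⟨fun hne0 => ?_, fun _ R hR => ?_⟩
  · refine IsCoprime.dvd_of_dvd_mul_right ?_ hdvd
    rw [hX1]
    refine ((irreducible_of_degree_eq_one (degree_X_add_C (1 : F))).coprime_iff_not_dvd.2
      fun hd' => ?_).symm
    rw [show X + C (1 : F) = X - C (-1) by simp, dvd_iff_isRoot, IsRoot, hB, eval_mul] at hd'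
    simp only [eval_sub, eval_X, eval_one, mul_eq_zero] at hd'
    rcases hd' with h | h
    · exact h2F (by linear_combination -h)
    · exact hne0 h
  · rw [← hR] at hdvd
    exact (mul_dvd_mul_iff_right (by rw [hX1]; exact (monic_X_add_C 1).ne_zero)).1 hdvd

end Cfsg.Agent.RecogA
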