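import Cfsg.Agent.RecogA.Sp4Orders

/-!
Palindromic polynomials of degree eight in characteristic two divide `X ^ N - 1` for one of the
maximal element orders `N` of `Sp(8, q)`.
-/

namespace Cfsg.Agent.RecogA

open Polynomial UniqueFactorizationMonoid

/-- The maximal element orders of `Sp(8, q)`, `q` even, with some redundancy. -/
def sp8Orders (q : ℕ) : Finset ℕ :=
  {q ^ 4 + 1, q ^ 4 - 1, (q ^ 3 + 1) * (q - 1), (q ^ 3 - 1) * (q + 1), 2 * (q ^ 3 - 1),
    2 * (q ^ 3 + 1), 2 * ((q ^ 2 + 1) * (q - 1)), 2 * ((q ^ 2 + 1) * (q + 1)), 4 * (q ^ 2 - 1),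
    4 * (q ^ 2 + 1), 8 * (q - 1), 8 * (q + 1)}

theorem quartic_palindrome {A : Type*} [CommRing A] (h2 : (2 : A) = 0) {x y : A} (hxy : x * y = 1)
    (c₁ c₂ c₃ c₄ : A) :
    x ^ 4 * ((x + y) ^ 4 + c₁ * (x + y) ^ 3 + c₂ * (x + y) ^ 2 + (c₁ + c₃) * (x + y) + c₄) =
      x ^ 8 + c₁ * x ^ 7 + c₂ * x ^ 6 + c₃ * x ^ 5 + c₄ * x ^ 4 + c₃ * x ^ 3 + c₂ * x ^ 2 +
        c₁ * x + 1 := by
  have e : x * (x + y) = x ^ 2 + 1 := by linear_combination hxy
  calc x ^ 4 * ((x + y) ^ 4 + c₁ * (x + y) ^ 3 + c₂ * (x + y) ^ 2 + (c₁ + c₃) * (x + y) + c₄)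
      = (x * (x + y)) ^ 4 + c₁ * x * (x * (x + y)) ^ 3 + c₂ * x ^ 2 * (x * (x + y)) ^ 2 +
          (c₁ + c₃) * x ^ 3 * (x * (x + y)) + c₄ * x ^ 4 := by ring
    _ = _ := by
      rw [e]
      linear_combination
        (2 * x ^ 6 + 3 * x ^ 4 + 2 * x ^ 2 + c₁ * (2 * x ^ 5 + 2 * x ^ 3) + c₂ * x ^ 4) * h2

variable {F : Type*} [Field F]

theorem exists_quartic_of_palindrome [CharP F 2] {P : F[X]} (hm : P.Monic) (hd : P.natDegree = 8)
    (hsym : ∀ i, i ≤ 8 → P.coeff i = P.coeff (8 - i)) :
    ∃ Q : F[X], Q.Monic ∧ Q.natDegree = 4 ∧ ∃ y : AdjoinRoot P, AdjoinRoot.root P * y = 1 ∧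
      aeval (AdjoinRoot.root P + y) Q = 0 := by
  have h8 : P.coeff 8 = 1 := hd ▸ hm.coeff_natDegree
  have h0 : P.coeff 0 = 1 := by rw [hsym 0 (by norm_num)]; exact h8
  refine ⟨X ^ 4 + C (P.coeff 1) * X ^ 3 + C (P.coeff 2) * X ^ 2 +
    C (P.coeff 1 + P.coeff 3) * X + C (P.coeff 4), by monicity!, by compute_degree!,
    -aeval (AdjoinRoot.root P) P.divX, ?_, ?_⟩
  · have h := congrArg (aeval (AdjoinRoot.root P)) (X_mul_divX_add P)
    rw [map_add, map_mul, aeval_X, aeval_C, h0, map_one,
      show aeval (AdjoinRoot.root P) P = 0 by rw [AdjoinRoot.aeval_eq, AdjoinRoot.mk_self]] at h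
    linear_combination -h
  · have hy : AdjoinRoot.root P * -aeval (AdjoinRoot.root P) P.divX = 1 := by
      have h := congrArg (aeval (AdjoinRoot.root P)) (X_mul_divX_add P)
      rw [map_add, map_mul, aeval_X, aeval_C, h0, map_one,
        show aeval (AdjoinRoot.root P) P = 0 by rw [AdjoinRoot.aeval_eq, AdjoinRoot.mk_self]] at h
      linear_combination -h
    set x := AdjoinRoot.root P
    set y := -aeval x P.divX
    have h2 : (2 : AdjoinRoot P) = 0 := by
      rw [← map_ofNat (algebraMap F (AdjoinRoot P)) 2, CharTwo.two_eq_zero, map_zero]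
    have hx : IsUnit (x ^ 4) := (IsUnit.of_mul_eq_one _ hy).pow 4
    refine hx.mul_right_eq_zero.1 ?_
    simp only [map_add, map_mul, map_pow, aeval_X, aeval_C]
    rw [quartic_palindrome h2 hy]
    have hP : aeval x P = 0 := by rw [AdjoinRoot.aeval_eq, AdjoinRoot.mk_self]
    rw [aeval_eq_sum_range' (n := 9) (by omega)] at hP
    simp only [Finset.sum_range_succ, Finset.sum_range_zero, Algebra.smul_def, h0, h8,
      hsym 5 (by norm_num), hsym 6 (by norm_num), hsym 7 (by norm_num)] at hP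
    norm_num at hP
    simp only [AdjoinRoot.algebraMap_eq]
    linear_combination hP

variable [Fintype F] [CharP F 2]

local notation "q" => Fintype.card F

/-- The orders for one irreducible factor. -/
theorem factor_pow_eq_one {A : Type*} [CommRing A] [Algebra F A] {x y : A} (hxy : x * y = 1)
    {f : F[X]} (hf : Irreducible f) (hfm : f.Monic) {m k : ℕ} (hmk : m ≤ 2 ^ k)
    (h : aeval (x + y) (f ^ m) = 0) :
    (f = X → x ^ (2 ^ k * 2) = 1) ∧ (f ≠ X →
      x ^ (2 ^ k * (q ^ f.natDegree - 1)) = 1 ∨ x ^ (2 ^ k * (q ^ f.natDegree + 1)) = 1) := by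
  haveI : Fact (Nat.Prime 2) := ⟨Nat.prime_two⟩
  rcases subsingleton_or_nontrivial A with hA | hA
  · exact ⟨fun _ => Subsingleton.elim _ _, fun _ => Or.inl (Subsingleton.elim _ _)⟩
  haveI : CharP A 2 := charP_of_injective_algebraMap (algebraMap F A).injective 2
  have hsum : (x + y) ^ 2 ^ k = x ^ 2 ^ k + y ^ 2 ^ k := add_pow_char_pow x y 2 k
  have hu : x ^ 2 ^ k * y ^ 2 ^ k = 1 := by rw [← mul_pow, hxy, one_pow]
  rw [map_pow] at h
  have hfk : aeval (x + y) f ^ 2 ^ k = 0 := pow_eq_zero_of_le hmk h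
  refine ⟨fun hX => ?_, fun hX => ?_⟩
  · rw [hX, aeval_X, hsum] at hfk
    rw [pow_mul]
    have h2 : (2 : A) = 0 := CharTwo.two_eq_zero
    linear_combination (x ^ 2 ^ k) * hfk - hu - h2
  · let φ : F ≃+* F := iterateFrobeniusEquiv F 2 k
    set f' := f.map (φ : F →+* F) with hf'
    have hirr : Irreducible f' := by
      rw [hf', ← Polynomial.mapEquiv_apply]
      exact (MulEquiv.irreducible_iff (Polynomial.mapEquiv φ).toMulEquiv).2 hf
    have hm' : f'.Monic := hfm.map _
    have hd' : f'.natDegree = f.natDegree := natDegree_map_eq_of_injective φ.injective f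
    have hX' : f' ≠ X := fun e => hX (Polynomial.map_injective (φ : F →+* F) φ.injective
      (by rw [← hf', e, Polynomial.map_X]))
    have h0 : aeval ((x + y) ^ 2 ^ k) f' = 0 := by
      rw [← hfk, aeval_eq_sum_range' (n := f.natDegree + 1) (by omega),
        aeval_eq_sum_range' (n := f.natDegree + 1) (p := f) (by omega), sum_pow_char_pow]
      refine Finset.sum_congr rfl fun i _ => ?_
      rw [Algebra.smul_def, Algebra.smul_def, mul_pow, ← pow_mul, ← pow_mul, hf', coeff_map,
        ← map_pow, mul_comm i]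
      rfl
    haveI : Fact (Irreducible f') := ⟨hirr⟩
    let K := AdjoinRoot f'
    haveI : Module.Finite F K := (AdjoinRoot.powerBasis hirr.ne_zero).finite
    haveI : Finite K := Module.finite_of_finite F
    letI : Fintype K := Fintype.ofFinite K
    haveI : CharP K 2 := charP_of_injective_algebraMap (algebraMap F K).injective 2
    have hK : Fintype.card K = q ^ f.natDegree := by
      rw [Module.card_eq_pow_finrank (K := F) (V := K),
        (AdjoinRoot.powerBasis hirr.ne_zero).finrank, AdjoinRoot.powerBasis_dim, hd']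
    let ψ : K →ₐ[F] A := AdjoinRoot.liftAlgHom f' (Algebra.ofId F A) ((x + y) ^ 2 ^ k) h0
    have hψ : ψ (AdjoinRoot.root f') = (x + y) ^ 2 ^ k := AdjoinRoot.liftAlgHom_root _ _ _ _
    have ht : AdjoinRoot.root f' ≠ 0 := by
      intro e
      have hd : f' ∣ X := by
        rw [← AdjoinRoot.mk_eq_zero, AdjoinRoot.mk_X, e]
      exact hX' (eq_of_monic_of_associated hm' monic_X (hirr.associated_of_dvd irreducible_X hd))
    obtain ⟨n, hn, hdvd, -⟩ := quadPoly_dvd (F := K) (s := AdjoinRoot.root f') (fun e _ he =>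
      ht (by rw [he, CharTwo.two_eq_zero, zero_mul]))
    have hev := map_dvd (Polynomial.eval₂RingHom (ψ : K →+* A) (x ^ 2 ^ k)) hdvd
    simp only [coe_eval₂RingHom, quadPoly, eval₂_add, eval₂_sub, eval₂_mul, eval₂_X_pow, eval₂_C,
      eval₂_X, eval₂_one, RingHom.coe_coe, hψ, hsum] at hev
    rw [show (x ^ 2 ^ k) ^ 2 - (x ^ 2 ^ k + y ^ 2 ^ k) * x ^ 2 ^ k + 1 = 0 by
      linear_combination -hu, zero_dvd_iff, sub_eq_zero] at hev
    rw [← pow_mul] at hev
    rcases hn with rfl | rfl
    · exact Or.inl (hK ▸ hev)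
    · exact Or.inr (hK ▸ hev)

/-- The weight of a factor. -/
theorem sum_weight_eq [DecidableEq F] {Q : F[X]} (hQ : Q.Monic) :
    ∑ f ∈ (normalizedFactors Q).toFinset, f.natDegree * (normalizedFactors Q).count f = Q.natDegree ∧
      ∏ f ∈ (normalizedFactors Q).toFinset, f ^ (normalizedFactors Q).count f = Q := by
  have h : (normalizedFactors Q).prod = Q := by
    rw [prod_normalizedFactors_eq hQ.ne_zero, hQ.normalize_eq_self]
  rw [Finset.prod_multiset_count] at h
  refine ⟨?_, h⟩
  conv_rhs => rw [← h]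
  rw [natDegree_prod _ _ fun f hf => pow_ne_zero _
    (irreducible_of_normalized_factor f (Multiset.mem_toFinset.1 hf)).ne_zero]
  exact Finset.sum_congr rfl fun f _ => by rw [natDegree_pow, mul_comm]

/-- A finite sum of positive weights equal to one has a single term. -/
theorem single_of_sum_le_one {α : Type*} {S : Finset α} {w : α → ℕ} (hw : ∀ a ∈ S, 1 ≤ w a)
    (h : ∑ a ∈ S, w a ≤ 1) {a b : α} (ha : a ∈ S) (hb : b ∈ S) : a = b := by
  classical
  by_contra hab
  have := Finset.sum_le_sum_of_subset (f := w) (show {a, b} ⊆ S by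
    intro c hc; rcases Finset.mem_insert.1 hc with rfl | hc; exacts [ha, Finset.mem_singleton.1 hc ▸ hb])
  rw [Finset.sum_pair hab] at this
  have := hw a ha
  have := hw b hb
  omega

theorem pow_four_sub_one (n : ℕ) : n ^ 4 - 1 = (n ^ 2 + 1) * (n ^ 2 - 1) := by
  have := Nat.sq_sub_sq (n ^ 2) 1
  rw [← pow_mul, one_pow] at this
  exact this

theorem sq_sub_one_eq (n : ℕ) : n ^ 2 - 1 = (n + 1) * (n - 1) := by
  simpa using Nat.sq_sub_sq n 1

theorem cube_dvd (n : ℕ) (hn : 1 ≤ n) : n + 1 ∣ n ^ 3 + 1 ∧ n - 1 ∣ n ^ 3 - 1 := by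
  refine ⟨by simpa using (Odd.nat_add_dvd_pow_add_pow (x := n) (y := 1) (n := 3) (by decide)), ?_⟩
  simpa using Nat.sub_dvd_pow_sub_pow n 1 3

/-- The combinatorics of the factors. -/
theorem exists_order_of_weights {α : Type*} (S : Finset α) (d m n k : α → ℕ) (isX : α → Prop)
    [DecidablePred isX] (Q : ℕ) (hQ : 2 ≤ Q)
    (hd : ∀ f ∈ S, 1 ≤ d f ∧ 1 ≤ m f) (hsum : ∑ f ∈ S, d f * m f = 4)
    (hX : ∀ f ∈ S, isX f → d f = 1 ∧ n f = 2)
    (hXu : ∀ f ∈ S, ∀ g ∈ S, isX f → isX g → f = g)
    (hn : ∀ f ∈ S, ¬ isX f → n f = Q ^ d f - 1 ∨ n f = Q ^ d f + 1)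
    (hk : ∀ f ∈ S, k f = if m f = 1 then 0 else if m f = 2 then 1 else 2) :
    ∃ N ∈ sp8Orders Q, ∀ f ∈ S, 2 ^ k f * n f ∣ N := by
  classical
  have hQ1 : 1 ≤ Q := by omega
  obtain ⟨c1, c2⟩ := cube_dvd Q hQ1
  have e4 := pow_four_sub_one Q
  have e2 := sq_sub_one_eq Q
  have hw : ∀ f ∈ S, 1 ≤ d f * m f := fun f hf => Nat.one_le_iff_ne_zero.2
    (Nat.mul_ne_zero (by have := (hd f hf).1; omega) (by have := (hd f hf).2; omega))
  have hlin : ∀ g ∈ S, d g = 1 → ¬ isX g → n g ∣ Q ^ 2 - 1 ∧ (n g = Q - 1 ∨ n g = Q + 1) := by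
    intro g hg h1 hx
    have := hn g hg hx
    rw [h1, pow_one] at this
    refine ⟨?_, this⟩
    rcases this with h | h <;> rw [h, e2]
    · exact dvd_mul_left _ _
    · exact dvd_mul_right _ _
  have hrest : ∀ f ∈ S, ∀ g ∈ S, g ≠ f → d f * m f + d g * m g ≤ 4 := by
    intro f hf g hg hne
    rw [← hsum]
    refine le_trans (le_of_eq (Finset.sum_pair (f := fun a => d a * m a) hne.symm).symm) ?_
    exact Finset.sum_le_sum_of_subset fun c hc => by
      rcases Finset.mem_insert.1 hc with rfl | hc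
      exacts [hf, Finset.mem_singleton.1 hc ▸ hg]
  by_cases h4 : ∃ f ∈ S, d f = 4
  · obtain ⟨f, hf, hd4⟩ := h4
    have hx : ¬ isX f := fun h => by have := (hX f hf h).1; omega
    have honly : ∀ g ∈ S, g = f := fun g hg => by
      by_contra hne
      have := hrest f hf g hg hne
      have := hw g hg
      have := (hd f hf).2
      rw [hd4] at *
      omega
    have hm : m f = 1 := by
      have := Finset.single_le_sum (f := fun a => d a * m a) (fun a _ => Nat.zero_le _) hf
      have := (hd f hf).2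
      rw [hsum, hd4] at *
      omega
    have hkf : k f = 0 := by rw [hk f hf, if_pos hm]
    rcases hn f hf hx with h | h <;> rw [hd4] at h
    · exact ⟨Q ^ 4 - 1, by simp [sp8Orders], fun g hg => by rw [honly g hg, hkf, h]; simp⟩
    · exact ⟨Q ^ 4 + 1, by simp [sp8Orders], fun g hg => by rw [honly g hg, hkf, h]; simp⟩
  push Not at h4
  by_cases h3 : ∃ f ∈ S, d f = 3
  · obtain ⟨f, hf, hd3⟩ := h3
    have hx : ¬ isX f := fun h => by have := (hX f hf h).1; omega
    have hm : m f = 1 := by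
      have := Finset.single_le_sum (f := fun a => d a * m a) (fun a _ => Nat.zero_le _) hf
      have := (hd f hf).2
      rw [hsum, hd3] at *
      omega
    have hsum' : ∑ g ∈ S.erase f, d g * m g = 1 := by
      have := Finset.add_sum_erase S (fun a => d a * m a) hf
      rw [hd3, hm, hsum] at this
      omega
    obtain ⟨g, hg⟩ := Finset.nonempty_of_ne_empty (s := S.erase f) fun h => by
      rw [h, Finset.sum_empty] at hsum'; omega
    obtain ⟨hgf, hgS⟩ := Finset.mem_erase.1 hg
    have huniq : ∀ a ∈ S, a = f ∨ a = g := fun a ha => by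
      by_cases e : a = f
      · exact Or.inl e
      · exact Or.inr (single_of_sum_le_one (fun b hb => hw b (Finset.mem_of_mem_erase hb))
          hsum'.le (Finset.mem_erase.2 ⟨e, ha⟩) hg)
    have hg1 : d g = 1 ∧ m g = 1 := by
      have := hrest f hf g hgS hgf
      rw [hd3, hm] at this
      exact mul_eq_one.1 (le_antisymm (by omega) (hw g hgS))
    have hkf : k f = 0 := by rw [hk f hf, if_pos hm]
    have hkg : k g = 0 := by rw [hk g hgS, if_pos hg1.2]
    have fin : ∀ N ∈ sp8Orders Q, n f ∣ N → n g ∣ N → ∃ N ∈ sp8Orders Q, ∀ a ∈ S, 2 ^ k a * n a ∣ N :=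
      fun N hN h1 h2 => ⟨N, hN, fun a ha => by
        rcases huniq a ha with rfl | rfl
        · rw [hkf]; simpa using h1
        · rw [hkg]; simpa using h2⟩
    rcases hn f hf hx with h | h <;> rw [hd3] at h
    · by_cases hgx : isX g
      · exact fin (2 * (Q ^ 3 - 1)) (by simp [sp8Orders]) (by rw [h]; exact dvd_mul_left _ _)
          (by rw [(hX g hgS hgx).2]; exact dvd_mul_right _ _)
      · refine fin ((Q ^ 3 - 1) * (Q + 1)) (by simp [sp8Orders]) (by rw [h]; exact dvd_mul_right _ _) ?_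
        rcases (hlin g hgS hg1.1 hgx).2 with h' | h' <;> rw [h']
        · exact c2.mul_right _
        · exact dvd_mul_left _ _
    · by_cases hgx : isX g
      · exact fin (2 * (Q ^ 3 + 1)) (by simp [sp8Orders]) (by rw [h]; exact dvd_mul_left _ _)
          (by rw [(hX g hgS hgx).2]; exact dvd_mul_right _ _)
      · refine fin ((Q ^ 3 + 1) * (Q - 1)) (by simp [sp8Orders]) (by rw [h]; exact dvd_mul_right _ _) ?_
        rcases (hlin g hgS hg1.1 hgx).2 with h' | h' <;> rw [h']
        · exact dvd_mul_left _ _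
        · exact c1.mul_right _
  push Not at h3
  have hd12 : ∀ f ∈ S, d f = 1 ∨ d f = 2 := fun f hf => by
    have h1 := (hd f hf).1
    have h5 := Finset.single_le_sum (f := fun a => d a * m a) (fun a _ => Nat.zero_le _) hf
    rw [hsum] at h5
    have h6 : d f ≤ d f * m f := Nat.le_mul_of_pos_right _ (hd f hf).2
    have := h4 f hf
    have := h3 f hf
    omega
  by_cases hC : ∃ f ∈ S, d f = 2 ∧ n f = Q ^ 2 + 1
  · obtain ⟨f, hf, hd2, hnf⟩ := hC
    have hx : ¬ isX f := fun h => by have := (hX f hf h).1; omega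
    have hadd := Finset.add_sum_erase S (fun a => d a * m a) hf
    rw [hd2, hsum] at hadd
    have hm : m f = 1 ∨ m f = 2 := by have := (hd f hf).2; omega
    rcases hm with hm | hm
    swap
    · refine ⟨4 * (Q ^ 2 + 1), by simp [sp8Orders], fun a ha => ?_⟩
      have : a = f := by
        by_contra hne
        have := hrest f hf a ha hne
        have := hw a ha
        rw [hd2, hm] at *
        omega
      subst this
      rw [hk a ha, hm, hnf]
      exact mul_dvd_mul_right (by norm_num) _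
    rw [hm] at hadd
    have hkf : 2 ^ k f * n f = Q ^ 2 + 1 := by rw [hk f hf, if_pos hm, hnf]; simp
    obtain ⟨g, hg⟩ := Finset.nonempty_of_ne_empty (s := S.erase f) fun h => by
      rw [h, Finset.sum_empty] at hadd; omega
    obtain ⟨hgf, hgS⟩ := Finset.mem_erase.1 hg
    have hadd2 := Finset.add_sum_erase (S.erase f) (fun a => d a * m a) hg
    have hwg := hw g hgS
    rcases (by omega : d g * m g = 2 ∨ d g * m g = 1) with hg2 | hg1
    · have huniq : ∀ a ∈ S, a = f ∨ a = g := fun a ha => by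
        by_contra hne
        push Not at hne
        have h1 := Finset.single_le_sum (f := fun b => d b * m b) (fun b _ => Nat.zero_le _)
          (Finset.mem_erase.2 ⟨hne.2, Finset.mem_erase.2 ⟨hne.1, ha⟩⟩)
        have := hw a ha
        omega
      have fin : ∀ N ∈ sp8Orders Q, Q ^ 2 + 1 ∣ N → 2 ^ k g * n g ∣ N →
          ∃ N ∈ sp8Orders Q, ∀ a ∈ S, 2 ^ k a * n a ∣ N :=
        fun N hN h1 h2 => ⟨N, hN, fun a ha => by
          rcases huniq a ha with rfl | rfl
          · rw [hkf]; exact h1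
          · exact h2⟩
      rcases hd12 g hgS with h1 | h1
      · have hmg : m g = 2 := by rw [h1, one_mul] at hg2; exact hg2
        by_cases hgx : isX g
        · exact fin (4 * (Q ^ 2 + 1)) (by simp [sp8Orders]) (dvd_mul_left _ _)
            (by rw [hk g hgS, hmg, (hX g hgS hgx).2]; exact dvd_mul_right _ _)
        · rcases (hlin g hgS h1 hgx).2 with h' | h'
          · exact fin (2 * ((Q ^ 2 + 1) * (Q - 1))) (by simp [sp8Orders])
              ((dvd_mul_right _ _).mul_left _)
              (by rw [hk g hgS, hmg, h']; exact mul_dvd_mul_left _ (dvd_mul_left _ _))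
          · exact fin (2 * ((Q ^ 2 + 1) * (Q + 1))) (by simp [sp8Orders])
              ((dvd_mul_right _ _).mul_left _)
              (by rw [hk g hgS, hmg, h']; exact mul_dvd_mul_left _ (dvd_mul_left _ _))
      · have hmg : m g = 1 := by rw [h1] at hg2; omega
        have hgx : ¬ isX g := fun h => by have := (hX g hgS h).1; omega
        refine fin (Q ^ 4 - 1) (by simp [sp8Orders]) (by rw [e4]; exact dvd_mul_right _ _) ?_
        rw [hk g hgS, hmg, if_pos rfl, pow_zero, one_mul, e4]
        rcases hn g hgS hgx with h' | h' <;> rw [h', h1]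
        · exact dvd_mul_left _ _
        · exact dvd_mul_right _ _
    · -- two further linear factors
      obtain ⟨h1, hmg⟩ := mul_eq_one.1 hg1
      obtain ⟨g', hg'⟩ := Finset.nonempty_of_ne_empty (s := (S.erase f).erase g) fun h => by
        rw [h, Finset.sum_empty] at hadd2; omega
      obtain ⟨hg'g, hg'e⟩ := Finset.mem_erase.1 hg'
      obtain ⟨hg'f, hg'S⟩ := Finset.mem_erase.1 hg'e
      have hsum1 : ∑ b ∈ (S.erase f).erase g, d b * m b = 1 := by omega
      have huniq : ∀ a ∈ S, a = f ∨ a = g ∨ a = g' := fun a ha => by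
        by_cases e : a = f
        · exact Or.inl e
        by_cases e' : a = g
        · exact Or.inr (Or.inl e')
        exact Or.inr (Or.inr (single_of_sum_le_one
          (fun b hb => hw b (Finset.mem_of_mem_erase (Finset.mem_of_mem_erase hb))) hsum1.le
          (Finset.mem_erase.2 ⟨e', Finset.mem_erase.2 ⟨e, ha⟩⟩) hg'))
      have hg'1 : d g' = 1 ∧ m g' = 1 := mul_eq_one.1 (le_antisymm
        (hsum1 ▸ Finset.single_le_sum (f := fun a => d a * m a) (fun a _ => Nat.zero_le _) hg')
        (hw g' hg'S))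
      have hk0 : k g = 0 ∧ k g' = 0 :=
        ⟨by rw [hk g hgS, if_pos hmg], by rw [hk g' hg'S, if_pos hg'1.2]⟩
      have fin : ∀ N ∈ sp8Orders Q, Q ^ 2 + 1 ∣ N → n g ∣ N → n g' ∣ N →
          ∃ N ∈ sp8Orders Q, ∀ a ∈ S, 2 ^ k a * n a ∣ N :=
        fun N hN a1 a2 a3 => ⟨N, hN, fun a ha => by
          rcases huniq a ha with rfl | rfl | rfl
          · rw [hkf]; exact a1
          · rw [hk0.1]; simpa using a2
          · rw [hk0.2]; simpa using a3⟩
      have mixed : ∀ a b : α, a ∈ S → b ∈ S → isX a → ¬ isX b → d b = 1 →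
          ∃ N ∈ sp8Orders Q, Q ^ 2 + 1 ∣ N ∧ n a ∣ N ∧ n b ∣ N := by
        intro a b ha hb hax hbx hb1
        rcases (hlin b hb hb1 hbx).2 with h' | h'
        · exact ⟨2 * ((Q ^ 2 + 1) * (Q - 1)), by simp [sp8Orders], (dvd_mul_right _ _).mul_left _,
            by rw [(hX a ha hax).2]; exact dvd_mul_right _ _,
            by rw [h']; exact (dvd_mul_left _ _).mul_left _⟩
        · exact ⟨2 * ((Q ^ 2 + 1) * (Q + 1)), by simp [sp8Orders], (dvd_mul_right _ _).mul_left _,
            by rw [(hX a ha hax).2]; exact dvd_mul_right _ _,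
            by rw [h']; exact (dvd_mul_left _ _).mul_left _⟩
      by_cases hgx : isX g
      · obtain ⟨N, hN, a1, a2, a3⟩ := mixed g g' hgS hg'S hgx
          (fun h => hg'g (hXu g' hg'S g hgS h hgx)) hg'1.1
        exact fin N hN a1 a2 a3
      · by_cases hg'x : isX g'
        · obtain ⟨N, hN, a1, a2, a3⟩ := mixed g' g hg'S hgS hg'x hgx h1
          exact fin N hN a1 a3 a2
        · exact fin (Q ^ 4 - 1) (by simp [sp8Orders]) (by rw [e4]; exact dvd_mul_right _ _)
            (by rw [e4]; exact (hlin g hgS h1 hgx).1.mul_left _)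
            (by rw [e4]; exact (hlin g' hg'S hg'1.1 hg'x).1.mul_left _)
  push Not at hC
  have hall : ∀ f ∈ S, ¬ isX f → n f ∣ Q ^ 2 - 1 := fun f hf hx => by
    rcases hd12 f hf with h | h
    · exact (hlin f hf h hx).1
    · rcases hn f hf hx with h' | h'
      · rw [h', h]
      · rw [h] at h'; exact absurd h' (hC f hf h)
  by_cases hbig : ∃ f ∈ S, isX f ∧ 3 ≤ m f
  · obtain ⟨f, hf, hfx, hm⟩ := hbig
    have hsmall : ∀ a ∈ S, a ≠ f → d a = 1 ∧ m a = 1 ∧ ¬ isX a := fun a ha hne => by
      have h1 := hrest f hf a ha hne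
      rw [(hX f hf hfx).1, one_mul] at h1
      have h2 := mul_eq_one.1 (le_antisymm (by omega) (hw a ha))
      exact ⟨h2.1, h2.2, fun h => hne (hXu a ha f hf h hfx)⟩
    have hkf : 2 ^ k f * n f = 8 := by
      rw [hk f hf, if_neg (by omega), if_neg (by omega), (hX f hf hfx).2]; rfl
    by_cases hg : ∃ g ∈ S, g ≠ f
    · obtain ⟨g, hgS, hgf⟩ := hg
      have honly : ∀ a ∈ S, a = f ∨ a = g := fun a ha => by
        by_contra hne
        push Not at hne
        have h1 := Finset.sum_le_sum_of_subset (f := fun b => d b * m b)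
          (show ({f, g, a} : Finset α) ⊆ S by
            intro c hc
            simp only [Finset.mem_insert, Finset.mem_singleton] at hc
            rcases hc with rfl | rfl | rfl
            exacts [hf, hgS, ha])
        rw [Finset.sum_insert (by simp [hgf.symm, hne.1.symm]), Finset.sum_pair hne.2.symm,
          hsum, (hX f hf hfx).1, one_mul] at h1
        have := hw a ha
        have := hw g hgS
        omega
      obtain ⟨hg1, hgm, hgx⟩ := hsmall g hgS hgf
      have hkg : k g = 0 := by rw [hk g hgS, if_pos hgm]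
      rcases (hlin g hgS hg1 hgx).2 with h' | h'
      · refine ⟨8 * (Q - 1), by simp [sp8Orders], fun a ha => ?_⟩
        rcases honly a ha with rfl | rfl
        · rw [hkf]; exact dvd_mul_right _ _
        · rw [hkg, h', pow_zero, one_mul]; exact dvd_mul_left _ _
      · refine ⟨8 * (Q + 1), by simp [sp8Orders], fun a ha => ?_⟩
        rcases honly a ha with rfl | rfl
        · rw [hkf]; exact dvd_mul_right _ _
        · rw [hkg, h', pow_zero, one_mul]; exact dvd_mul_left _ _
    · push Not at hg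
      exact ⟨8 * (Q - 1), by simp [sp8Orders], fun a ha => by
        rw [hg a ha, hkf]; exact dvd_mul_right _ _⟩
  push Not at hbig
  refine ⟨4 * (Q ^ 2 - 1), by simp [sp8Orders], fun a ha => ?_⟩
  by_cases hax : isX a
  · rw [(hX a ha hax).2, hk a ha]
    have := hbig a ha hax
    split_ifs with u v
    · exact (by norm_num : 2 ^ 0 * 2 ∣ 4).mul_right _
    · exact (by norm_num : 2 ^ 1 * 2 ∣ 4).mul_right _
    · have := (hd a ha).2; omega
  · refine mul_dvd_mul ?_ (hall a ha hax)
    rw [hk a ha]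
    split_ifs <;> norm_num

/-- A palindromic polynomial of degree eight divides `X ^ N - 1`. -/
theorem palindromic_octic_dvd {P : F[X]} (hm : P.Monic) (hd : P.natDegree = 8)
    (hsym : ∀ i, i ≤ 8 → P.coeff i = P.coeff (8 - i)) :
    ∃ N ∈ sp8Orders q, P ∣ X ^ N - 1 := by
  classical
  obtain ⟨Q, hQm, hQd, y, hy, hQ0⟩ := exists_quartic_of_palindrome hm hd hsym
  set x := AdjoinRoot.root P
  obtain ⟨hsum, hprod⟩ := sum_weight_eq hQm
  set S := (normalizedFactors Q).toFinset
  set m := fun f => (normalizedFactors Q).count f with hmdef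
  have hirr : ∀ f ∈ S, Irreducible f ∧ f.Monic ∧ 1 ≤ f.natDegree ∧ 1 ≤ m f := by
    intro f hf
    have hf' := Multiset.mem_toFinset.1 hf
    have h1 := irreducible_of_normalized_factor f hf'
    refine ⟨h1, ?_, h1.natDegree_pos, Multiset.one_le_count_iff_mem.2 hf'⟩
    have h2 := normalize_normalized_factor f hf'
    rw [← h2]
    exact monic_normalize h1.ne_zero
  let k : F[X] → ℕ := fun f => if m f = 1 then 0 else if m f = 2 then 1 else 2
  have hbound : ∀ f ∈ S, m f ≤ 2 ^ k f := by
    intro f hf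
    have h1 := Finset.single_le_sum (f := fun g => g.natDegree * m g) (fun g _ => Nat.zero_le _) hf
    have h2 : m f ≤ f.natDegree * m f := Nat.le_mul_of_pos_left _ (hirr f hf).2.2.1
    rw [hsum, hQd] at h1
    simp only [k]
    split_ifs <;> omega
  -- the order for each factor
  have hfac : ∀ f ∈ S, ∃ n : ℕ, aeval (x + y) (f ^ m f) ∣ x ^ (2 ^ k f * n) - 1 ∧
      (f = X → n = 2) ∧ (f ≠ X → n = q ^ f.natDegree - 1 ∨ n = q ^ f.natDegree + 1) := by
    intro f hf
    set I := Ideal.span {aeval (x + y) (f ^ m f)} with hI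
    let π : AdjoinRoot P →ₐ[F] AdjoinRoot P ⧸ I := Ideal.Quotient.mkₐ F I
    obtain ⟨h1, h2⟩ := factor_pow_eq_one (x := π x) (y := π y) (by rw [← map_mul, hy, map_one])
      (hirr f hf).1 (hirr f hf).2.1 (hbound f hf) (by
        rw [← map_add, aeval_algHom_apply]
        exact Ideal.Quotient.eq_zero_iff_mem.2 (Ideal.mem_span_singleton_self _))
    have conv : ∀ N, π x ^ N = 1 → aeval (x + y) (f ^ m f) ∣ x ^ N - 1 := fun N h => by
      rw [← Ideal.mem_span_singleton, ← hI, ← Ideal.Quotient.eq_zero_iff_mem, map_sub, map_one,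
        map_pow, sub_eq_zero]
      exact h
    by_cases hX : f = X
    · exact ⟨2, conv _ (h1 hX), fun _ => rfl, fun h => absurd hX h⟩
    · rcases h2 hX with h | h
      · exact ⟨_, conv _ h, fun e => absurd e hX, fun _ => Or.inl rfl⟩
      · exact ⟨_, conv _ h, fun e => absurd e hX, fun _ => Or.inr rfl⟩
  choose! n hdiv hnX hnn using hfac
  obtain ⟨N, hN, hNd⟩ := exists_order_of_weights S (fun f => f.natDegree) m n k (fun f => f = X) q
    Fintype.one_lt_card (fun f hf => ⟨(hirr f hf).2.2.1, (hirr f hf).2.2.2⟩) (hsum.trans hQd)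
    (fun f hf h => ⟨by show f.natDegree = 1; rw [show f = X from h]; exact natDegree_X, hnX f hf h⟩)
    (fun f _ g _ hf hg => (show f = X from hf).trans (show g = X from hg).symm)
    (fun f hf h => hnn f hf h) (fun f _ => rfl)
  refine ⟨N, hN, ?_⟩
  rw [← AdjoinRoot.mk_eq_zero, map_sub, map_pow, map_one, AdjoinRoot.mk_X]
  have hall : ∏ f ∈ S, aeval (x + y) (f ^ m f) ∣ x ^ N - 1 := by
    refine Finset.prod_dvd_of_coprime ?_ fun f hf => ?_
    · intro f hf g hg hne
      refine IsCoprime.map ?_ (aeval (x + y)).toRingHom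
      refine IsCoprime.pow ((hirr f hf).1.coprime_iff_not_dvd.2 fun hd' => hne ?_)
      exact eq_of_monic_of_associated (hirr f hf).2.1 (hirr g hg).2.1
        ((hirr f hf).1.associated_of_dvd (hirr g hg).1 hd')
    · obtain ⟨c, hc⟩ := hNd f hf
      refine (hdiv f hf).trans ?_
      rw [hc]
      rw [pow_mul x (2 ^ k f * n f) c]; exact sub_one_dvd_pow_sub_one _ c
  rw [← map_prod, hprod, hQ0, zero_dvd_iff] at hall
  exact hall

end Cfsg.Agent.RecogA
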