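import Mathlib

/-!
The maximal element orders of `PΩ(9, q)`, `q` odd, and the combinatorics of the factors of a
palindromic polynomial of degree eight.
-/

namespace Cfsg.Agent.RecogA

/-- The least power of `p` which is at least `n`, for `p > 1`. -/
def ppow (p n : ℕ) : ℕ := p ^ Nat.clog p n

theorem ppow_one (p : ℕ) : ppow p 1 = 1 := by simp [ppow]

theorem ppow_dvd {p a b : ℕ} (h : a ≤ b) : ppow p a ∣ ppow p b :=
  pow_dvd_pow _ (Nat.clog_mono_right _ h)

theorem le_ppow {p : ℕ} (hp : 1 < p) (n : ℕ) : n ≤ ppow p n := Nat.le_pow_clog hp n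

/-- The maximal element orders, with some redundancy. -/
def omegaNineOrders (q p : ℕ) : Finset ℕ :=
  {(q ^ 4 + 1) / 2, (q ^ 4 - 1) / 2, (q ^ 3 + 1) * (q - 1) / 2, (q ^ 3 - 1) * (q + 1) / 2,
    ppow p 3 * ((q ^ 3 + 1) / 2), ppow p 3 * ((q ^ 3 - 1) / 2),
    ppow p 3 * ((q ^ 2 + 1) * (q + 1) / 2), ppow p 3 * ((q ^ 2 + 1) * (q - 1) / 2),
    ppow p 3 * (q ^ 2 - 1), ppow p 5 * ((q ^ 2 + 1) / 2), ppow p 5 * ((q ^ 2 - 1) / 2),
    ppow p 5 * (q + 1), ppow p 5 * (q - 1), ppow p 7 * ((q + 1) / 2), ppow p 7 * ((q - 1) / 2),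
    ppow p 9}

theorem dvd_half_left {a b : ℕ} (hb : Even b) : a ∣ a * b / 2 := by
  rw [Nat.mul_div_assoc _ hb.two_dvd]
  exact dvd_mul_right _ _

theorem dvd_half_right {a b : ℕ} (ha : Even a) : b ∣ a * b / 2 := by
  rw [Nat.mul_div_right_comm ha.two_dvd]
  exact dvd_mul_left _ _

theorem four_sub_one (n : ℕ) : n ^ 4 - 1 = (n ^ 2 + 1) * (n ^ 2 - 1) := by
  have := Nat.sq_sub_sq (n ^ 2) 1
  rwa [← pow_mul, one_pow] at this

theorem two_sub_one (n : ℕ) : n ^ 2 - 1 = (n + 1) * (n - 1) := by
  simpa using Nat.sq_sub_sq n 1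

theorem three_dvd (n : ℕ) : n + 1 ∣ n ^ 3 + 1 ∧ n - 1 ∣ n ^ 3 - 1 := by
  refine ⟨by simpa using (Odd.nat_add_dvd_pow_add_pow (x := n) (y := 1) (n := 3) (by decide)), ?_⟩
  simpa using Nat.sub_dvd_pow_sub_pow n 1 3

/-- The weights: `i` and `j` for the values `2` and `-2`, a set `S` for the other factors, with
degree `d`, multiplicity `m`, and `o` the order of a root. -/
theorem exists_order_of_odd_weights {α : Type*} (S : Finset α) (d m o : α → ℕ) (i j Q p : ℕ)
    (hQ : 2 ≤ Q) (hodd : Odd Q) (hd : ∀ f ∈ S, 1 ≤ d f ∧ 1 ≤ m f)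
    (hsum : i + j + ∑ f ∈ S, d f * m f = 4)
    (ho : ∀ f ∈ S, o f ∣ Q ^ d f - 1 ∨ o f ∣ Q ^ d f + 1)
    (hhalf : j = 0 → ∀ f ∈ S, i + d f = 4 → o f ∣ (Q ^ d f - 1) / 2 ∨ o f ∣ (Q ^ d f + 1) / 2) :
    ∃ N ∈ omegaNineOrders Q p, ppow p (2 * i + 1) ∣ N ∧ (1 ≤ j → 2 * ppow p (2 * j - 1) ∣ N) ∧
      ∀ f ∈ S, ppow p (m f) * o f ∣ N := by
  classical
  have hp1 : Even (Q + 1) := hodd.add_one
  have hm1 : Even (Q - 1) := hodd.tsub_odd odd_one
  have hp2 : Even (Q ^ 2 + 1) := hodd.pow.add_one
  have hm2 : Even (Q ^ 2 - 1) := hodd.pow.tsub_odd odd_one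
  have hp3 : Even (Q ^ 3 + 1) := hodd.pow.add_one
  have hm3 : Even (Q ^ 3 - 1) := hodd.pow.tsub_odd odd_one
  obtain ⟨c1, c2⟩ := three_dvd Q
  have e2 := two_sub_one Q
  have e4 := four_sub_one Q
  have hw : ∀ f ∈ S, 1 ≤ d f * m f ∧ d f ≤ d f * m f ∧ m f ≤ d f * m f := fun f hf =>
    ⟨Nat.one_le_iff_ne_zero.2 (Nat.mul_ne_zero (by have := (hd f hf).1; omega)
      (by have := (hd f hf).2; omega)), Nat.le_mul_of_pos_right _ (hd f hf).2,
      Nat.le_mul_of_pos_left _ (hd f hf).1⟩
  have hle : ∀ f ∈ S, i + j + d f * m f ≤ 4 := fun f hf => by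
    have := Finset.single_le_sum (f := fun a => d a * m a) (fun a _ => Nat.zero_le _) hf
    omega
  have hpair : ∀ f ∈ S, ∀ g ∈ S, g ≠ f → i + j + d f * m f + d g * m g ≤ 4 := by
    intro f hf g hg hne
    have h1 := Finset.add_sum_erase S (fun a => d a * m a) hf
    have h2 := Finset.single_le_sum (f := fun a => d a * m a) (fun a _ => Nat.zero_le _)
      (Finset.mem_erase.2 ⟨hne, hg⟩)
    omega
  have hone : ∀ f ∈ S, d f = 1 → o f ∣ Q ^ 2 - 1 ∧ (o f ∣ Q - 1 ∨ o f ∣ Q + 1) := by
    intro f hf h
    have h' := ho f hf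
    rw [h, pow_one] at h'
    refine ⟨?_, h'⟩
    rw [e2]
    rcases h' with h' | h'
    · exact h'.mul_left _
    · exact h'.mul_right _
  have h2p : ∀ k, ppow p k * 2 ∣ ppow p k * (Q + 1) ∧ ppow p k * 2 ∣ ppow p k * (Q - 1) := fun k =>
    ⟨mul_dvd_mul_left _ hp1.two_dvd, mul_dvd_mul_left _ hm1.two_dvd⟩
  have h21 : ∀ a b, a ≤ b → ∀ {x}, 2 ∣ x → 2 * ppow p a ∣ ppow p b * x := fun a b h x hx => by
    rw [mul_comm 2]; exact mul_dvd_mul (ppow_dvd h) hx
  -- all factors of multiplicity one and degree one
  have hnil : i + j = 4 → ∀ f ∈ S, False := fun h f hf => by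
    have := hle f hf; have := (hw f hf).1; omega
  rcases lt_or_ge i 2 with hi | hi
  swap
  · -- `i ≥ 2`
    rcases eq_or_ne i 4 with rfl | hi4
    · refine ⟨ppow p 9, by simp [omegaNineOrders], dvd_rfl, fun h => by omega,
        fun f hf => (hnil (by omega) f hf).elim⟩
    rcases eq_or_ne i 3 with rfl | hi3
    · rcases eq_or_ne j 0 with rfl | hj
      · -- one linear factor, halved
        by_cases hS : ∃ f ∈ S, True
        swap
        · exfalso
          have : S = ∅ := Finset.eq_empty_of_forall_notMem fun f hf => hS ⟨f, hf, trivial⟩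
          rw [this, Finset.sum_empty] at hsum
          omega
        obtain ⟨f, hf, -⟩ := hS
        have := hle f hf; have := hw f hf
        have honly : ∀ g ∈ S, g = f := fun g hg => by
          by_contra hne; have := hpair f hf g hg hne; have := (hw g hg).1; omega
        have hd1 : d f = 1 := by have := (hd f hf).1; omega
        have hm1' : m f = 1 := by have := (hd f hf).2; omega
        have hh := hhalf rfl f hf (by omega)
        rw [hd1, pow_one] at hh
        rcases hh with h | h
        · exact ⟨ppow p 7 * ((Q - 1) / 2), by simp [omegaNineOrders], dvd_mul_right _ _,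
            fun h => by omega, fun g hg => by
              rw [honly g hg, hm1', ppow_one, one_mul]; exact h.mul_left _⟩
        · exact ⟨ppow p 7 * ((Q + 1) / 2), by simp [omegaNineOrders], dvd_mul_right _ _,
            fun h => by omega, fun g hg => by
              rw [honly g hg, hm1', ppow_one, one_mul]; exact h.mul_left _⟩
      · obtain rfl : j = 1 := by omega
        rcases Nat.even_or_odd ((Q - 1) / 2) with h | h
        · refine ⟨ppow p 7 * ((Q - 1) / 2), by simp [omegaNineOrders], dvd_mul_right _ _,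
            fun _ => h21 1 7 (by norm_num) h.two_dvd, fun f hf => (hnil (by omega) f hf).elim⟩
        · refine ⟨ppow p 7 * ((Q + 1) / 2), by simp [omegaNineOrders], dvd_mul_right _ _,
            fun _ => h21 1 7 (by norm_num) ?_, fun f hf => (hnil (by omega) f hf).elim⟩
          obtain ⟨r, hr⟩ := h; obtain ⟨s, hs⟩ := hodd
          omega
    obtain rfl : i = 2 := by omega
    rcases lt_or_ge j 2 with hj | hj
    swap
    · obtain rfl : j = 2 := by omega
      exact ⟨ppow p 5 * (Q - 1), by simp [omegaNineOrders], dvd_mul_right _ _,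
        fun _ => h21 3 5 (by norm_num) hm1.two_dvd, fun f hf => (hnil (by omega) f hf).elim⟩
    rcases Nat.lt_or_ge 0 j with hj' | hj'
    · obtain rfl : j = 1 := by omega
      by_cases hS : ∃ f ∈ S, True
      swap
      · exfalso
        have : S = ∅ := Finset.eq_empty_of_forall_notMem fun f hf => hS ⟨f, hf, trivial⟩
        rw [this, Finset.sum_empty] at hsum
        omega
      obtain ⟨f, hf, -⟩ := hS
      have := hle f hf; have := hw f hf
      have honly : ∀ g ∈ S, g = f := fun g hg => by
        by_contra hne; have := hpair f hf g hg hne; have := (hw g hg).1; omega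
      have hd1 : d f = 1 := by have := (hd f hf).1; omega
      have hm1' : m f = 1 := by have := (hd f hf).2; omega
      rcases (hone f hf hd1).2 with h | h
      · exact ⟨ppow p 5 * (Q - 1), by simp [omegaNineOrders], dvd_mul_right _ _,
          fun _ => h21 1 5 (by norm_num) hm1.two_dvd, fun g hg => by
            rw [honly g hg, hm1', ppow_one, one_mul]; exact h.mul_left _⟩
      · exact ⟨ppow p 5 * (Q + 1), by simp [omegaNineOrders], dvd_mul_right _ _,
          fun _ => h21 1 5 (by norm_num) hp1.two_dvd, fun g hg => by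
            rw [honly g hg, hm1', ppow_one, one_mul]; exact h.mul_left _⟩
    obtain rfl : j = 0 := by omega
    by_cases h2 : ∃ f ∈ S, d f = 2
    · obtain ⟨f, hf, hd2⟩ := h2
      have := hle f hf; have := hw f hf
      have honly : ∀ g ∈ S, g = f := fun g hg => by
        by_contra hne; have := hpair f hf g hg hne; have := (hw g hg).1; omega
      have hm1' : m f = 1 := by have := (hd f hf).2; rw [hd2] at *; omega
      have hh := hhalf rfl f hf (by omega)
      rw [hd2] at hh
      rcases hh with h | h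
      · exact ⟨ppow p 5 * ((Q ^ 2 - 1) / 2), by simp [omegaNineOrders], dvd_mul_right _ _,
          fun h => by omega, fun g hg => by
            rw [honly g hg, hm1', ppow_one, one_mul]; exact h.mul_left _⟩
      · exact ⟨ppow p 5 * ((Q ^ 2 + 1) / 2), by simp [omegaNineOrders], dvd_mul_right _ _,
          fun h => by omega, fun g hg => by
            rw [honly g hg, hm1', ppow_one, one_mul]; exact h.mul_left _⟩
    push Not at h2
    have hd1 : ∀ f ∈ S, d f = 1 := fun f hf => by
      have := hle f hf; have := hw f hf; have := h2 f hf; have := (hd f hf).1; omega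
    by_cases hm : ∃ f ∈ S, m f = 2
    · obtain ⟨f, hf, hm2'⟩ := hm
      have honly : ∀ g ∈ S, g = f := fun g hg => by
        by_contra hne; have a1 := hpair f hf g hg hne; have := (hw g hg).1
        rw [hd1 f hf, hm2'] at a1; omega
      rcases (hone f hf (hd1 f hf)).2 with h | h
      · exact ⟨ppow p 5 * (Q - 1), by simp [omegaNineOrders], dvd_mul_right _ _, fun h => by omega,
          fun g hg => by rw [honly g hg, hm2']; exact mul_dvd_mul (ppow_dvd (by norm_num)) h⟩
      · exact ⟨ppow p 5 * (Q + 1), by simp [omegaNineOrders], dvd_mul_right _ _, fun h => by omega,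
          fun g hg => by rw [honly g hg, hm2']; exact mul_dvd_mul (ppow_dvd (by norm_num)) h⟩
    push Not at hm
    refine ⟨ppow p 5 * ((Q ^ 2 - 1) / 2), by simp [omegaNineOrders], dvd_mul_right _ _,
      fun h => by omega, fun g hg => ?_⟩
    have := hle g hg; have := hw g hg; have := hm g hg
    rw [show m g = 1 by have := (hd g hg).2; omega, ppow_one, one_mul, e2]
    rcases (hone g hg (hd1 g hg)).2 with h | h
    · exact (h.trans (dvd_half_right hp1)).mul_left _
    · exact (h.trans (dvd_half_left hm1)).mul_left _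
  -- `i ≤ 1`
  have hi' : ppow p (2 * i + 1) ∣ ppow p 3 := ppow_dvd (by omega)
  by_cases hj3 : 3 ≤ j
  · rcases eq_or_ne j 4 with rfl | hj4
    · rcases Nat.even_or_odd ((Q - 1) / 2) with h | h
      · exact ⟨ppow p 7 * ((Q - 1) / 2), by simp [omegaNineOrders],
          (ppow_dvd (by omega)).trans (dvd_mul_right _ _), fun _ => h21 7 7 le_rfl h.two_dvd,
          fun f hf => (hnil (by omega) f hf).elim⟩
      · refine ⟨ppow p 7 * ((Q + 1) / 2), by simp [omegaNineOrders],
          (ppow_dvd (by omega)).trans (dvd_mul_right _ _), fun _ => h21 7 7 le_rfl ?_,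
          fun f hf => (hnil (by omega) f hf).elim⟩
        obtain ⟨r, hr⟩ := h; obtain ⟨s, hs⟩ := hodd
        omega
    obtain rfl : j = 3 := by omega
    have hlin : ∀ f ∈ S, i = 0 ∧ d f = 1 ∧ m f = 1 ∧ ∀ g ∈ S, g = f := fun f hf => by
      have := hle f hf; have := hw f hf; have := hd f hf
      refine ⟨by omega, by omega, by omega, fun g hg => ?_⟩
      by_contra hne; have := hpair f hf g hg hne; have := (hw g hg).1; omega
    by_cases hS : ∃ f ∈ S, o f ∣ Q + 1
    · obtain ⟨f, hf, h⟩ := hS
      exact ⟨ppow p 5 * (Q + 1), by simp [omegaNineOrders],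
        (ppow_dvd (by omega)).trans (dvd_mul_right _ _), fun _ => h21 5 5 le_rfl hp1.two_dvd,
        fun g hg => by
          rw [(hlin f hf).2.2.2 g hg, (hlin f hf).2.2.1, ppow_one, one_mul]; exact h.mul_left _⟩
    · push Not at hS
      exact ⟨ppow p 5 * (Q - 1), by simp [omegaNineOrders],
        (ppow_dvd (by omega)).trans (dvd_mul_right _ _), fun _ => h21 5 5 le_rfl hm1.two_dvd,
        fun g hg => by
          rw [(hlin g hg).2.2.1, ppow_one, one_mul]
          exact (((hone g hg (hlin g hg).2.1).2).resolve_right (hS g hg)).mul_left _⟩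
  have hj' : ∀ N, ppow p 3 * 2 ∣ N → (1 ≤ j → 2 * ppow p (2 * j - 1) ∣ N) := fun N h _ => by
    rw [mul_comm 2]
    exact (mul_dvd_mul_right (ppow_dvd (by omega)) _).trans h
  -- without repetition and `i = 0`, `j ≤ 1`
  have hsimple : ∀ N, 2 ∣ N → i = 0 → j ≤ 1 → (∀ f ∈ S, m f = 1 ∧ o f ∣ N) →
      ppow p (2 * i + 1) ∣ N ∧ (1 ≤ j → 2 * ppow p (2 * j - 1) ∣ N) ∧
        ∀ f ∈ S, ppow p (m f) * o f ∣ N := fun N h2 hi hj h =>
    ⟨by subst hi; simp [ppow_one],
      fun hj1 => by rw [show 2 * j - 1 = 1 by omega, ppow_one, mul_one]; exact h2,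
      fun f hf => by rw [(h f hf).1, ppow_one, one_mul]; exact (h f hf).2⟩
  by_cases h4 : ∃ f ∈ S, d f = 4
  · obtain ⟨f, hf, hd4⟩ := h4
    have := hle f hf; have := hw f hf
    have hm1' : m f = 1 := by have := (hd f hf).2; rw [hd4] at *; omega
    obtain rfl : i = 0 := by omega
    obtain rfl : j = 0 := by omega
    have honly : ∀ g ∈ S, g = f := fun g hg => by
      by_contra hne; have := hpair f hf g hg hne; have := (hw g hg).1; omega
    have hh := hhalf rfl f hf (by omega)
    rw [hd4] at hh
    rcases hh with h | h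
    · exact ⟨(Q ^ 4 - 1) / 2, by simp [omegaNineOrders], by simp [ppow_one], fun h => by omega,
        fun g hg => by rw [honly g hg, hm1', ppow_one, one_mul]; exact h⟩
    · exact ⟨(Q ^ 4 + 1) / 2, by simp [omegaNineOrders], by simp [ppow_one], fun h => by omega,
        fun g hg => by rw [honly g hg, hm1', ppow_one, one_mul]; exact h⟩
  push Not at h4
  by_cases h3 : ∃ f ∈ S, d f = 3
  · obtain ⟨f, hf, hd3⟩ := h3
    have := hle f hf; have := hw f hf
    have hm1' : m f = 1 := by have := (hd f hf).2; rw [hd3] at *; omega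
    have hothers : ∀ g ∈ S, g ≠ f → i = 0 ∧ j = 0 ∧ d g = 1 ∧ m g = 1 := fun g hg hne => by
      have := hpair f hf g hg hne; have := hw g hg; have := hd g hg
      rw [hd3, hm1'] at *; omega
    rcases eq_or_ne i 1 with rfl | hi0
    · obtain rfl : j = 0 := by rw [hd3, hm1'] at *; omega
      have honly : ∀ g ∈ S, g = f := fun g hg => by
        by_contra hne; have := (hothers g hg hne).1; omega
      have hh := hhalf rfl f hf (by omega)
      rw [hd3] at hh
      rcases hh with h | h
      · exact ⟨ppow p 3 * ((Q ^ 3 - 1) / 2), by simp [omegaNineOrders], dvd_mul_right _ _,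
          fun h => by omega, fun g hg => by
            rw [honly g hg, hm1', ppow_one, one_mul]; exact h.mul_left _⟩
      · exact ⟨ppow p 3 * ((Q ^ 3 + 1) / 2), by simp [omegaNineOrders], dvd_mul_right _ _,
          fun h => by omega, fun g hg => by
            rw [honly g hg, hm1', ppow_one, one_mul]; exact h.mul_left _⟩
    obtain rfl : i = 0 := by omega
    have hh := ho f hf
    rw [hd3] at hh
    rcases hh with h | h
    · refine ⟨(Q ^ 3 - 1) * (Q + 1) / 2, by simp [omegaNineOrders], hsimple _ ?_ rfl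
        (by rw [hd3, hm1'] at *; omega) fun g hg => ?_⟩
      · exact hm3.two_dvd.trans (dvd_half_left hp1)
      by_cases e : g = f
      · subst e; exact ⟨hm1', h.trans (dvd_half_left hp1)⟩
      · obtain ⟨-, -, h1, h1'⟩ := hothers g hg e
        refine ⟨h1', ?_⟩
        rcases (hone g hg h1).2 with hg' | hg'
        · exact (hg'.trans c2).trans (dvd_half_left hp1)
        · exact hg'.trans (dvd_half_right hm3)
    · refine ⟨(Q ^ 3 + 1) * (Q - 1) / 2, by simp [omegaNineOrders], hsimple _ ?_ rfl
        (by rw [hd3, hm1'] at *; omega) fun g hg => ?_⟩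
      · exact hp3.two_dvd.trans (dvd_half_left hm1)
      by_cases e : g = f
      · subst e; exact ⟨hm1', h.trans (dvd_half_left hm1)⟩
      · obtain ⟨-, -, h1, h1'⟩ := hothers g hg e
        refine ⟨h1', ?_⟩
        rcases (hone g hg h1).2 with hg' | hg'
        · exact hg'.trans (dvd_half_right hp3)
        · exact (hg'.trans c1).trans (dvd_half_left hm1)
  push Not at h3
  have hd12 : ∀ f ∈ S, d f = 1 ∨ d f = 2 := fun f hf => by
    have := hle f hf; have := hw f hf; have := h4 f hf; have := h3 f hf; have := (hd f hf).1; omega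
  by_cases hC : ∃ f ∈ S, d f = 2 ∧ ¬ o f ∣ Q ^ 2 - 1
  · obtain ⟨f, hf, hd2, hnd⟩ := hC
    have hof : o f ∣ Q ^ 2 + 1 := by
      have := ho f hf
      rw [hd2] at this
      exact this.resolve_left hnd
    have := hle f hf; have := hw f hf
    by_cases hm : ∃ g ∈ S, m g ≠ 1
    · -- with repetition
      obtain ⟨g, hg, hmg⟩ := hm
      by_cases e : g = f
      · -- a double quadratic factor
        rw [e] at hmg
        have hmf : m f = 2 := by have := (hd f hf).2; rw [hd2] at *; omega
        have honly : ∀ a ∈ S, a = f := fun a ha => by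
          by_contra hne; have := hpair f hf a ha hne; have := (hw a ha).1
          rw [hd2, hmf] at *; omega
        refine ⟨ppow p 3 * ((Q ^ 2 + 1) * (Q - 1) / 2), by simp [omegaNineOrders],
          hi'.trans (dvd_mul_right _ _),
          hj' _ (mul_dvd_mul_left _ (hp2.two_dvd.trans (dvd_half_left hm1))), fun a ha => ?_⟩
        rw [honly a ha, hmf]
        exact mul_dvd_mul (ppow_dvd (by norm_num)) (hof.trans (dvd_half_left hm1))
      · -- a double linear factor
        have h1 := hpair f hf g hg e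
        have h2 := hw g hg
        have hmf : m f = 1 := by
          have := (hd f hf).2; have := (hd g hg).2
          rw [hd2] at *; omega
        have hdg : d g = 1 := by
          rcases hd12 g hg with h | h
          · exact h
          · exfalso; have := (hd g hg).2; rw [hd2, hmf] at h1; rw [h] at h1; omega
        have hmg2 : m g = 2 := by have := (hd g hg).2; rw [hd2, hmf, hdg] at h1; omega
        have honly : ∀ a ∈ S, a = f ∨ a = g := fun a ha => by
          by_contra hne
          push Not at hne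
          have e1 := Finset.add_sum_erase S (fun c => d c * m c) hf
          have e2 := Finset.add_sum_erase (S.erase f) (fun c => d c * m c)
            (Finset.mem_erase.2 ⟨e, hg⟩)
          have e3 := Finset.single_le_sum (f := fun c => d c * m c) (fun c _ => Nat.zero_le _)
            (Finset.mem_erase.2 ⟨hne.2, Finset.mem_erase.2 ⟨hne.1, ha⟩⟩)
          have := (hw a ha).1
          rw [hd2, hmf] at e1
          rw [hdg, hmg2] at e2
          omega
        rcases (hone g hg hdg).2 with h | h
        · refine ⟨ppow p 3 * ((Q ^ 2 + 1) * (Q - 1) / 2), by simp [omegaNineOrders],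
            hi'.trans (dvd_mul_right _ _),
            hj' _ (mul_dvd_mul_left _ (hp2.two_dvd.trans (dvd_half_left hm1))), fun a ha => ?_⟩
          rcases honly a ha with ha' | ha' <;> rw [ha']
          · rw [hmf, ppow_one, one_mul]; exact (hof.trans (dvd_half_left hm1)).mul_left _
          · rw [hmg2]; exact mul_dvd_mul (ppow_dvd (by norm_num)) (h.trans (dvd_half_right hp2))
        · refine ⟨ppow p 3 * ((Q ^ 2 + 1) * (Q + 1) / 2), by simp [omegaNineOrders],
            hi'.trans (dvd_mul_right _ _),
            hj' _ (mul_dvd_mul_left _ (hp2.two_dvd.trans (dvd_half_left hp1))), fun a ha => ?_⟩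
          rcases honly a ha with ha' | ha' <;> rw [ha']
          · rw [hmf, ppow_one, one_mul]; exact (hof.trans (dvd_half_left hp1)).mul_left _
          · rw [hmg2]; exact mul_dvd_mul (ppow_dvd (by norm_num)) (h.trans (dvd_half_right hp2))
    push Not at hm
    by_cases hsimp : i = 0 ∧ j ≤ 1
    · refine ⟨(Q ^ 4 - 1) / 2, by simp [omegaNineOrders], hsimple _ ?_ hsimp.1 hsimp.2
        fun g hg => ⟨hm g hg, ?_⟩⟩
      · rw [e4]; exact hp2.two_dvd.trans (dvd_half_left hm2)
      rw [e4]
      rcases hd12 g hg with h | h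
      · exact (hone g hg h).1.trans (dvd_half_right hp2)
      · have := ho g hg
        rw [h] at this
        rcases this with h' | h'
        · exact h'.trans (dvd_half_right hp2)
        · exact h'.trans (dvd_half_left hm2)
    -- `(i, j) ∈ {(1, ·), (·, 2)}`
    have hlin : ∀ b ∈ S, b ≠ f → d b = 1 ∧ ∀ c ∈ S, c ≠ f → c = b := fun b hb hbf => by
      have h1 := hpair f hf b hb hbf
      have h2 := hw b hb
      rw [hd2, hm f hf] at h1
      refine ⟨by rw [hm b hb] at h1; have := (hd b hb).1; omega, fun c hc hcf => ?_⟩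
      by_contra hcb
      have e1 := Finset.add_sum_erase S (fun c => d c * m c) hf
      have e2 := Finset.add_sum_erase (S.erase f) (fun c => d c * m c)
        (Finset.mem_erase.2 ⟨hbf, hb⟩)
      have e3 := Finset.single_le_sum (f := fun c => d c * m c) (fun c _ => Nat.zero_le _)
        (Finset.mem_erase.2 ⟨hcb, Finset.mem_erase.2 ⟨hcf, hc⟩⟩)
      have := (hw c hc).1
      rw [hd2, hm f hf] at e1
      omega
    by_cases hga : ∃ a ∈ S, a ≠ f ∧ o a ∣ Q + 1
    · obtain ⟨a, ha, haf, h⟩ := hga
      refine ⟨ppow p 3 * ((Q ^ 2 + 1) * (Q + 1) / 2), by simp [omegaNineOrders],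
        hi'.trans (dvd_mul_right _ _), hj' _ (mul_dvd_mul_left _ (hp2.two_dvd.trans (dvd_half_left hp1))),
        fun b hb => ?_⟩
      rw [hm b hb, ppow_one, one_mul]
      refine Dvd.dvd.mul_left ?_ _
      by_cases e : b = f
      · rw [e]; exact hof.trans (dvd_half_left hp1)
      · rw [(hlin a ha haf).2 b hb e]; exact h.trans (dvd_half_right hp2)
    · push Not at hga
      refine ⟨ppow p 3 * ((Q ^ 2 + 1) * (Q - 1) / 2), by simp [omegaNineOrders],
        hi'.trans (dvd_mul_right _ _), hj' _ (mul_dvd_mul_left _ (hp2.two_dvd.trans (dvd_half_left hm1))),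
        fun b hb => ?_⟩
      rw [hm b hb, ppow_one, one_mul]
      refine Dvd.dvd.mul_left ?_ _
      by_cases e : b = f
      · rw [e]; exact hof.trans (dvd_half_left hm1)
      · exact (((hone b hb (hlin b hb e).1).2).resolve_right (hga b hb e)).trans (dvd_half_right hp2)
  push Not at hC
  have hall : ∀ f ∈ S, o f ∣ Q ^ 2 - 1 := fun f hf => by
    rcases hd12 f hf with h | h
    · exact (hone f hf h).1
    · exact hC f hf h
  by_cases hbig : ∃ f ∈ S, m f = 4
  · obtain ⟨f, hf, hm⟩ := hbig
    have := hle f hf; have := hw f hf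
    have hd1 : d f = 1 := by have := (hd f hf).1; rw [hm] at *; omega
    obtain rfl : i = 0 := by omega
    obtain rfl : j = 0 := by omega
    have honly : ∀ g ∈ S, g = f := fun g hg => by
      by_contra hne; have := hpair f hf g hg hne; have := (hw g hg).1; omega
    rcases (hone f hf hd1).2 with h | h
    · exact ⟨ppow p 5 * (Q - 1), by simp [omegaNineOrders], by simp [ppow_one], fun h => by omega,
        fun g hg => by rw [honly g hg, hm]; exact mul_dvd_mul (ppow_dvd (by norm_num)) h⟩
    · exact ⟨ppow p 5 * (Q + 1), by simp [omegaNineOrders], by simp [ppow_one], fun h => by omega,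
        fun g hg => by rw [honly g hg, hm]; exact mul_dvd_mul (ppow_dvd (by norm_num)) h⟩
  push Not at hbig
  refine ⟨ppow p 3 * (Q ^ 2 - 1), by simp [omegaNineOrders], hi'.trans (dvd_mul_right _ _),
    hj' _ (mul_dvd_mul_left _ hm2.two_dvd), fun f hf => ?_⟩
  have := hle f hf; have := hw f hf; have := hbig f hf
  exact mul_dvd_mul (ppow_dvd (by omega)) (hall f hf)

end Cfsg.Agent.RecogA
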