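import Cfsg.Agent.RecogA.OcticOdd
import Cfsg.Agent.RecogA.OrthSplit
import Cfsg.Agent.Forms.OmegaPlus
import Cfsg.Agent.Elusive25.Even
import Cfsg.Agent.SpecBC.OrthOrder

/-!
Upper bounds for the element orders of `Ω(9, q)` and of the extension of the natural module by
`Ω⁻(8, q)`, `q` odd: the determinant criterion of Zassenhaus and annihilating polynomials.
-/

set_option autoImplicit false

namespace Cfsg.Agent.RecogA

open QuadraticMap Module Polynomial Cfsg.Agent.Classical Cfsg.Agent.Forms Cfsg.Agent.SpecBC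
open LinearMap (BilinForm)

theorem hom_mem_commutator {G H : Type*} [Group G] [Group H] (φ : G →* H) {g : G}
    (hg : g ∈ commutator G) : φ g ∈ commutator H := by
  have h := (commutator G).mem_map_of_mem φ hg
  rw [commutator_def, Subgroup.map_commutator] at h
  exact Subgroup.commutator_mono le_top le_top h

variable {F : Type*} [Field F] {V : Type*} [AddCommGroup V] [Module F V] [FiniteDimensional F V]
  {Q : QuadraticForm F V}

/-- An isometry with an invertible `1 + g` in the commutator subgroup has square `det ((1 + g) / 2)`. -/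
theorem isSquare_det_half [Fintype F] {p : ℕ} [Fact p.Prime] [CharP F p] (hp : p ≠ 2)
    (hB : BNondeg Q) {g : OQ Q} (hg : g ∈ commutator (OQ Q))
    (hfix : ∀ v, g.1 v = -v → v = 0) :
    IsSquare (LinearMap.det ((2 : F)⁻¹ • (1 + toEnd Q g))) := by
  classical
  have h2 : (2 : F) ≠ 0 := Ring.two_ne_zero (by rw [ringChar.eq F p]; exact hp)
  set n := finrank F V with hn
  rcases Nat.eq_zero_or_pos n with h0 | hpos
  · haveI : Subsingleton V := Module.finrank_zero_iff.1 h0
    rw [Subsingleton.elim ((2 : F)⁻¹ • (1 + toEnd Q g)) 1, map_one]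
    exact IsSquare.one
  set G := toEnd Q g with hG
  set A : Module.End F V := (2 : F)⁻¹ • (1 + G) with hA
  set B : Module.End F V := (2 : F)⁻¹ • (G - 1) with hBdef
  have hAv : ∀ v, A v = (2 : F)⁻¹ • (v + g.1 v) := fun v => rfl
  have hBv : ∀ v, B v = (2 : F)⁻¹ • (g.1 v - v) := fun v => rfl
  have hAinj : Function.Injective A := by
    refine (injective_iff_map_eq_zero A).2 fun v hv => hfix v ?_
    rw [hAv, smul_eq_zero, add_comm] at hv
    exact eq_neg_of_add_eq_zero_left (hv.resolve_left (inv_ne_zero h2))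
  let Ae : V ≃ₗ[F] V := LinearEquiv.ofInjectiveEndo A hAinj
  have hAe : ∀ v, A (Ae.symm v) = v := fun v => Ae.apply_symm_apply v
  have hAe' : ∀ v, Ae.symm (A v) = v := fun v => Ae.symm_apply_apply v
  let b := Module.finBasis F V
  -- coordinates for `V × V`
  let ψ₀ : V →ₗ[F] (Fin n → F) :=
    LinearMap.pi fun i => (2 : F) • (polarBilin Q (b i) : V →ₗ[F] F)
  have hψ₀ : ∀ w i, ψ₀ w i = 2 * polar Q (b i) w := fun w i => rfl
  have hψinj : Function.Injective ψ₀ := by
    refine (injective_iff_map_eq_zero ψ₀).2 fun w hw => hB w fun v => ?_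
    have h : ∀ i, polar Q (b i) w = 0 := fun i =>
      (mul_eq_zero.1 ((hψ₀ w i).symm.trans (congrFun hw i))).resolve_left h2
    rw [← b.sum_repr v, ← polarBilin_apply_apply, map_sum]
    refine Finset.sum_eq_zero fun i _ => ?_
    rw [map_smul, polarBilin_apply_apply, polar_comm, h i, smul_zero]
  let ψ : V ≃ₗ[F] (Fin n → F) := LinearEquiv.ofBijective ψ₀ ⟨hψinj,
    (LinearMap.injective_iff_surjective_of_finrank_eq_finrank (by rw [finrank_fin_fun])).1 hψinj⟩
  let φ : (V × V) ≃ₗ[F] (Fin n ⊕ Fin n → F) :=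
    (b.equivFun.prodCongr ψ).trans (LinearEquiv.sumArrowLequivProdArrow (Fin n) (Fin n) F F).symm
  have hφl : ∀ v w i, φ (v, w) (.inl i) = b.repr v i := fun v w i => rfl
  have hφr : ∀ v w i, φ (v, w) (.inr i) = 2 * polar Q (b i) w := fun v w i => rfl
  have hH : ∀ v w, plusQF n F (φ (v, w)) = 2 * polar Q v w := by
    intro v w
    rw [plusQF_apply, Cfsg.quadFormPlus]
    simp only [hφl, hφr]
    conv_rhs => rw [← b.sum_repr v, ← polarBilin_apply_apply, map_sum, LinearMap.sum_apply,
      Finset.mul_sum]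
    refine Finset.sum_congr rfl fun i _ => ?_
    rw [map_smul, LinearMap.smul_apply, polarBilin_apply_apply, smul_eq_mul]
    ring
  have hhalf : ∀ u : V, (2 : F)⁻¹ • (u + u) = u := fun u => by
    rw [← two_smul F u, smul_smul, inv_mul_cancel₀ h2, one_smul]
  let T : (V × V) ≃ₗ[F] (V × V) :=
    LinearEquiv.ofLinearMap
      (((2 : F)⁻¹ • (LinearMap.fst F V V + LinearMap.snd F V V)).prod
        ((2 : F)⁻¹ • (LinearMap.fst F V V - LinearMap.snd F V V)))
      ((LinearMap.fst F V V + LinearMap.snd F V V).prod (LinearMap.fst F V V - LinearMap.snd F V V))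
      (LinearMap.ext fun x => Prod.ext
        (show (2 : F)⁻¹ • (x.1 + x.2 + (x.1 - x.2)) = x.1 by
          rw [show x.1 + x.2 + (x.1 - x.2) = x.1 + x.1 by abel, hhalf])
        (show (2 : F)⁻¹ • (x.1 + x.2 - (x.1 - x.2)) = x.2 by
          rw [show x.1 + x.2 - (x.1 - x.2) = x.2 + x.2 by abel, hhalf]))
      (LinearMap.ext fun x => Prod.ext
        (show (2 : F)⁻¹ • (x.1 + x.2) + (2 : F)⁻¹ • (x.1 - x.2) = x.1 by
          rw [← smul_add, show x.1 + x.2 + (x.1 - x.2) = x.1 + x.1 by abel, hhalf])
        (show (2 : F)⁻¹ • (x.1 + x.2) - (2 : F)⁻¹ • (x.1 - x.2) = x.2 by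
          rw [← smul_sub, show x.1 + x.2 - (x.1 - x.2) = x.2 + x.2 by abel, hhalf]))
  have hT : ∀ u₁ u₂, T (u₁, u₂) = ((2 : F)⁻¹ • (u₁ + u₂), (2 : F)⁻¹ • (u₁ - u₂)) := fun _ _ => rfl
  have he : ∀ u : V × V, plusQF n F (T.trans φ u) = Q u.1 + (-Q) u.2 := by
    rintro ⟨u₁, u₂⟩
    rw [LinearEquiv.trans_apply, hT, hH, polar_smul_left, polar_smul_right, polar_add_left,
      polar_sub_right, polar_sub_right, polar_comm Q u₂ u₁, polar_self, polar_self,
      show (-Q) u₂ = -(Q u₂) from rfl]
    simp only [smul_eq_mul, two_smul]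
    field_simp
    ring
  let ι : OQ Q →* OQ (plusQF n F) :=
    (sumHom (R₁ := Q) (R₂ := -Q) (T.trans φ) he).comp (MonoidHom.inl _ _)
  have hι : ι g ∈ commutator (OQ (plusQF n F)) := hom_mem_commutator ι hg
  -- the shears
  let C : Module.End F V := B * Ae.symm.toLinearMap
  have hC : ∀ v, C (A v) = B v := fun v => congrArg B (hAe' v)
  have hAB : ∀ v, A (B v) = B (A v) := fun v => by
    simp only [hAv, hBv, map_smul, map_add, map_sub]
    rw [← smul_sub, ← smul_add]
    module
  have hAC : ∀ w, A (C w) = B w := fun w => by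
    conv_lhs => rw [← hAe w, hC, hAB, hAe]
  have hCskew : ∀ v, polar Q v (C v) = 0 := fun v => by
    obtain ⟨z, rfl⟩ : ∃ z, A z = v := ⟨_, hAe v⟩
    rw [hC, hAv, hBv]
    simp only [polar_smul_left, polar_smul_right, polar_add_left, polar_sub_right, OQ_polar,
      polar_comm Q (g.1 z) z, smul_eq_mul]
    ring
  let up : (V × V) ≃ₗ[F] (V × V) :=
    LinearEquiv.ofLinearMap ((LinearMap.fst F V V + C ∘ₗ LinearMap.snd F V V).prod (LinearMap.snd F V V))
      ((LinearMap.fst F V V - C ∘ₗ LinearMap.snd F V V).prod (LinearMap.snd F V V))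
      (LinearMap.ext fun x => by simp) (LinearMap.ext fun x => by simp)
  let lo : (V × V) ≃ₗ[F] (V × V) :=
    LinearEquiv.ofLinearMap ((LinearMap.fst F V V).prod (LinearMap.snd F V V + C ∘ₗ LinearMap.fst F V V))
      ((LinearMap.fst F V V).prod (LinearMap.snd F V V - C ∘ₗ LinearMap.fst F V V))
      (LinearMap.ext fun x => by simp) (LinearMap.ext fun x => by simp)
  have hup : ∀ v w, up (v, w) = (v + C w, w) := fun _ _ => rfl
  have hlo : ∀ v w, lo (v, w) = (v, w + C v) := fun _ _ => rfl
  let U : OQ (plusQF n F) := ⟨φ.symm.trans (up.trans φ), fun x => by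
    obtain ⟨⟨v, w⟩, rfl⟩ := φ.surjective x
    simp only [LinearEquiv.trans_apply, LinearEquiv.symm_apply_apply, hup, hH, polar_add_left,
      polar_comm Q (C w) w, hCskew, add_zero]⟩
  let W : OQ (plusQF n F) := ⟨φ.symm.trans (lo.trans φ), fun x => by
    obtain ⟨⟨v, w⟩, rfl⟩ := φ.surjective x
    simp only [LinearEquiv.trans_apply, LinearEquiv.symm_apply_apply, hlo, hH, polar_add_right,
      hCskew, add_zero]⟩
  have hU : ∀ v w, U.1 (φ (v, w)) = φ (v + C w, w) := fun v w => by
    show φ (up (φ.symm (φ (v, w)))) = _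
    rw [LinearEquiv.symm_apply_apply, hup]
  have hW : ∀ v w, W.1 (φ (v, w)) = φ (v, w + C v) := fun v w => by
    show φ (lo (φ.symm (φ (v, w)))) = _
    rw [LinearEquiv.symm_apply_apply, hlo]
  have hUk : ∀ (k : ℕ) v w, (U ^ k).1 (φ (v, w)) = φ (v + (k : F) • C w, w) := by
    intro k
    induction k with
    | zero => intro v w; simp
    | succ k ih =>
      intro v w
      rw [pow_succ', Subgroup.coe_mul, LinearEquiv.mul_apply, ih, hU]
      push_cast
      rw [add_smul, one_smul, add_assoc]
  have hWk : ∀ (k : ℕ) v w, (W ^ k).1 (φ (v, w)) = φ (v, w + (k : F) • C v) := by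
    intro k
    induction k with
    | zero => intro v w; simp
    | succ k ih =>
      intro v w
      rw [pow_succ', Subgroup.coe_mul, LinearEquiv.mul_apply, ih, hW]
      push_cast
      rw [add_smul, one_smul, add_assoc]
  have hBP : BNondeg (plusQF n F) := bNondeg_plusQF
  have hxP : OrthGen.NotExceptional (plusQF n F) := notExceptional_plusQF (Or.inl fun h => h2 (by
    have hc := Nat.cast_card_eq_zero F
    rwa [h, Nat.cast_ofNat] at hc))
  have hodd : Odd p := (Fact.out : p.Prime).odd_of_ne_two hp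
  have hUmem : U ∈ commutator (OQ (plusQF n F)) :=
    Elusive25.mem_commutator_of_pow hBP hxP hodd (Subtype.ext (LinearEquiv.ext fun x => by
      obtain ⟨⟨v, w⟩, rfl⟩ := φ.surjective x
      rw [hUk, CharP.cast_eq_zero, zero_smul, add_zero]
      rfl))
  have hWmem : W ∈ commutator (OQ (plusQF n F)) :=
    Elusive25.mem_commutator_of_pow hBP hxP hodd (Subtype.ext (LinearEquiv.ext fun x => by
      obtain ⟨⟨v, w⟩, rfl⟩ := φ.surjective x
      rw [hWk, CharP.cast_eq_zero, zero_smul, add_zero]
      rfl))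
  -- the Levi element
  let Au : (Module.End F V)ˣ :=
    ⟨A, Ae.symm.toLinearMap, LinearMap.ext fun v => hAe v, LinearMap.ext fun v => hAe' v⟩
  let M : GL (Fin n) F := Units.map (LinearMap.toMatrixAlgEquiv b).toAlgHom.toRingHom.toMonoidHom Au
  have hM : (M : Matrix (Fin n) (Fin n) F) = LinearMap.toMatrix b b A := rfl
  have hMi : ((M⁻¹ : GL (Fin n) F) : Matrix (Fin n) (Fin n) F) =
      LinearMap.toMatrix b b Ae.symm.toLinearMap := rfl
  have hadj : ∀ u w, polar Q (Ae.symm u) w = polar Q u (Ae.symm (g.1 w)) := fun u w => by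
    set z := Ae.symm u with hz
    set w' := Ae.symm (g.1 w) with hw'
    have hu : u = A z := (hAe u).symm
    have hgw : g.1 w = A w' := (hAe _).symm
    rw [← OQ_polar g z w, hgw, hu, hAv, hAv]
    simp only [polar_smul_left, polar_smul_right, polar_add_left, polar_add_right, OQ_polar,
      smul_eq_mul]
    ring
  have hlevi : ∀ v w, (levi M).1 (φ (v, w)) = φ (A v, Ae.symm (g.1 w)) := fun v w => by
    rw [levi_apply, leviMat_mulVec]
    funext x
    rcases x with i | i
    · rw [Sum.elim_inl, hM, hφl]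
      exact congrFun (LinearMap.toMatrix_mulVec_repr b b A v) i
    · rw [Sum.elim_inr, hMi, hφr, ← hadj]
      simp only [Matrix.mulVec, dotProduct, Matrix.transpose_apply, LinearMap.toMatrix_apply,
        Function.comp_apply, hφr, LinearEquiv.coe_coe]
      conv_rhs => rw [← b.sum_repr (Ae.symm (b i)), ← polarBilin_apply_apply, map_sum,
        LinearMap.sum_apply, Finset.mul_sum]
      refine Finset.sum_congr rfl fun j _ => ?_
      rw [map_smul, LinearMap.smul_apply, polarBilin_apply_apply, smul_eq_mul]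
      ring
  have hdec : ι g = W * levi M * U := by
    refine Subtype.ext (LinearEquiv.ext fun x => ?_)
    obtain ⟨⟨v, w⟩, rfl⟩ := φ.surjective x
    rw [Subgroup.coe_mul, LinearEquiv.mul_apply, hU, Subgroup.coe_mul, LinearEquiv.mul_apply,
      hlevi, hW, map_add A, hAC, map_add C, hC]
    have hx : φ (v, w) = (T.trans φ) (v + w, v - w) := by
      show φ (v, w) = φ (T (v + w, v - w))
      rw [hT]
      congr 1
      refine Prod.ext ?_ ?_
      · show v = (2 : F)⁻¹ • (v + w + (v - w))
        rw [show v + w + (v - w) = v + v by abel, hhalf]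
      · show w = (2 : F)⁻¹ • (v + w - (v - w))
        rw [show v + w - (v - w) = w + w by abel, hhalf]
    show (sumHom (T.trans φ) he (g, 1)).1 (φ (v, w)) = _
    rw [hx, sumHom_apply]
    show φ (T (g.1 (v + w), v - w)) = _
    rw [hT]
    congr 1
    refine Prod.ext ?_ ?_
    · show (2 : F)⁻¹ • (g.1 (v + w) + (v - w)) = A v + B w
      rw [hAv, hBv, map_add]
      module
    · show (2 : F)⁻¹ • (g.1 (v + w) - (v - w)) = Ae.symm (g.1 w) + (B v + C (B w))
      refine hAinj ?_
      rw [map_add A, hAe, map_add A, hAC, hAB]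
      simp only [map_smul, map_add, map_sub, hAv, hBv]
      match_scalars <;> field_simp <;> ring
  have hlm : levi M ∈ commutator (OQ (plusQF n F)) := by
    rw [hdec, Subgroup.mul_mem_cancel_right _ hUmem, Subgroup.mul_mem_cancel_left _ hWmem] at hι
    exact hι
  have hs := (isSquare_det_of_levi (Or.inl fun h => h2 (by
    have hc := Nat.cast_card_eq_zero F
    rwa [h, Nat.cast_ofNat] at hc)) hpos M).2.1 hlm
  rwa [hM, LinearMap.det_toMatrix] at hs

/-- Elements of the commutator subgroup have determinant one. -/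
theorem det_eq_one_of_commutator {g : OQ Q} (hg : g ∈ commutator (OQ Q)) :
    LinearMap.det (toEnd Q g) = 1 := by
  let δ : OQ Q →* F := (LinearMap.det : Module.End F V →* F).comp (toEnd Q)
  have h := Abelianization.commutator_subset_ker δ.toHomUnits hg
  rw [MonoidHom.mem_ker, Units.ext_iff, Units.val_one, MonoidHom.coe_toHomUnits] at h
  exact h

/-- The characteristic polynomial is palindromic up to sign. -/
theorem charpoly_reverse_of_commutator (hB : BNondeg Q) {g : OQ Q} (hg : g ∈ commutator (OQ Q)) :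
    (LinearMap.charpoly (toEnd Q g)).reverse =
      (-1) ^ finrank F V * LinearMap.charpoly (toEnd Q g) := by
  classical
  let b := Module.finBasis F V
  set S := LinearMap.toMatrix b b (toEnd Q g) with hS
  have hnd : (polarBilin Q).Nondegenerate :=
    ⟨fun x hx => hB x fun y => hx y, fun x hx => hB x fun y => by rw [polar_comm]; exact hx y⟩
  set J := LinearMap.BilinForm.toMatrix b (polarBilin Q) with hJ
  have hrel : S.transpose * J * S = J := by
    rw [hS, hJ, ← LinearMap.BilinForm.toMatrix_comp (b := b) (c := b)]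
    congr 1
    ext u v
    exact polar_toEnd g u v
  obtain ⟨U, hU⟩ : IsUnit J := (Matrix.isUnit_iff_isUnit_det J).2
    (isUnit_iff_ne_zero.2 ((LinearMap.BilinForm.nondegenerate_iff_det_ne_zero b).1 hnd))
  have hdet : S.det = 1 := by rw [hS, LinearMap.det_toMatrix, det_eq_one_of_commutator hg]
  have hSu : IsUnit S := (Matrix.isUnit_iff_isUnit_det S).2 (hdet ▸ isUnit_one)
  have hinv : S⁻¹ = (↑U⁻¹ : Matrix _ _ F) * S.transpose * (U : Matrix _ _ F) := by
    refine Matrix.inv_eq_left_inv ?_
    rw [Matrix.mul_assoc, Matrix.mul_assoc, hU, ← Matrix.mul_assoc S.transpose, hrel, ← hU,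
      Units.inv_mul]
  have h1 := Matrix.charpoly_inv S hSu
  rw [hinv, Matrix.coe_units_inv, Matrix.charpoly_units_conj', Matrix.charpoly_transpose, hdet, Ring.inverse_one,
    map_one, mul_one] at h1
  rw [← LinearMap.charpoly_toMatrix (toEnd Q g) b, ← hS, Matrix.reverse_charpoly]
  have hs2 : ((-1 : F[X]) ^ finrank F V) * (-1) ^ finrank F V = 1 := by
    rw [← mul_pow, neg_one_mul, neg_neg, one_pow]
  rw [Fintype.card_fin] at h1
  conv_rhs => rw [h1, ← mul_assoc, hs2, one_mul]

theorem reverse_X_add_one : (X + 1 : F[X]).reverse = X + 1 := by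
  ext i
  have hd : (X + 1 : F[X]).natDegree = 1 := by compute_degree!
  rw [Polynomial.coeff_reverse, hd]
  rcases i with _ | _ | i
  · rw [Polynomial.revAt_le (by norm_num)]; simp [coeff_one]
  · rw [Polynomial.revAt_le (by norm_num)]; simp [coeff_one]
  · rw [Polynomial.revAt_eq_self_of_lt (by omega)]

/-- The minimal polynomial loses a factor `X + 1` when `-1` is a root. -/
theorem aeval_eq_zero_of_root (h20 : (2 : F) ≠ 0) (hB : BNondeg Q) {g : OQ Q} (hg : g ∈ commutator (OQ Q)) {R : F[X]}
    (hR : R * (X + 1) = LinearMap.charpoly (toEnd Q g)) : aeval (toEnd Q g) R = 0 := by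
  classical
  set G := toEnd Q g with hG
  set C := LinearMap.charpoly G with hC
  set n := finrank F V with hn
  have hCm : C.Monic := LinearMap.charpoly_monic G
  have hX1m : (X + 1 : F[X]).Monic := by rw [← map_one Polynomial.C]; exact monic_X_add_C 1
  have hRm : R.Monic := hX1m.of_mul_monic_right (hR ▸ hCm)
  have hRd : R.natDegree + 1 = n := by
    rw [hn, ← LinearMap.charpoly_natDegree G, ← hC, ← hR, hRm.natDegree_mul hX1m]
    rw [show (X + 1 : F[X]).natDegree = 1 by compute_degree!]
  have hRrev : R.reverse = (-1) ^ n * R := by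
    have h := charpoly_reverse_of_commutator hB hg
    rw [← hG, ← hC, ← hR, reverse_mul_of_domain, reverse_X_add_one, ← hn, ← mul_assoc] at h
    exact mul_right_cancel₀ hX1m.ne_zero h
  set d := R.natDegree with hdd
  set T := aeval G R with hTdef
  have hGT : ∀ v, G (T v) = -T v := fun v => by
    have h : aeval G (R * (X + 1)) = 0 := by rw [hR]; exact LinearMap.aeval_self_charpoly G
    rw [mul_comm, map_mul, map_add, aeval_X, map_one] at h
    exact eq_neg_of_add_eq_zero_left (LinearMap.congr_fun h v)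
  have hGTk : ∀ (k : ℕ) v, (G ^ k) (T v) = (-1 : F) ^ k • T v := by
    intro k
    induction k with
    | zero => intro v; simp
    | succ k ih => intro v; rw [pow_succ', Module.End.mul_apply, ih, map_smul, hGT, pow_succ,
        mul_neg_one, neg_smul, smul_neg]
  have hpk : ∀ (k : ℕ) u v, polar Q ((G ^ k) u) ((G ^ k) v) = polar Q u v := by
    intro k
    induction k with
    | zero => intro u v; rfl
    | succ k ih => intro u v; rw [pow_succ', Module.End.mul_apply, Module.End.mul_apply,
        polar_toEnd, ih]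
  -- `T` is skew
  have hskew : ∀ v w, polar Q (T v) w = - polar Q v (T w) := by
    intro v w
    have e1 : polar Q (T v) ((G ^ d) w) = polar Q v (aeval G R.reverse w) := by
      have hrd : R.reverse.natDegree < d + 1 := Nat.lt_succ_of_le (reverse_natDegree_le R)
      rw [hTdef, aeval_eq_sum_range' (n := d + 1) (Nat.lt_succ_self _),
        aeval_eq_sum_range' (n := d + 1) hrd, LinearMap.sum_apply, LinearMap.sum_apply,
        ← polarBilin_apply_apply, ← polarBilin_apply_apply, map_sum, LinearMap.sum_apply, map_sum]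
      rw [← Finset.sum_range_reflect (fun i => polarBilin Q v ((R.reverse.coeff i • G ^ i) w))]
      refine Finset.sum_congr rfl fun i hi => ?_
      have hid : i ≤ d := Nat.le_of_lt_succ (Finset.mem_range.1 hi)
      rw [show d + 1 - 1 - i = d - i by omega, coeff_reverse, revAt_le (by omega),
        show d - (d - i) = i by omega]
      simp only [LinearMap.smul_apply, map_smul, polarBilin_apply_apply, smul_eq_mul]
      congr 1
      rw [show G ^ d = G ^ i * G ^ (d - i) by rw [← pow_add]; congr 1; omega, Module.End.mul_apply,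
        hpk]
    have e2 : polar Q (T v) ((G ^ d) w) = (-1 : F) ^ d * polar Q (T v) w := by
      have := hpk d (T v) w
      rw [hGTk, polar_smul_left, smul_eq_mul] at this
      rw [← this, ← mul_assoc, ← mul_pow, neg_one_mul, neg_neg, one_pow, one_mul]
    rw [e2, hRrev, map_mul, map_pow, map_neg, map_one, ← hTdef] at e1
    have e3 : ((-1 : Module.End F V) ^ n * T) w = (-1 : F) ^ n • T w := by
      rw [show (-1 : Module.End F V) = algebraMap F _ (-1) by rw [map_neg, map_one], ← map_pow,
        Module.End.mul_apply, Module.algebraMap_end_apply]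
    rw [e3, polar_smul_right, smul_eq_mul, ← hRd, pow_succ, mul_neg_one, neg_mul, ← mul_neg] at e1
    exact mul_left_cancel₀ (pow_ne_zero _ (neg_ne_zero.2 one_ne_zero)) e1
  -- the rank of `T` is at most one
  have hroot : C.IsRoot (-1) := by rw [← hR]; simp [IsRoot]
  obtain ⟨C₀, hC₀, -⟩ := exists_eq_pow_rootMultiplicity_mul_and_not_dvd C hCm.ne_zero (-1)
  have hk : 0 < rootMultiplicity (-1) C := (rootMultiplicity_pos hCm.ne_zero).2 hroot
  set k := rootMultiplicity (-1) C with hkdef
  rw [show X - Polynomial.C (-1 : F) = X + 1 by simp] at hC₀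
  have hRC : R = (X + 1) ^ (k - 1) * C₀ := by
    refine mul_right_cancel₀ hX1m.ne_zero ?_
    rw [hR, hC₀, mul_assoc, mul_comm C₀, ← mul_assoc, ← pow_succ, Nat.sub_add_cancel hk]
  set N : Module.End F V := G + 1 with hN
  set K := aeval G C₀ with hK
  have hTN : T = N ^ (k - 1) * K := by
    rw [hTdef, hRC, map_mul, map_pow, map_add, aeval_X, map_one]
  have hcomm : Commute N K := by
    have h : aeval G ((X + 1) * C₀) = aeval G (C₀ * (X + 1)) := by rw [mul_comm]
    rw [map_mul, map_mul, map_add, aeval_X, map_one] at h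
    exact h
  have hNK : N ^ k * K = 0 := by
    have := LinearMap.aeval_self_charpoly G
    rwa [← hC, hC₀, map_mul, map_pow, map_add, aeval_X, map_one] at this
  let W : ℕ → Submodule F V := fun i => LinearMap.range (N ^ i * K)
  have hWd : ∀ i, i < k → finrank F (W i) + i ≤ k := by
    intro i
    induction i with
    | zero =>
      intro _
      rw [add_zero]
      refine (Submodule.finrank_mono (t := LinearMap.ker (N ^ k)) ?_).trans ?_
      · rintro _ ⟨v, rfl⟩
        rw [LinearMap.mem_ker, pow_zero, one_mul, ← Module.End.mul_apply, hNK, LinearMap.zero_apply]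
      · have h := LinearMap.finrank_genEigenspace_le G (-1) k
        rw [Module.End.genEigenspace_nat, ← hC, ← hkdef, show G - (-1 : F) • 1 = N by
          rw [hN]; simp] at h
        exact h
    | succ i ih =>
      intro hi
      have hi' := ih (by omega)
      rcases eq_or_ne (W i) ⊥ with h0 | h0
      · have : W (i + 1) = ⊥ := by
          rw [eq_bot_iff]
          rintro _ ⟨v, rfl⟩
          have : (N ^ i * K) v ∈ (⊥ : Submodule F V) := h0 ▸ ⟨v, rfl⟩
          rw [Submodule.mem_bot] at this ⊢
          rw [pow_succ', mul_assoc, Module.End.mul_apply, this, map_zero]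
        rw [this, finrank_bot]
        omega
      · -- `N` has a kernel on `W i`
        obtain ⟨w, hw, hw0⟩ := Submodule.exists_mem_ne_zero_of_ne_bot h0
        obtain ⟨v, rfl⟩ := hw
        have hex : ∃ l, (N ^ l) ((N ^ i * K) v) = 0 := ⟨k, by
          rw [← Module.End.mul_apply, ← mul_assoc, ← pow_add, add_comm, pow_add, mul_assoc, hNK,
            mul_zero, LinearMap.zero_apply]⟩
        set l := Nat.find hex with hl
        have hl1 : 0 < l := Nat.pos_of_ne_zero fun e => hw0 (by
          have := Nat.find_spec hex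
          rwa [← hl, e, pow_zero, Module.End.one_apply] at this)
        set z := (N ^ (l - 1)) ((N ^ i * K) v) with hz
        have hz0 : z ≠ 0 := Nat.find_min hex (Nat.sub_lt hl1 one_pos)
        have hNz : N z = 0 := by
          rw [hz, ← Module.End.mul_apply, ← pow_succ', Nat.sub_add_cancel hl1]
          exact Nat.find_spec hex
        have hzW : z ∈ W i := by
          refine ⟨(N ^ (l - 1)) v, ?_⟩
          rw [hz, ← Module.End.mul_apply, ← Module.End.mul_apply,
            (((Commute.refl N).pow_pow i (l - 1)).mul_left (hcomm.symm.pow_right _)).eq]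
        have h := LinearMap.finrank_range_add_finrank_ker (N.domRestrict (W i))
        have hker : 0 < finrank F (LinearMap.ker (N.domRestrict (W i))) :=
          Module.finrank_pos_iff_exists_ne_zero.2
            ⟨⟨⟨z, hzW⟩, LinearMap.mem_ker.2 hNz⟩, fun e => hz0 (congrArg (fun x => x.1.1) e)⟩
        have hrange : LinearMap.range (N.domRestrict (W i)) = W (i + 1) := by
          rw [LinearMap.range_domRestrict]
          show (LinearMap.range (N ^ i * K)).map N = LinearMap.range (N ^ (i + 1) * K)
          rw [pow_succ', mul_assoc, Module.End.mul_eq_comp N, LinearMap.range_comp]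
        rw [hrange] at h
        omega
  have h1 : finrank F (LinearMap.range T) ≤ 1 := by
    have := hWd (k - 1) (by omega)
    rw [hTN]
    change finrank F (W (k - 1)) ≤ 1
    omega
  by_contra hne
  obtain ⟨x, hx⟩ : ∃ x, T x ≠ 0 := by
    by_contra h
    push Not at h
    exact hne (LinearMap.ext h)
  have hspan : LinearMap.range T = F ∙ T x :=
    (Submodule.eq_of_le_of_finrank_le ((Submodule.span_singleton_le_iff_mem _ _).2 (LinearMap.mem_range_self T x))
      (by rw [finrank_span_singleton hx]; exact h1)).symm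
  have h2 : (2 : F) * polar Q (T x) x = 0 := by
    rw [two_mul]
    nth_rewrite 1 [hskew]
    rw [polar_comm Q x, neg_add_cancel]
  refine hx (hB _ fun y => ?_)
  have hy := LinearMap.mem_range_self T y
  rw [hspan] at hy
  obtain ⟨c, hc⟩ := Submodule.mem_span_singleton.1 hy
  rw [hskew, ← hc, polar_smul_right, polar_comm Q x, (mul_eq_zero.1 h2).resolve_left h20,
    smul_zero, neg_zero]

theorem eval_charpoly_neg_one [Fintype F] {p : ℕ} [Fact p.Prime] [CharP F p] (hp : p ≠ 2)
    (hB : BNondeg Q) {g : OQ Q} (hg : g ∈ commutator (OQ Q))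
    (h0 : (LinearMap.charpoly (toEnd Q g)).eval (-1) ≠ 0) :
    ∃ d, IsSquare d ∧
      (LinearMap.charpoly (toEnd Q g)).eval (-1) = (-2) ^ finrank F V * d := by
  have h2 : (2 : F) ≠ 0 := Ring.two_ne_zero (by rw [ringChar.eq F p]; exact hp)
  rw [LinearMap.eval_charpoly] at h0 ⊢
  have hneg : algebraMap F (Module.End F V) (-1) - toEnd Q g =
      (-2 : F) • ((2 : F)⁻¹ • (1 + toEnd Q g)) := by
    rw [smul_smul, show (-2 : F) * (2 : F)⁻¹ = -1 by field_simp, neg_one_smul, map_neg, map_one]
    abel
  refine ⟨_, isSquare_det_half hp hB hg fun v hv => ?_, ?_⟩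
  · by_contra hne
    refine h0 (LinearMap.det_eq_zero_iff_ker_ne_bot.2 fun e => hne ?_)
    rw [← Submodule.mem_bot F, ← e, LinearMap.mem_ker]
    show (algebraMap F (Module.End F V) (-1)) v - g.1 v = 0
    rw [Module.algebraMap_end_apply, hv, neg_one_smul, sub_neg_eq_add, neg_add_cancel]
  · rw [hneg, LinearMap.det_smul]

/-- The orders of elements of `Ω(9, q)`. -/
theorem exists_pow_eq_one_nine [Fintype F] {p : ℕ} [Fact p.Prime] [CharP F p] (hp : p ≠ 2)
    (hB : BNondeg Q) (hdim : finrank F V = 9) {g : OQ Q} (hg : g ∈ commutator (OQ Q)) :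
    ∃ N ∈ omegaNineOrders (Fintype.card F) p, g ^ N = 1 := by
  have h2 : (2 : F) ≠ 0 := Ring.two_ne_zero (by rw [ringChar.eq F p]; exact hp)
  set C := LinearMap.charpoly (toEnd Q g) with hC
  have hrev : C.reverse = (-1) ^ 9 * C := hdim ▸ charpoly_reverse_of_commutator hB hg
  have hCm : C.Monic := LinearMap.charpoly_monic _
  have hCd : C.natDegree = 9 := by rw [hC, LinearMap.charpoly_natDegree, hdim]
  have hroot : C.IsRoot 1 := by
    have h : C.reverse.eval 1 = C.eval 1 := by
      rw [eval_eq_sum_range' (n := 10) (by have := reverse_natDegree_le C; omega),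
        eval_eq_sum_range' (n := 10) (p := C) (by omega),
        ← Finset.sum_range_reflect (fun i => C.coeff i * (1 : F) ^ i)]
      refine Finset.sum_congr rfl fun i hi => ?_
      rw [coeff_reverse, hCd, revAt_le (by have := Finset.mem_range.1 hi; omega)]
      simp
    rw [hrev] at h
    simp only [eval_mul, eval_pow, eval_neg, eval_one] at h
    have : (2 : F) * C.eval 1 = 0 := by linear_combination -h
    exact (mul_eq_zero.1 this).resolve_left h2
  obtain ⟨P, hP⟩ := dvd_iff_isRoot.2 hroot
  rw [map_one] at hP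
  have hX1 : (X - 1 : F[X]).Monic := by rw [← map_one Polynomial.C]; exact monic_X_sub_C 1
  have hPm : P.Monic := hX1.of_mul_monic_left (hP ▸ hCm)
  have hPd : P.natDegree = 8 := by
    have := congrArg natDegree hP
    rw [hX1.natDegree_mul hPm, hCd, show (X - 1 : F[X]).natDegree = 1 by compute_degree!] at this
    omega
  have hPrev : P.reverse = P := by
    have hx : (X - 1 : F[X]).reverse = -(X - 1) := by
      ext i
      have hd : (X - 1 : F[X]).natDegree = 1 := by compute_degree!
      rw [coeff_reverse, hd]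
      rcases i with _ | _ | i
      · rw [revAt_le (by norm_num)]; simp [coeff_one]
      · rw [revAt_le (by norm_num)]; simp [coeff_one]
      · rw [revAt_eq_self_of_lt (by omega)]; simp [coeff_one, coeff_X]
    rw [hP, reverse_mul_of_domain, hx] at hrev
    refine mul_left_cancel₀ hX1.ne_zero ?_
    linear_combination -hrev
  have hval : C.eval (-1) = -2 * P.eval (-1) := by rw [hP]; simp; ring
  have hsq : IsSquare (P.eval (-1)) := by
    rcases eq_or_ne (P.eval (-1)) 0 with e | e
    · rw [e]; exact IsSquare.zero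
    obtain ⟨d, ⟨c, rfl⟩, hd⟩ := eval_charpoly_neg_one hp hB hg
      (by rw [← hC, hval]; exact mul_ne_zero (neg_ne_zero.2 h2) e)
    rw [← hC, hval, hdim] at hd
    refine ⟨2 ^ 4 * c, mul_left_cancel₀ (neg_ne_zero.2 h2) (hd.trans ?_)⟩
    ring
  obtain ⟨N, hN, h1, h2'⟩ := octic_odd_dvd hp hPm hPd hPrev hsq
  refine ⟨N, hN, toEnd_injective ?_⟩
  rw [map_pow, map_one]
  have key : ∀ R : F[X], aeval (toEnd Q g) R = 0 → R ∣ X ^ N - 1 → toEnd Q g ^ N = 1 := by
    rintro R hR ⟨S, hS⟩
    have := congrArg (aeval (toEnd Q g)) hS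
    rwa [map_mul, hR, zero_mul, map_sub, map_pow, aeval_X, map_one, sub_eq_zero] at this
  by_cases e : P.eval (-1) = 0
  · obtain ⟨R, hR⟩ := dvd_iff_isRoot.2 (show C.IsRoot (-1) by rw [IsRoot, hval, e, mul_zero])
    rw [show X - Polynomial.C (-1 : F) = X + 1 by simp, mul_comm] at hR
    exact key R (aeval_eq_zero_of_root h2 hB hg hR.symm) (h2' e R (hR.symm.trans hP))
  · exact key C (LinearMap.aeval_self_charpoly _) (hP ▸ h1 e)

/-- The orders of elements of the extension of the natural module by `Ω⁻(8, q)`. -/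
theorem exists_pow_eq_one_eight [Fintype F] {p : ℕ} [Fact p.Prime] [CharP F p] (hp : p ≠ 2)
    (hB : BNondeg Q) (hdim : finrank F V = 8) {g : OQ Q} (hg : g ∈ commutator (OQ Q)) :
    ∃ N ∈ omegaNineOrders (Fintype.card F) p, g ^ N = 1 ∧
      ∑ k ∈ Finset.range N, toEnd Q g ^ k = 0 := by
  have h2 : (2 : F) ≠ 0 := Ring.two_ne_zero (by rw [ringChar.eq F p]; exact hp)
  set P := LinearMap.charpoly (toEnd Q g) with hC
  have hPrev : P.reverse = P := by
    rw [hC, charpoly_reverse_of_commutator hB hg, hdim]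
    norm_num
  have hPm : P.Monic := LinearMap.charpoly_monic _
  have hPd : P.natDegree = 8 := by rw [hC, LinearMap.charpoly_natDegree, hdim]
  have hsq : IsSquare (P.eval (-1)) := by
    rcases eq_or_ne (P.eval (-1)) 0 with e | e
    · rw [e]; exact IsSquare.zero
    obtain ⟨d, ⟨c, rfl⟩, hd⟩ := eval_charpoly_neg_one hp hB hg e
    rw [← hC, hdim] at hd
    exact ⟨2 ^ 4 * c, by rw [hd]; ring⟩
  obtain ⟨N, hN, h1, h2'⟩ := octic_odd_dvd hp hPm hPd hPrev hsq
  refine ⟨N, hN, ?_⟩
  have key : ∀ R : F[X], aeval (toEnd Q g) R = 0 → (X - 1) * R ∣ X ^ N - 1 →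
      g ^ N = 1 ∧ ∑ k ∈ Finset.range N, toEnd Q g ^ k = 0 := by
    rintro R hR ⟨S, hS⟩
    refine ⟨toEnd_injective ?_, ?_⟩
    · have := congrArg (aeval (toEnd Q g)) hS
      rw [map_mul, map_mul, hR, mul_zero, zero_mul, map_sub, map_pow, aeval_X, map_one,
        sub_eq_zero] at this
      rw [map_pow, map_one]
      exact this
    · have hX1 : (X - 1 : F[X]) ≠ 0 := by
        rw [← map_one Polynomial.C]; exact X_sub_C_ne_zero 1
      have hgeom : ∑ k ∈ Finset.range N, (X : F[X]) ^ k = R * S := by
        refine mul_left_cancel₀ hX1 ?_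
        rw [← mul_assoc, ← hS, mul_comm, geom_sum_mul]
      have := congrArg (aeval (toEnd Q g)) hgeom
      rwa [map_mul, hR, zero_mul, map_sum, Finset.sum_congr rfl fun k _ => by
        rw [map_pow, aeval_X]] at this
  by_cases e : P.eval (-1) = 0
  · obtain ⟨R, hR⟩ := dvd_iff_isRoot.2 (show P.IsRoot (-1) from e)
    rw [show X - Polynomial.C (-1 : F) = X + 1 by simp, mul_comm] at hR
    refine key R (aeval_eq_zero_of_root h2 hB hg hR.symm) (h2' e ((X - 1) * R) ?_)
    rw [mul_assoc, ← hR]
  · exact key P (LinearMap.aeval_self_charpoly _) (h1 e)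

end Cfsg.Agent.RecogA
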