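import Cfsg.Agent.Elusive25.UnipOrth
import Cfsg.Agent.RecogA.OmegaModel
import Cfsg.Agent.RecogA.OrthSplit
import Cfsg.Agent.RecogA.OddUpper

/-!
Unipotent isometries in odd characteristic and the mixed element orders of `Ω(V ⊥ ⟨1⟩)` and of the
extension of `V` by `Ω(V)`.
-/

set_option autoImplicit false

namespace Cfsg.Agent.RecogA

open QuadraticMap Module Polynomial Cfsg.Agent.Classical Cfsg.Agent.Forms Cfsg.Agent.SpecBC
open LinearMap (BilinForm)
open Cfsg.Agent.Elusive25 (blockShift blockShift_pow blockShift_pow_eq_zero blockShift_skew blockForm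
  blockForm_isSymm blockForm_nondegenerate blockGram blockExt)

/-- The sum of the first `p ^ j` powers in characteristic `p`. -/
theorem geom_sum_pow_char {F : Type*} [Field F] {A : Type*} [Ring A] [Algebra F A] {p : ℕ}
    [Fact p.Prime] [CharP F p] (x : A) (j : ℕ) :
    ∑ i ∈ Finset.range (p ^ j), x ^ i = (x - 1) ^ (p ^ j - 1) := by
  have h : ∑ i ∈ Finset.range (p ^ j), (X : F[X]) ^ i = (X - 1) ^ (p ^ j - 1) := by
    have hX : (X - 1 : F[X]) ≠ 0 := by rw [← map_one Polynomial.C]; exact X_sub_C_ne_zero 1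
    refine mul_right_cancel₀ hX ?_
    rw [geom_sum_mul, ← pow_succ,
      Nat.sub_add_cancel (Nat.one_le_pow _ _ (Fact.out : p.Prime).pos), sub_pow_char_pow, one_pow]
  simpa using congrArg (aeval x) h

variable {F : Type*} [Field F] [Fintype F] {V : Type*} [AddCommGroup V] [Module F V]
  [FiniteDimensional F V] {Q : QuadraticForm F V}

/-- Unipotent isometries with blocks of prescribed odd sizes. -/
theorem exists_unipotent_odd {p : ℕ} [Fact p.Prime] [CharP F p] (h2 : (2 : F) ≠ 0) (hB : BNondeg Q)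
    {β : Type} [Fintype β] [DecidableEq β] (sz : β → ℕ) (hsz : ∀ b, Odd (sz b))
    (hsum : ∑ b, sz b = finrank F V) (b₀ : β) {k : ℕ} (hk : ∀ b, sz b ≤ p ^ k) :
    ∃ g : OQ Q, g ^ p ^ k = 1 ∧ (toEnd Q g - 1) ^ (sz b₀ - 1) ≠ 0 ∧
      ∀ m, (∀ b, sz b ≤ m) → (toEnd Q g - 1) ^ m = 0 := by
  classical
  have hπ : ∀ b : β, id (id b) = b := fun _ => rfl
  have hπs : ∀ b : β, sz (id b) = sz b := fun _ => rfl
  have hc : ∀ (c : β → F) b, c (id b) = (-1) ^ (sz b + 1) * c b := fun c b => by
    rw [(hsz b).add_one.neg_one_pow, one_mul]; rfl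
  let e₀ := Pi.basisFun F (Σ b, Fin (sz b))
  let e₁ := Module.finBasis F V
  have hnd : (polarBilin Q).Nondegenerate :=
    ⟨fun x hx => hB x fun y => hx y, fun x hx => hB x fun y => by rw [polar_comm]; exact hx y⟩
  have hS : LinearMap.BilinForm.IsSymm (polarBilin Q) := ⟨fun x y => polar_comm (⇑Q) x y⟩
  set d₁ := (LinearMap.BilinForm.toMatrix e₁ (polarBilin Q)).det with hd₁
  have hdet : ∀ c : β → F,
      LinearMap.BilinForm.toMatrix e₀ (blockForm sz id hπs c) = blockGram sz id hπs c := fun c => by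
    ext x y
    rw [LinearMap.BilinForm.toMatrix_apply, blockForm]
    simp [e₀, Matrix.toBilin'_single]
  obtain ⟨c, hc0, hsq⟩ : ∃ c : β → F, (∀ b, c b ≠ 0) ∧
      IsSquare ((blockGram sz id hπs c).det * d₁) := by
    by_cases hsq : IsSquare ((blockGram sz id hπs (fun _ => (1 : F))).det * d₁)
    · exact ⟨_, fun _ => one_ne_zero, hsq⟩
    obtain ⟨α, hα⟩ := Forms25.exists_not_isSquare h2
    have hα0 : α ≠ 0 := fun h => hα (h ▸ IsSquare.zero)
    refine ⟨fun b => if b = b₀ then α else 1, fun b => by dsimp only; split_ifs <;> simp [hα0], ?_⟩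
    have hM : blockGram sz id hπs (fun b => if b = b₀ then α else 1) =
        Matrix.diagonal (fun x : Σ b, Fin (sz b) => if x.1 = b₀ then α else 1) *
          blockGram sz id hπs (fun _ => (1 : F)) := by
      ext x y
      rw [Matrix.diagonal_mul]
      simp only [blockGram, Matrix.of_apply]
      split_ifs <;> ring
    have hprod : ∏ x : Σ b, Fin (sz b), (if x.1 = b₀ then α else 1) = α ^ sz b₀ := by
      rw [Fintype.prod_sigma, Finset.prod_eq_single b₀]
      · simp
      · intro b _ hb'; simp [hb']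
      · exact fun h => absurd (Finset.mem_univ _) h
    rw [hM, Matrix.det_mul, Matrix.det_diagonal, hprod, mul_assoc]
    obtain ⟨r, hr⟩ := hsz b₀
    rw [hr, pow_succ, pow_mul', mul_assoc (_ ^ 2)]
    exact IsSquare.mul (IsSquare.sq _) (Elusive25.isSquare_mul_of_not hα hsq)
  have hcard : Fintype.card (Σ b, Fin (sz b)) = Fintype.card (Fin (finrank F V)) := by
    simp [hsum]
  obtain ⟨E, hE⟩ := Forms25.equiv_of_det h2 (blockForm_isSymm sz id hπ hπs c (hc c)) hS
    (blockForm_nondegenerate sz id hπ hπs c hc0 (hc c)) hnd e₀ e₁ hcard (by rw [hdet]; exact hsq)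
  -- the Cayley transform
  set N := blockShift F sz with hN
  have hnil : N ^ p ^ k = 0 := blockShift_pow_eq_zero sz hk
  obtain ⟨a, ha⟩ := IsNilpotent.isUnit_one_sub ⟨p ^ k, hnil⟩
  have hca : Commute (↑a⁻¹ : Module.End F _) N :=
    Commute.units_inv_left (by rw [ha]; exact (Commute.one_left N).sub_left (Commute.refl N))
  set f : Module.End F ((Σ b, Fin (sz b)) → F) := (1 + N) * ↑a⁻¹ with hf
  set U : Module.End F ((Σ b, Fin (sz b)) → F) := (2 : F) • (↑a⁻¹ : Module.End F _) with hU
  have hcU : Commute U N := hca.smul_left _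
  have hf1 : f - 1 = U * N := by
    have h1 : (1 + N) * (↑a⁻¹ : Module.End F _) - 1 =
        ((1 + N) - (a : Module.End F _)) * (↑a⁻¹ : Module.End F _) := by
      rw [sub_mul, Units.mul_inv]
    rw [hf, h1, ha, show (1 + N) - (1 - N) = (2 : F) • N by rw [two_smul]; abel, hU, smul_mul_assoc,
      smul_mul_assoc, hca.eq]
  have hiso : ∀ u v, blockForm sz id hπs c (f u) (f v) = blockForm sz id hπs c u v := fun u v => by
    obtain ⟨u, rfl⟩ : ∃ w, (a : Module.End F _) w = u :=
      ⟨(↑a⁻¹ : Module.End F _) u, by rw [← Module.End.mul_apply, Units.mul_inv, Module.End.one_apply]⟩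
    obtain ⟨v, rfl⟩ : ∃ w, (a : Module.End F _) w = v :=
      ⟨(↑a⁻¹ : Module.End F _) v, by rw [← Module.End.mul_apply, Units.mul_inv, Module.End.one_apply]⟩
    have hcancel : ∀ w, f ((a : Module.End F _) w) = w + N w := fun w => by
      rw [← Module.End.mul_apply, hf, mul_assoc, Units.inv_mul, mul_one, LinearMap.add_apply,
        Module.End.one_apply]
    rw [hcancel, hcancel, ha]
    simp only [LinearMap.sub_apply, Module.End.one_apply, map_add, map_sub, LinearMap.add_apply]
    linear_combination 2 * blockShift_skew sz id hπs c u v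
  have hfinj : Function.Injective f := by
    intro x y hxy
    have h1 : IsUnit f := by
      refine IsUnit.mul ?_ (Units.isUnit _)
      exact IsNilpotent.isUnit_one_add ⟨p ^ k, hnil⟩
    exact ((Module.End.isUnit_iff _).1 h1).1 hxy
  let fe : ((Σ b, Fin (sz b)) → F) ≃ₗ[F] ((Σ b, Fin (sz b)) → F) := LinearEquiv.ofInjectiveEndo f hfinj
  let g₀ : V ≃ₗ[F] V := (E.symm.trans fe).trans E
  have hg₀ : ∀ v, g₀ v = E (f (E.symm v)) := fun v => rfl
  have hpol : ∀ u v, polarBilin Q (g₀ u) (g₀ v) = polarBilin Q u v := fun u v => by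
    rw [hg₀, hg₀, hE, hiso, ← hE, LinearEquiv.apply_symm_apply, LinearEquiv.apply_symm_apply]
  let g : OQ Q := ⟨g₀, fun v => by
    have h := hpol v v
    simp only [polarBilin_apply_apply, polar_self, nsmul_eq_mul, Nat.cast_ofNat] at h
    exact mul_left_cancel₀ h2 h⟩
  have hpow : ∀ (i : ℕ) v, ((toEnd Q g - 1) ^ i) (E v) = E (((U * N) ^ i) v) := by
    intro i
    induction i with
    | zero => intro v; rfl
    | succ i ih =>
      intro v
      rw [pow_succ', Module.End.mul_apply, ih, pow_succ' (U * N), Module.End.mul_apply (U * N), ← hf1]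
      show g₀ (E _) - E _ = E (f _ - _)
      rw [hg₀, LinearEquiv.symm_apply_apply, map_sub]
      rfl
  have hzero : ∀ m, (∀ b, sz b ≤ m) → (toEnd Q g - 1) ^ m = 0 := fun m hm => by
    refine LinearMap.ext fun v => ?_
    obtain ⟨v, rfl⟩ := E.surjective v
    rw [hpow, hcU.mul_pow, hN, blockShift_pow_eq_zero sz hm, mul_zero, LinearMap.zero_apply, map_zero,
      LinearMap.zero_apply]
  refine ⟨g, toEnd_injective ?_, fun e => ?_, hzero⟩
  · rcases subsingleton_or_nontrivial V with hV | hV
    · exact Subsingleton.elim _ _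
    haveI : CharP (Module.End F V) p :=
      charP_of_injective_algebraMap (RingHom.injective (algebraMap F (Module.End F V))) p
    have h := hzero _ hk
    rw [sub_pow_char_pow_of_commute p k (Commute.one_right _), one_pow, sub_eq_zero] at h
    rw [map_pow, map_one]
    exact h
  · have h0 : 1 ≤ sz b₀ := (hsz b₀).pos
    have h1 := LinearMap.congr_fun e (E (Pi.single ⟨b₀, ⟨0, h0⟩⟩ 1))
    rw [hpow, hcU.mul_pow, Module.End.mul_apply, LinearMap.zero_apply, LinearEquiv.map_eq_zero_iff]
      at h1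
    have hUu : IsUnit (U ^ (sz b₀ - 1)) :=
      IsUnit.pow _ (IsUnit.smul (Units.mk0 (2 : F) h2) (Units.isUnit a⁻¹) :)
    have h2' := ((Module.End.isUnit_iff _).1 hUu).1.eq_iff' (map_zero _) |>.1 h1
    have h3 := congrFun h2' ⟨b₀, ⟨sz b₀ - 1, by omega⟩⟩
    rw [hN, blockShift_pow, if_neg (by simp)] at h3
    simp [Pi.single_eq_same, Pi.single_apply] at h3

/-- The orders occurring both in `Ω(V ⊥ ⟨1⟩)` and in the extension of `V` by `Ω(V)`. -/
def InBoth (Q : QuadraticForm F V) (N : ℕ) : Prop :=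
  N ∈ Set.range (orderOf : commutator (OQ (Q.prod (QuadraticMap.sq : QuadraticForm F F))) → ℕ) ∧
    N ∈ Set.range (orderOf : ModExt (omegaInt Q) → ℕ)

theorem bNondeg_prod {U W : Type*} [AddCommGroup U] [Module F U] [AddCommGroup W] [Module F W]
    {R₁ : QuadraticForm F U} {R₂ : QuadraticForm F W} (h₁ : BNondeg R₁) (h₂ : BNondeg R₂) :
    BNondeg (R₁.prod R₂) := by
  have hp : ∀ x y, polar (R₁.prod R₂) x y = polar R₁ x.1 y.1 + polar R₂ x.2 y.2 := fun x y => by
    simp [polar, QuadraticMap.prod_apply]; ring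
  intro x hx
  refine Prod.ext (h₁ _ fun u => ?_) (h₂ _ fun w => ?_)
  · simpa [hp] using hx (u, 0)
  · simpa [hp] using hx (0, w)

/-- The embedding of the isometries of `V` into those of `V ⊥ ⟨1⟩`. -/
def padHom (Q : QuadraticForm F V) : OQ Q →* OQ (Q.prod (QuadraticMap.sq : QuadraticForm F F)) :=
  (sumHom (LinearEquiv.refl F (V × F)) fun _ => QuadraticMap.prod_apply _ _ _).comp (MonoidHom.inl _ _)

theorem inBoth_of_mem {t : OQ Q} (ht : t ∈ commutator (OQ Q)) : InBoth Q (orderOf t) := by
  refine ⟨⟨⟨padHom Q t, hom_mem_commutator _ ht⟩, ?_⟩, mem_range_model ht⟩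
  rw [← Subgroup.orderOf_coe]
  refine orderOf_injective (padHom Q) ?_ t
  intro g g' h
  exact congrArg Prod.fst (sumHom_injective (LinearEquiv.refl F (V × F))
    (fun _ => QuadraticMap.prod_apply _ _ _) h)

omit [Fintype F] [FiniteDimensional F V] in
theorem bNondeg_summand {U W : Type*} [AddCommGroup U] [Module F U] [AddCommGroup W] [Module F W]
    {R₁ : QuadraticForm F U} {R₂ : QuadraticForm F W} (hB : BNondeg Q) (e : (U × W) ≃ₗ[F] V)
    (h : ∀ v, Q (e v) = R₁ v.1 + R₂ v.2) : BNondeg R₂ := by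
  intro w hw
  have h0 : e (0, w) = 0 := hB _ fun v => by
    obtain ⟨⟨u, w'⟩, rfl⟩ := e.surjective v
    have := hw w'
    simp only [polar, ← map_add, h, Prod.mk_add_mk, zero_add, map_zero] at this ⊢
    linear_combination this
  exact (Prod.ext_iff.1 (e.map_eq_zero_iff.1 h0)).2

/-- A semisimple element fixing a subspace `W` of dimension `2k` times a unipotent element. -/
theorem inBoth_mixed {p : ℕ} [Fact p.Prime] [CharP F p] (hp : p ≠ 2) (hB : BNondeg Q)
    {U W : Type*} [AddCommGroup U] [Module F U] [AddCommGroup W] [Module F W] [FiniteDimensional F U]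
    [FiniteDimensional F W] {R₁ : QuadraticForm F U} {R₂ : QuadraticForm F W}
    (e : (U × W) ≃ₗ[F] V) (h : ∀ v, Q (e v) = R₁ v.1 + R₂ v.2) {k : ℕ} (hk : 1 ≤ k)
    (hW : finrank F W = 2 * k) {t₀ : OQ R₁} (ht : t₀ ∈ commutator (OQ R₁))
    (hco : p.Coprime (orderOf t₀)) :
    InBoth Q (ppow p (2 * k + 1) * orderOf t₀) := by
  have hpp : p.Prime := Fact.out
  have h2 : (2 : F) ≠ 0 := Ring.two_ne_zero (by rw [ringChar.eq F p]; exact hp)
  have hc2 : Fintype.card F ≠ 2 := fun hc => h2 (by
    have := Nat.cast_card_eq_zero F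
    rwa [hc, Nat.cast_ofNat] at this)
  haveI : Finite V := Module.finite_of_finite F
  haveI : Finite W := Module.finite_of_finite F
  haveI : Finite U := Module.finite_of_finite F
  have hodd : Odd p := hpp.odd_of_ne_two hp
  have hR₂ : BNondeg R₂ := bNondeg_summand hB e h
  set f := Nat.clog p (2 * k + 1) with hf
  have hP : 2 * k + 1 ≤ p ^ f := Nat.le_pow_clog hpp.one_lt _
  have hf0 : 0 < f := Nat.clog_pos hpp.one_lt (by omega)
  set P := p ^ (f - 1) with hPdef
  have hPlt : P < 2 * k + 1 := Nat.pow_pred_clog_lt_self hpp.one_lt (by omega)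
  have hP1 : P ≤ 2 * k - 1 := by
    obtain ⟨c, hc⟩ : Odd P := hodd.pow
    omega
  have hppow : ppow p (2 * k + 1) = p ^ (f - 1 + 1) := by
    rw [Nat.sub_add_cancel hf0]; rfl
  set t : OQ Q := sumHom e h (t₀, 1) with htdef
  have htc : t ∈ commutator (OQ Q) :=
    hom_mem_commutator ((sumHom e h).comp (MonoidHom.inl _ _)) ht
  have hto : orderOf t = orderOf t₀ := by simp [htdef, orderOf_sumHom]
  constructor
  · -- the isometry group of `V ⊥ ⟨1⟩`
    let e' : (U × (W × F)) ≃ₗ[F] V × F :=
      (LinearEquiv.prodAssoc F U W F).symm.trans (e.prodCongr (LinearEquiv.refl F F))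
    have h' : ∀ v, (Q.prod (QuadraticMap.sq : QuadraticForm F F)) (e' v) =
        R₁ v.1 + (R₂.prod (QuadraticMap.sq : QuadraticForm F F)) v.2 := by
      rintro ⟨u, w, x⟩
      show Q (e (u, w)) + _ = R₁ u + (R₂ w + _)
      rw [h, add_assoc]
      rfl
    have hsq : BNondeg (QuadraticMap.sq : QuadraticForm F F) := by
      intro x hx
      have h := hx 1
      simp only [polar, QuadraticMap.sq_apply] at h
      ring_nf at h
      exact (mul_eq_zero.1 h).resolve_right h2
    obtain ⟨u, hu1, hu2, -⟩ := exists_unipotent_odd (p := p) (k := f) h2 (bNondeg_prod hR₂ hsq)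
      (fun _ : Unit => 2 * k + 1) (fun _ => odd_two_mul_add_one k)
      (by simp [hW, Module.finrank_prod]) () (fun _ => hP)
    have hou : orderOf u = p ^ (f - 1 + 1) := by
      refine orderOf_eq_prime_pow (fun hone => hu2 ?_) (by rw [Nat.sub_add_cancel hf0]; exact hu1)
      rcases subsingleton_or_nontrivial (W × F) with hV | hV
      · exact LinearMap.ext fun v => Subsingleton.elim _ _
      haveI : CharP (Module.End F (W × F)) p :=
        charP_of_injective_algebraMap (RingHom.injective (algebraMap F (Module.End F (W × F)))) p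
      refine pow_eq_zero_of_le (m := P) (show P ≤ 2 * k + 1 - 1 by omega) ?_
      rw [hPdef, sub_pow_char_pow_of_commute p (f - 1) (Commute.one_right _), one_pow, ← map_pow,
        hone, map_one, sub_self]
    let T := sumHom e' h' (t₀, u)
    have hBQ : BNondeg (Q.prod (QuadraticMap.sq : QuadraticForm F F)) := bNondeg_prod hB hsq
    have hT : T ∈ commutator _ := by
      have e1 : (t₀, u) = ((t₀, 1) : OQ R₁ × _) * (1, u) := Prod.ext (mul_one _).symm (one_mul _).symm
      show sumHom e' h' (t₀, u) ∈ _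
      rw [e1, map_mul]
      refine mul_mem (hom_mem_commutator ((sumHom e' h').comp (MonoidHom.inl _ _)) ht) ?_
      refine Elusive25.mem_commutator_of_pow hBQ (notExceptional_of (Or.inl hc2))
        (hodd.pow (n := f)) ?_
      rw [← map_pow, show ((1, u) : OQ R₁ × _) ^ p ^ f = 1 from Prod.ext (one_pow _) hu1, map_one]
    refine ⟨⟨T, hT⟩, ?_⟩
    rw [← Subgroup.orderOf_coe, show ((⟨T, hT⟩ : commutator _) : OQ _) = T from rfl,
      show T = sumHom e' h' (t₀, u) from rfl, orderOf_sumHom, hou, hppow, mul_comm]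
    exact Nat.Coprime.lcm_eq_mul (hco.symm.pow_right _)
  · -- the extension
    obtain ⟨u, hu1, hu2, hu3⟩ := exists_unipotent_odd (p := p) (k := f) h2 hR₂
      (fun b : Bool => if b then 2 * k - 1 else 1)
      (fun b => by cases b <;> simp; exact ⟨k - 1, by omega⟩)
      (by simp [hW]; omega) true (fun b => by cases b <;> simp <;> omega)
    obtain ⟨w, hw⟩ : ∃ w, ((toEnd R₂ u - 1) ^ (2 * k - 1 - 1)) w ≠ 0 := by
      by_contra hall
      push Not at hall
      exact hu2 (LinearMap.ext fun w => by simpa using hall w)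
    set σ : OQ Q := sumHom e h (1, u) with hσdef
    have hσc : σ ∈ commutator (OQ Q) := by
      refine Elusive25.mem_commutator_of_pow hB (notExceptional_of (Or.inl hc2)) (hodd.pow (n := f)) ?_
      rw [hσdef, ← map_pow, show ((1, u) : OQ R₁ × _) ^ p ^ f = 1 from Prod.ext (one_pow _) hu1,
        map_one]
    set X : ModExt (omegaInt Q) := ⟨Multiplicative.ofAdd (e (0, w)), toOmegaInt hσc⟩ with hX
    set Y : ModExt (omegaInt Q) := SemidirectProduct.inr (toOmegaInt htc) with hY
    have hcomm : Commute X Y := by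
      refine SemidirectProduct.ext (Multiplicative.toAdd.injective ?_) (Subtype.ext ?_)
      · simp only [hX, hY, SemidirectProduct.mul_left, SemidirectProduct.left_inr, map_one, mul_one,
          SemidirectProduct.right_inr, one_mul]
        show e (0, w) = (sumHom e h (t₀, 1)).1 (e (0, w))
        rw [sumHom_apply, map_zero]
        rfl
      · show isoInt Q σ * isoInt Q t = isoInt Q t * isoInt Q σ
        rw [← map_mul, ← map_mul, hσdef, htdef, ← map_mul, ← map_mul]
        simp
    have hpow : ∀ j, X ^ p ^ j = ⟨Multiplicative.ofAdd (e (0, ((toEnd R₂ u - 1) ^ (p ^ j - 1)) w)),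
        (toOmegaInt hσc) ^ p ^ j⟩ := by
      intro j
      refine SemidirectProduct.ext (Multiplicative.toAdd.injective ?_) (modExt_pow_right X _)
      rw [modExt_pow_left, ← geom_sum_pow_char (F := F) (toEnd R₂ u) j, LinearMap.sum_apply]
      rw [show e (0, ∑ i ∈ Finset.range (p ^ j), (toEnd R₂ u ^ i) w) =
        ∑ i ∈ Finset.range (p ^ j), e (0, (toEnd R₂ u ^ i) w) by
          rw [← map_sum]
          congr 1
          refine Prod.ext ?_ ?_ <;> simp [Prod.fst_sum, Prod.snd_sum]]
      refine Finset.sum_congr rfl fun i _ => ?_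
      show (((toOmegaInt hσc) ^ i : omegaInt Q) : V ≃ₗ[ℤ] V) (e (0, w)) = _
      rw [SubgroupClass.coe_pow, show (toOmegaInt hσc : V ≃ₗ[ℤ] V) = isoInt Q σ from rfl, ← map_pow,
        hσdef, ← map_pow]
      show (sumHom e h ((1, u) ^ i)).1 (e (0, w)) = _
      rw [sumHom_apply, map_zero, ← map_pow]
      rfl
    have hoX : orderOf X = p ^ (f - 1 + 1) := by
      refine orderOf_eq_prime_pow (fun hone => hw ?_) ?_
      · rw [hpow] at hone
        have h1 := congrArg (fun g : ModExt (omegaInt Q) => g.left.toAdd) hone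
        have h2' : ((0 : U), ((toEnd R₂ u - 1) ^ (P - 1)) w) = 0 := e.map_eq_zero_iff.1 h1
        rw [show 2 * k - 1 - 1 = (2 * k - 1 - 1 - (P - 1)) + (P - 1) by omega, pow_add,
          Module.End.mul_apply, show ((toEnd R₂ u - 1) ^ (P - 1)) w = 0 from congrArg Prod.snd h2']
        exact map_zero _
      · rw [Nat.sub_add_cancel hf0, hpow,
          hu3 (p ^ f - 1) (fun b => by cases b <;> simp <;> omega)]
        refine SemidirectProduct.ext ?_ ?_
        · simp
        · show toOmegaInt hσc ^ p ^ f = 1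
          refine Subtype.ext ?_
          rw [SubgroupClass.coe_pow, show (toOmegaInt hσc : V ≃ₗ[ℤ] V) = isoInt Q σ from rfl,
            ← map_pow, hσdef, ← map_pow,
            show ((1, u) : OQ R₁ × _) ^ p ^ f = 1 from Prod.ext (one_pow _) hu1, map_one, map_one]
          rfl
    have hoY : orderOf Y = orderOf t₀ := by
      rw [hY, orderOf_injective _ SemidirectProduct.inr_injective, orderOf_toOmegaInt, hto]
    refine ⟨X * Y, ?_⟩
    rw [hcomm.orderOf_mul_eq_mul_orderOf_of_coprime (by rw [hoX, hoY]; exact hco.pow_left _), hoX,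
      hoY, hppow]

end Cfsg.Agent.RecogA
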