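import Cfsg.Agent.RecogA.OrthTori
import Cfsg.Agent.RecogA.OddUnipotent
import Cfsg.Agent.Classical.OrthFinal

/-!
Cyclic tori of the orthogonal groups, `q` odd: their generators lie in the kernel of the Dickson
invariant outside the commutator subgroup.
-/

set_option autoImplicit false

namespace Cfsg.Agent.RecogA

open QuadraticMap Module Cfsg.Agent.Classical Cfsg.Agent.Forms

variable {F : Type*} [Field F] [Fintype F]

/-- In the kernel of the Dickson invariant but not in the commutator subgroup. -/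
def Twisted {V : Type*} [AddCommGroup V] [Module F V] {Q : QuadraticForm F V} (g : OQ Q) : Prop :=
  dickson g = 1 ∧ g ∉ commutator (OQ Q)

theorem notExceptional_odd {V : Type*} [AddCommGroup V] [Module F V] [FiniteDimensional F V]
    {Q : QuadraticForm F V} (h2 : (2 : F) ≠ 0) : OrthGen.NotExceptional Q :=
  notExceptional_of (Or.inl fun h => h2 (by
    have := Nat.cast_card_eq_zero F
    rwa [h, Nat.cast_ofNat] at this))

theorem bNondeg_minusQF_odd (h2 : (2 : F) ≠ 0) (m : ℕ) {a b : F} (hab : BinaryAniso a b) :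
    BNondeg (minusQF m a b) := by
  refine bNondeg_congr (Classical.minusEquiv m) (minusEquiv_spec m a b)
    (bNondeg_hypExt _ fun z hz => ?_)
  have h0 := hz ![1, 0]
  have h1 := hz ![0, 1]
  simp [polar_binQF] at h0 h1
  have hdet : a ^ 2 - 4 * b ≠ 0 := binDisc_ne_zero (anisotropic_binQF hab)
  have hz1 : z 1 = 0 := by
    refine (mul_eq_zero.1 (show (a ^ 2 - 4 * b) * z 1 = 0 by
      linear_combination a * h0 - 2 * h1)).resolve_left hdet
  have hz0 : z 0 = 0 := by
    rw [hz1] at h0
    simpa [h2] using h0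
  funext i
  fin_cases i <;> simp [hz0, hz1]

/-- The Singer torus. -/
theorem exists_twisted_minus_torus (h2 : (2 : F) ≠ 0) (m : ℕ) {a b : F} (hab : BinaryAniso a b) :
    ∃ g : OQ (minusQF m a b), orderOf g = Fintype.card F ^ (m + 1) + 1 ∧ Twisted g := by
  classical
  obtain ⟨g, hg, hfree⟩ := exists_orderOf_minus_torus_free m hab
  set q := Fintype.card F with hq
  set n := q ^ (m + 1) + 1 with hn
  have hodd : Odd q := Nat.odd_iff.2 (FiniteField.odd_card_of_char_ne_two fun h => h2 (by
    have := ringChar.charP F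
    rw [h] at this
    exact CharTwo.two_eq_zero))
  have hq1 : 1 ≤ q ^ (m + 1) := Nat.one_le_pow _ _ Fintype.card_pos
  have hfix : ∀ v, g.1 v = v → v = 0 := fun v hv => hfree 1 (by
    rw [pow_one]
    intro h
    rw [h, orderOf_one] at hg
    omega) v (by rwa [pow_one])
  refine ⟨g, hg, ?_, fun hmem => ?_⟩
  · have hbot : fixSpace g = ⊥ := by
      rw [eq_bot_iff]
      exact fun v hv => hfix v (mem_fixSpace.1 hv)
    rw [Classical.dickson, hbot, finrank_bot, zero_add, Module.finrank_fintype_fun_eq_card]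
    simp [Even.neg_one_pow, parity_simps]
  · haveI : Fintype {v // minusQF m a b v = 1} := Fintype.ofFinite _
    have h1 := ((mem_commutator_OQ_iff (bNondeg_minusQF_odd h2 m hab) (notExceptional_odd h2) g).1
      hmem).2 h2
    rw [levelSign_eq] at h1
    set σ := levelPerm (minusQF m a b) 1 g with hσ
    have hσv : ∀ (i : ℕ) (v : {v // minusQF m a b v = 1}), ((σ ^ i) v).1 = (g ^ i).1 v.1 := by
      intro i v
      rw [hσ, ← map_pow]
      rfl
    have hne : ∀ v : {v // minusQF m a b v = 1}, v.1 ≠ 0 := fun v h => by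
      have := v.2
      rw [h, map_zero] at this
      exact zero_ne_one this
    have hmoved : ∀ v, σ v ≠ v := fun v h => hne v (hfix _ (congrArg Subtype.val h))
    have hperiod : ∀ v, σ v ≠ v → ∀ i : ℕ, (σ ^ i) v = v ↔ n ∣ i := by
      intro v _ i
      rw [← hg, orderOf_dvd_iff_pow_eq_one]
      refine ⟨fun h => ?_, fun h => Subtype.ext (by rw [hσv, h]; rfl)⟩
      by_contra hne'
      exact hne v (hfree i hne' _ (by rw [← hσv, h]))
    have hsupp : σ.support.card = n * q ^ m := by
      rw [show σ.support = Finset.univ from Finset.eq_univ_of_forall fun v =>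
          Equiv.Perm.mem_support.2 (hmoved v), Finset.card_univ, ← Nat.card_eq_fintype_card,
        card_level_congr (R := hypExt m (binQF a b)) (Classical.minusEquiv m) (minusEquiv_spec m a b),
        card_level_minus (anisotropic_binQF hab), Nat.card_eq_fintype_card, mul_comm]
    rw [SpecBC.sign_semiregular σ hodd.pow.add_one (by omega) hperiod _ hsupp hodd.pow] at h1
    exact absurd h1 (by decide)

/-- The split torus. -/
theorem exists_twisted_plus_torus (h2 : (2 : F) ≠ 0) (m : ℕ) [NeZero m] :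
    ∃ g : OQ (plusQF m F), orderOf g = Fintype.card F ^ m - 1 ∧ Twisted g := by
  classical
  obtain ⟨p, hp⟩ := CharP.exists F
  haveI : Fact p.Prime := ⟨CharP.char_is_prime F p⟩
  let L := FiniteField.Extension F p m
  have hL : Nat.card L = Fintype.card F ^ m := by
    rw [FiniteField.natCard_extension, Nat.card_eq_fintype_card]
  obtain ⟨μ, hμ⟩ := IsCyclic.exists_generator (α := Lˣ)
  let β : Module.Basis (Fin m) F L :=
    (Module.finBasis F L).reindex (finCongr (FiniteField.finrank_extension F p m))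
  let Λ : Lˣ →* Matrix.GeneralLinearGroup (Fin m) F :=
    Units.map (Algebra.leftMulMatrix β).toRingHom.toMonoidHom
  have hinj : Function.Injective ((levi (F := F) (m := m)).comp Λ) := by
    intro u v huv
    refine Units.ext (Algebra.leftMulMatrix_injective β ?_)
    refine Matrix.ext_of_mulVec_single fun i => ?_
    have h := congrArg (fun g : OQ (plusQF m F) => fun j => g.1 (Sum.elim (Pi.single i 1) 0) (Sum.inl j)) huv
    simp only [MonoidHom.comp_apply, levi_apply, leviMat_mulVec] at h
    exact h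
  have hc2 : Fintype.card F ≠ 2 := fun h => h2 (by
    have := Nat.cast_card_eq_zero F
    rwa [h, Nat.cast_ofNat] at this)
  obtain ⟨h1, hiff⟩ := isSquare_det_of_levi (Or.inl hc2) (Nat.one_le_iff_ne_zero.2 (NeZero.ne m)) (Λ μ)
  refine ⟨(levi (F := F) (m := m)).comp Λ μ, ?_, h1, fun hmem => ?_⟩
  · rw [orderOf_injective _ hinj, orderOf_eq_card_of_forall_mem_zpowers hμ, Nat.card_units, hL]
  · obtain ⟨r, hr⟩ := hiff.1 hmem
    have hdet : ((Λ μ : Matrix.GeneralLinearGroup (Fin m) F) : Matrix (Fin m) (Fin m) F).det =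
        Algebra.norm F (μ : L) := (Algebra.norm_eq_matrix_det β _).symm
    rw [hdet] at hr
    have hchar : ringChar F ≠ 2 := fun h => h2 (by
      have := ringChar.charP F
      rw [h] at this
      exact CharTwo.two_eq_zero)
    obtain ⟨α, hα⟩ := FiniteField.exists_nonsquare hchar
    obtain ⟨z, hz⟩ := FiniteField.unitsMap_norm_surjective F L
      (Units.mk0 α fun e => hα (e ▸ IsSquare.zero))
    obtain ⟨c, rfl⟩ := Subgroup.mem_zpowers_iff.1 (hμ z)
    have h := congrArg Units.val hz
    rw [map_zpow] at h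
    simp only [Units.val_zpow_eq_zpow_val, Units.coe_map, Units.val_mk0] at h
    refine hα ⟨r ^ c, ?_⟩
    rw [← h, ← mul_zpow]
    exact congrArg (· ^ c) hr

variable {U W V : Type*} [AddCommGroup U] [Module F U] [AddCommGroup W] [Module F W]
  [AddCommGroup V] [Module F V] [FiniteDimensional F U] [FiniteDimensional F W]
  [FiniteDimensional F V] {R₁ : QuadraticForm F U} {R₂ : QuadraticForm F W} {Q : QuadraticForm F V}

/-- A twisted element stays twisted in an orthogonal sum. -/
theorem twisted_sumHom_left (h2 : (2 : F) ≠ 0) (hB₁ : BNondeg R₁) (hB : BNondeg Q)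
    (e : (U × W) ≃ₗ[F] V) (h : ∀ v, Q (e v) = R₁ v.1 + R₂ v.2) {s : OQ R₁} (hs : Twisted s) :
    Twisted (sumHom e h (s, 1)) := by
  haveI : Finite U := Module.finite_of_finite F
  haveI : Finite V := Module.finite_of_finite F
  obtain ⟨l, rfl⟩ := exists_refls (OrthGen.RQ_eq_top hB₁ (notExceptional_odd h2)) s
  have hval : ∀ x : U, Q (e (x, 0)) = R₁ x := fun x => by simp [h]
  let l' : List {x : V // Q x ≠ 0} := l.map fun x => ⟨e (x.1, 0), by rw [hval]; exact x.2⟩
  have heq : sumHom e h (refls R₁ l, 1) = refls Q l' := by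
    simp only [l']
    clear hs
    induction l with
    | nil => exact map_one _
    | cons x l ih =>
      rw [refls_cons, List.map_cons, refls_cons,
        show ((reflQ R₁ x.1 x.2 * refls R₁ l, 1) : OQ R₁ × OQ R₂) =
          (reflQ R₁ x.1 x.2, 1) * (refls R₁ l, 1) from Prod.ext rfl (one_mul _).symm, map_mul, ih]
      congr 1
      refine Subtype.ext (LinearEquiv.ext fun v => ?_)
      obtain ⟨⟨u, w⟩, rfl⟩ := e.surjective v
      rw [sumHom_apply, reflQ_apply, reflQ_apply]
      show e (u - _, w) = _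
      have hp : polar Q (e (x.1, 0)) (e (u, w)) = polar R₁ x.1 u := by
        simp [polar, ← map_add, h]
        ring
      show _ = e (u, w) - ((Q (e (x.1, 0)))⁻¹ * polar Q (e (x.1, 0)) (e (u, w))) • e (x.1, 0)
      rw [hp, hval, ← map_smul, ← map_sub]
      simp
  obtain ⟨hd, hn⟩ := hs
  rw [Twisted, heq]
  rw [dickson_refls hB₁] at hd
  refine ⟨by rw [dickson_refls hB]; simpa [l'] using hd, fun hmem => hn ?_⟩
  rw [refls_mem_commutator_iff hB₁ (notExceptional_odd h2)]
  have := (refls_mem_commutator_iff hB (notExceptional_odd h2) l').1 hmem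
  simpa [l', Function.comp_def, hval] using this

theorem twisted_sumHom_right (h2 : (2 : F) ≠ 0) (hB₂ : BNondeg R₂) (hB : BNondeg Q)
    (e : (U × W) ≃ₗ[F] V) (h : ∀ v, Q (e v) = R₁ v.1 + R₂ v.2) {t : OQ R₂} (ht : Twisted t) :
    Twisted (sumHom e h (1, t)) := by
  have h' : ∀ v, Q ((LinearEquiv.prodComm F W U).trans e v) = R₂ v.1 + R₁ v.2 := fun v => by
    rw [LinearEquiv.trans_apply, h, add_comm]
    rfl
  convert twisted_sumHom_left h2 hB₂ hB ((LinearEquiv.prodComm F W U).trans e) h' ht using 1
  refine Subtype.ext (LinearEquiv.ext fun v => ?_)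
  obtain ⟨⟨w, u⟩, rfl⟩ := ((LinearEquiv.prodComm F W U).trans e).surjective v
  rw [sumHom_apply]
  show (sumHom e h (1, t)).1 (e (u, w)) = e (u, t.1 w)
  rw [sumHom_apply]
  rfl

/-- A sum of two twisted elements lies in the commutator subgroup. -/
theorem sumHom_mem_of_twisted (h2 : (2 : F) ≠ 0) (hB₁ : BNondeg R₁) (hB₂ : BNondeg R₂) (hB : BNondeg Q)
    (e : (U × W) ≃ₗ[F] V) (h : ∀ v, Q (e v) = R₁ v.1 + R₂ v.2) {s : OQ R₁} {t : OQ R₂}
    (hs : Twisted s) (ht : Twisted t) : sumHom e h (s, t) ∈ commutator (OQ Q) := by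
  haveI : Finite V := Module.finite_of_finite F
  rw [show (s, t) = ((s, 1) : OQ R₁ × OQ R₂) * (1, t) from Prod.ext (mul_one _).symm (one_mul _).symm,
    map_mul]
  exact mul_mem_commutator_of_dickson hB (notExceptional_odd h2)
    (twisted_sumHom_left h2 hB₁ hB e h hs).1 (twisted_sumHom_right h2 hB₂ hB e h ht).1
    (twisted_sumHom_left h2 hB₁ hB e h hs).2 (twisted_sumHom_right h2 hB₂ hB e h ht).2

end Cfsg.Agent.RecogA
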