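import Cfsg.Agent.RecogA.OddTori

/-!
All maximal element orders of `Ω(9, q)` occur in it and in the extension of the natural module by
`Ω⁻(8, q)`, `q` odd.
-/

set_option autoImplicit false

namespace Cfsg.Agent.RecogA

open QuadraticMap Module Cfsg.Agent.Classical Cfsg.Agent.Forms

variable {F : Type*} [Field F] [Fintype F]

local notation "q" => Fintype.card F

/-- Two planes of minus type make a space of plus type, odd characteristic. -/
theorem exists_minusMinus_odd (h2 : (2 : F) ≠ 0) {a b : F} (hab : BinaryAniso a b) :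
    ∃ e : (((Fin 0 ⊕ Fin 0) ⊕ Fin 2 → F) × ((Fin 0 ⊕ Fin 0) ⊕ Fin 2 → F)) ≃ₗ[F]
        (Fin 2 ⊕ Fin 2 → F),
      ∀ v, plusQF 2 F (e v) = minusQF 0 a b v.1 + minusQF 0 a b v.2 := by
  have hA := anisotropic_binQF hab
  obtain ⟨y, hy⟩ : ∃ y, binQF a b y = -1 := by
    obtain ⟨y, h | ⟨h, h'⟩⟩ := exists_binQF_eq a b (-1)
    · exact ⟨y, h⟩
    · exact absurd (hA y h) h'
  let π : ((Fin 0 ⊕ Fin 0) ⊕ Fin 2 → F) →ₗ[F] (Fin 2 → F) := LinearMap.funLeft F F Sum.inr
  let M : (Fin 2 → F) →ₗ[F] (Fin 2 → F) := binMul a b y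
  let u : (((Fin 0 ⊕ Fin 0) ⊕ Fin 2 → F) × ((Fin 0 ⊕ Fin 0) ⊕ Fin 2 → F)) →ₗ[F] (Fin 2 → F) :=
    π ∘ₗ LinearMap.fst F _ _ - M ∘ₗ π ∘ₗ LinearMap.snd F _ _
  let v : (((Fin 0 ⊕ Fin 0) ⊕ Fin 2 → F) × ((Fin 0 ⊕ Fin 0) ⊕ Fin 2 → F)) →ₗ[F] (Fin 2 → F) :=
    π ∘ₗ LinearMap.fst F _ _ + M ∘ₗ π ∘ₗ LinearMap.snd F _ _
  let R : (Fin 2 → F) →ₗ[F] (Fin 2 → F) :=
    { toFun := fun v => ![v 0 + a / 2 * v 1, a / 2 * v 0 + b * v 1]
      map_add' := fun x y => by ext i; fin_cases i <;> simp <;> ring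
      map_smul' := fun c x => by ext i; fin_cases i <;> simp <;> ring }
  let T : (((Fin 0 ⊕ Fin 0) ⊕ Fin 2 → F) × ((Fin 0 ⊕ Fin 0) ⊕ Fin 2 → F)) →ₗ[F]
      (Fin 2 ⊕ Fin 2 → F) :=
    (LinearEquiv.sumArrowLequivProdArrow (Fin 2) (Fin 2) F F).symm.toLinearMap ∘ₗ u.prod (R ∘ₗ v)
  have hTl : ∀ x i, T x (.inl i) = u x i := fun x i => rfl
  have hTr : ∀ x i, T x (.inr i) = R (v x) i := fun x i => rfl
  have hdet : a / 2 * (a / 2) - b ≠ 0 := fun h => binDisc_ne_zero hA (by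
    field_simp at h
    linear_combination h)
  have hinj : Function.Injective T := by
    refine (injective_iff_map_eq_zero T).2 fun x hx => ?_
    have hu : ∀ i, u x i = 0 := fun i => (hTl x i).symm.trans (congrFun hx _)
    have hr : ∀ i, R (v x) i = 0 := fun i => (hTr x i).symm.trans (congrFun hx _)
    have hr0 : v x 0 + a / 2 * v x 1 = 0 := hr 0
    have hr1 : a / 2 * v x 0 + b * v x 1 = 0 := hr 1
    have hv1 : v x 1 = 0 := (mul_eq_zero.1 (show (a / 2 * (a / 2) - b) * v x 1 = 0 by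
      linear_combination a / 2 * hr0 - hr1)).resolve_left hdet
    have hv0 : v x 0 = 0 := by linear_combination hr0 - a / 2 * hv1
    have hv : ∀ i, v x i = 0 := Fin.forall_fin_two.2 ⟨hv0, hv1⟩
    have h1 : ∀ i, π x.1 i = 0 := fun i => (mul_eq_zero.1 (show (2 : F) * π x.1 i = 0 by
      have e1 : π x.1 i - M (π x.2) i = 0 := hu i
      have e2 : π x.1 i + M (π x.2) i = 0 := hv i
      linear_combination e1 + e2)).resolve_left h2
    have h3 : π x.2 = 0 := by
      refine hA _ ?_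
      have hM : M (π x.2) = 0 := funext fun i => by
        have e2 : π x.1 i + M (π x.2) i = 0 := hv i
        rwa [h1, zero_add] at e2
      have := binQF_binMul a b y (π x.2)
      rw [show binMul a b y (π x.2) = M (π x.2) from rfl, hM, map_zero, hy, neg_one_mul] at this
      exact neg_eq_zero.1 this.symm
    refine Prod.ext (funext fun j => ?_) (funext fun j => ?_)
    · rcases j with (j | j) | j
      · exact j.elim0
      · exact j.elim0
      · exact h1 j
    · rcases j with (j | j) | j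
      · exact j.elim0
      · exact j.elim0
      · exact congrFun h3 j
  refine ⟨LinearEquiv.ofBijective T ⟨hinj, (LinearMap.injective_iff_surjective_of_finrank_eq_finrank
    (by simp [Module.finrank_prod])).1 hinj⟩, fun x => ?_⟩
  show plusQF 2 F (T x) = _
  have hN : binQF a b (M (π x.2)) = - binQF a b (π x.2) := by
    rw [show M (π x.2) = binMul a b y (π x.2) from rfl, binQF_binMul, hy, neg_one_mul]
  simp only [binQF_apply] at hN
  simp only [plusQF_apply, Cfsg.quadFormPlus, hTl, hTr, Fin.sum_univ_two, minusQF_apply,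
    Cfsg.quadFormMinus, Finset.univ_eq_empty, Finset.sum_empty, zero_add]
  show (π x.1 0 - M (π x.2) 0) * (π x.1 0 + M (π x.2) 0 + a / 2 * (π x.1 1 + M (π x.2) 1)) +
      (π x.1 1 - M (π x.2) 1) * (a / 2 * (π x.1 0 + M (π x.2) 0) + b * (π x.1 1 + M (π x.2) 1)) = _
  simp only [π, LinearMap.funLeft_apply] at hN ⊢
  field_simp
  linear_combination -2 * hN

theorem lcm_eq_half {a b : ℕ} (ha : Even a) (hb : Even b) (h : Nat.gcd a b ∣ 2) :
    Nat.lcm a b = a * b / 2 := by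
  have h2 : Nat.gcd a b = 2 := Nat.dvd_antisymm h (Nat.dvd_gcd ha.two_dvd hb.two_dvd)
  rw [Nat.lcm, h2]

theorem gcd_pow_sub_one_pow_add_one {a i j : ℕ} (ha : 1 ≤ a) (h : i ∣ j) :
    Nat.gcd (a ^ i - 1) (a ^ j + 1) ∣ 2 := by
  obtain ⟨c, rfl⟩ := h
  have h1 := Nat.gcd_dvd_left (a ^ i - 1) (a ^ (i * c) + 1)
  have h2 := Nat.gcd_dvd_right (a ^ i - 1) (a ^ (i * c) + 1)
  have h3 : a ^ i - 1 ∣ a ^ (i * c) - 1 := by
    rw [pow_mul]
    simpa using Nat.sub_dvd_pow_sub_pow (a ^ i) 1 c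
  have h4 := Nat.dvd_sub h2 (h1.trans h3)
  rwa [show a ^ (i * c) + 1 - (a ^ (i * c) - 1) = 2 by
    have := Nat.one_le_pow (i * c) a ha; omega] at h4

theorem gcd_pow_sub_one_add_one {a j : ℕ} (ha : 1 ≤ a) (h : Odd j) :
    Nat.gcd (a ^ j - 1) (a + 1) ∣ 2 := by
  have h1 := Nat.gcd_dvd_left (a ^ j - 1) (a + 1)
  have h2 := Nat.gcd_dvd_right (a ^ j - 1) (a + 1)
  have h3 : a + 1 ∣ a ^ j + 1 := by
    simpa using (h.nat_add_dvd_pow_add_pow (x := a) (y := 1))
  have h4 := Nat.dvd_sub (h2.trans h3) h1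
  rwa [show a ^ j + 1 - (a ^ j - 1) = 2 by
    have := Nat.one_le_pow j a ha; omega] at h4

theorem orderOf_mul_self_half {G : Type*} [Group G] {g : G} {n : ℕ} (h : orderOf g = n) (hn : Even n) :
    orderOf (g * g) = n / 2 := by
  rw [← pow_two, orderOf_pow' g two_ne_zero, h, Nat.gcd_eq_right hn.two_dvd]

/-- All the orders. -/
theorem inBoth_orders {p : ℕ} [Fact p.Prime] [CharP F p] (hp : p ≠ 2) {a b : F}
    (hab : BinaryAniso a b) :
    ∀ N ∈ omegaNineOrders q p, InBoth (minusQF 3 a b) N := by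
  classical
  have h2 : (2 : F) ≠ 0 := Ring.two_ne_zero (by rw [ringChar.eq F p]; exact hp)
  have hodd : Odd q := Nat.odd_iff.2 (FiniteField.odd_card_of_char_ne_two (by
    rw [ringChar.eq F p]; exact hp))
  have hq : 1 ≤ q := Fintype.card_pos
  have hB : BNondeg (minusQF 3 a b) := bNondeg_minusQF_odd h2 3 hab
  have hP : ∀ m, BNondeg (plusQF m F) := fun _ => bNondeg_plusQF
  have hM : ∀ m, BNondeg (minusQF m a b) := fun m => bNondeg_minusQF_odd h2 m hab
  have hx : ∀ {U : Type _} [AddCommGroup U] [Module F U] [FiniteDimensional F U]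
      (R : QuadraticForm F U), OrthGen.NotExceptional R := fun R => notExceptional_odd h2
  have evp : ∀ k, Even (q ^ k + 1) := fun k => hodd.pow.add_one
  have evm : ∀ k, Even (q ^ k - 1) := fun k => hodd.pow.tsub_odd odd_one
  have hco : ∀ {n : ℕ} {i : ℕ}, i ≠ 0 → (n ∣ q ^ i - 1 ∨ n ∣ q ^ i + 1) → p.Coprime n := by
    intro n i hi h
    have hpq : p ∣ q ^ i := by
      obtain ⟨f, -, hf⟩ := FiniteField.card F p
      rw [hf, ← pow_mul]
      exact dvd_pow_self p (Nat.mul_ne_zero f.ne_zero hi)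
    refine ((Fact.out : p.Prime).coprime_iff_not_dvd).2 fun hn => ?_
    have h1 : p ∣ 1 := by
      rcases h with h | h
      · have := Nat.dvd_sub hpq (hn.trans h)
        rwa [show q ^ i - (q ^ i - 1) = 1 by have := Nat.one_le_pow i q hq; omega] at this
      · exact (Nat.dvd_add_right hpq).1 (hn.trans h)
    exact (Fact.out : p.Prime).one_lt.ne' (Nat.dvd_one.1 h1)
  obtain ⟨s1, hs1, ts1⟩ := exists_twisted_plus_torus (F := F) h2 1
  obtain ⟨s2, hs2, ts2⟩ := exists_twisted_plus_torus (F := F) h2 2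
  obtain ⟨s3, hs3, ts3⟩ := exists_twisted_plus_torus (F := F) h2 3
  obtain ⟨t0, ht0, tt0⟩ := exists_twisted_minus_torus h2 0 hab
  obtain ⟨t1, ht1, tt1⟩ := exists_twisted_minus_torus h2 1 hab
  obtain ⟨t2, ht2, tt2⟩ := exists_twisted_minus_torus h2 2 hab
  obtain ⟨t3, ht3, -⟩ := exists_twisted_minus_torus h2 3 hab
  simp only [zero_add, Nat.reduceAdd] at ht0 ht1 ht2 ht3
  rw [pow_one] at hs1 ht0
  obtain ⟨eMM, hMM⟩ := exists_minusMinus_odd h2 hab
  -- decompositions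
  let e21 := plusMinus (F := F) 2 1
  let e12 := plusMinus (F := F) 1 2
  let e30 := plusMinus (F := F) 3 0
  have h21 : ∀ v, minusQF 3 a b (e21 v) = plusQF 2 F v.1 + minusQF 1 a b v.2 := plusMinus_spec 2 1 a b
  have h12 : ∀ v, minusQF 3 a b (e12 v) = plusQF 1 F v.1 + minusQF 2 a b v.2 := plusMinus_spec 1 2 a b
  have h30 : ∀ v, minusQF 3 a b (e30 v) = plusQF 3 F v.1 + minusQF 0 a b v.2 := plusMinus_spec 3 0 a b
  have hfr : ∀ m, finrank F (Fin m ⊕ Fin m → F) = 2 * m := fun m => by simp; ring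
  have hfr' : ∀ m, finrank F ((Fin m ⊕ Fin m) ⊕ Fin 2 → F) = 2 * (m + 1) := fun m => by simp; ring
  intro N hN
  simp only [omegaNineOrders, Finset.mem_insert, Finset.mem_singleton] at hN
  rcases hN with rfl | rfl | rfl | rfl | rfl | rfl | rfl | rfl | rfl | rfl | rfl | rfl | rfl | rfl |
    rfl | rfl
  · -- `(q⁴ + 1) / 2`
    rw [← orderOf_mul_self_half ht3 (evp 4)]
    exact inBoth_of_mem (mul_self_mem_commutator hB (hx _) t3)
  · -- `(q⁴ - 1) / 2`
    have ho : orderOf (sumHom (e21) h21 (s2, t1)) = (q ^ 4 - 1) / 2 := by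
      rw [orderOf_sumHom, hs2, ht1, lcm_eq_half (evm 2) (evp 2)
        (gcd_pow_sub_one_pow_add_one hq dvd_rfl), four_sub_one, mul_comm]
    rw [← ho]
    exact inBoth_of_mem (sumHom_mem_of_twisted h2 (hP 2) (hM 1) hB e21 h21 ts2 tt1)
  · -- `(q³ + 1)(q - 1) / 2`
    have ho : orderOf (sumHom (e12) h12 (s1, t2)) = (q ^ 3 + 1) * (q - 1) / 2 := by
      rw [orderOf_sumHom, hs1, ht2, lcm_eq_half (by simpa using evm 1) (evp 3)
        (by simpa using gcd_pow_sub_one_pow_add_one (i := 1) (j := 3) hq (one_dvd _)), mul_comm]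
    rw [← ho]
    exact inBoth_of_mem (sumHom_mem_of_twisted h2 (hP 1) (hM 2) hB e12 h12 ts1 tt2)
  · -- `(q³ - 1)(q + 1) / 2`
    have ho : orderOf (sumHom (e30) h30 (s3, t0)) = (q ^ 3 - 1) * (q + 1) / 2 := by
      rw [orderOf_sumHom, hs3, ht0, lcm_eq_half (evm 3) (by simpa using evp 1)
        (gcd_pow_sub_one_add_one hq (by decide))]
    rw [← ho]
    exact inBoth_of_mem (sumHom_mem_of_twisted h2 (hP 3) (hM 0) hB e30 h30 ts3 tt0)
  · -- `p (q³ + 1) / 2`
    have ho := orderOf_mul_self_half ht2 (evp 3)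
    rw [← ho]
    exact inBoth_mixed hp hB ((LinearEquiv.prodComm F _ _).trans e12)
      (R₁ := minusQF 2 a b) (R₂ := plusQF 1 F) (fun v => by
        rw [LinearEquiv.trans_apply, h12, add_comm]; rfl)
      (k := 1) le_rfl (hfr 1) (mul_self_mem_commutator (hM 2) (hx _) t2)
      (hco (i := 3) (by norm_num) (Or.inr (by rw [ho]; exact Nat.div_dvd_of_dvd (evp 3).two_dvd)))
  · -- `p (q³ - 1) / 2`
    have ho := orderOf_mul_self_half hs3 (evm 3)
    rw [← ho]
    exact inBoth_mixed hp hB e30 h30 (k := 1) le_rfl (hfr' 0)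
      (mul_self_mem_commutator (hP 3) (hx _) s3)
      (hco (i := 3) (by norm_num) (Or.inl (by rw [ho]; exact Nat.div_dvd_of_dvd (evm 3).two_dvd)))
  · -- `p (q² + 1)(q + 1) / 2`
    let R := (minusQF 1 a b).prod (minusQF 0 a b)
    have hR : BNondeg R := bNondeg_prod (hM 1) (hM 0)
    let T : OQ R := sumHom (LinearEquiv.refl F _) (fun _ => QuadraticMap.prod_apply _ _ _) (t1, t0)
    have ho : orderOf T = (q ^ 2 + 1) * (q + 1) / 2 := by
      refine (orderOf_sumHom _ _ _).trans ?_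
      rw [ht1, ht0, lcm_eq_half (evp 2) (by simpa using evp 1)
        (by
          rw [Nat.gcd_comm]
          refine (Nat.gcd_dvd_gcd_of_dvd_left _ ?_).trans
            (gcd_pow_sub_one_pow_add_one (i := 2) (j := 2) hq dvd_rfl)
          rw [two_sub_one]
          exact dvd_mul_right _ _)]
    have hT : T ∈ commutator (OQ R) :=
      sumHom_mem_of_twisted h2 (hM 1) (hM 0) hR _ _ tt1 tt0
    let e : ((((Fin 1 ⊕ Fin 1) ⊕ Fin 2 → F) × ((Fin 0 ⊕ Fin 0) ⊕ Fin 2 → F)) ×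
        ((Fin 0 ⊕ Fin 0) ⊕ Fin 2 → F)) ≃ₗ[F] ((Fin 3 ⊕ Fin 3) ⊕ Fin 2 → F) :=
      (((LinearEquiv.prodAssoc F _ _ _).trans
        ((LinearEquiv.refl F _).prodCongr eMM)).trans (LinearEquiv.prodComm F _ _)).trans e21
    rw [← ho]
    refine inBoth_mixed hp hB e (R₂ := minusQF 0 a b) (fun v => ?_) (k := 1) le_rfl (hfr' 0) hT ?_
    · show minusQF 3 a b (e21 (eMM (v.1.2, v.2), v.1.1)) = (minusQF 1 a b v.1.1 + minusQF 0 a b v.1.2) + _
      rw [h21, hMM]
      ring
    · refine Nat.Coprime.coprime_dvd_right (orderOf_dvd_of_pow_eq_one (n := (q ^ 2 + 1) * (q + 1)) ?_)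
        (Nat.Coprime.mul_right (hco (i := 2) two_ne_zero (Or.inr dvd_rfl))
          (hco (i := 1) one_ne_zero (Or.inr (by simp))))
      refine orderOf_dvd_iff_pow_eq_one.1 ?_
      rw [ho]
      exact Nat.div_dvd_of_dvd (dvd_mul_of_dvd_left (evp 2).two_dvd _)
  · -- `p (q² + 1)(q - 1) / 2`
    let R := (minusQF 1 a b).prod (plusQF 1 F)
    have hR : BNondeg R := bNondeg_prod (hM 1) (hP 1)
    let T : OQ R := sumHom (LinearEquiv.refl F _) (fun _ => QuadraticMap.prod_apply _ _ _) (t1, s1)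
    have ho : orderOf T = (q ^ 2 + 1) * (q - 1) / 2 := by
      refine (orderOf_sumHom _ _ _).trans ?_
      rw [ht1, hs1, lcm_eq_half (evp 2) (by simpa using evm 1)
        (by
          rw [Nat.gcd_comm]
          simpa using gcd_pow_sub_one_pow_add_one (i := 1) (j := 2) hq (one_dvd _))]
    have hT : T ∈ commutator (OQ R) :=
      sumHom_mem_of_twisted h2 (hM 1) (hP 1) hR _ _ tt1 ts1
    let e : ((((Fin 1 ⊕ Fin 1) ⊕ Fin 2 → F) × (Fin 1 ⊕ Fin 1 → F)) × (Fin 1 ⊕ Fin 1 → F)) ≃ₗ[F]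
        ((Fin 3 ⊕ Fin 3) ⊕ Fin 2 → F) :=
      (((LinearEquiv.prodAssoc F _ _ _).trans
        ((LinearEquiv.refl F _).prodCongr (plusPlus 1 1))).trans (LinearEquiv.prodComm F _ _)).trans e21
    rw [← ho]
    refine inBoth_mixed hp hB e (R₂ := plusQF 1 F) (fun v => ?_) (k := 1) le_rfl (hfr 1) hT ?_
    · show minusQF 3 a b (e21 (plusPlus 1 1 (v.1.2, v.2), v.1.1)) =
        (minusQF 1 a b v.1.1 + plusQF 1 F v.1.2) + _
      rw [h21]
      show plusQF (1 + 1) F (plusPlus 1 1 (v.1.2, v.2)) + minusQF 1 a b v.1.1 = _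
      rw [plusPlus_spec]
      ring
    · refine Nat.Coprime.coprime_dvd_right (orderOf_dvd_of_pow_eq_one (n := (q ^ 2 + 1) * (q - 1)) ?_)
        (Nat.Coprime.mul_right (hco (i := 2) two_ne_zero (Or.inr dvd_rfl))
          (hco (i := 1) one_ne_zero (Or.inl (by simp))))
      refine orderOf_dvd_iff_pow_eq_one.1 ?_
      rw [ho]
      exact Nat.div_dvd_of_dvd (dvd_mul_of_dvd_left (evp 2).two_dvd _)
  · -- `p (q² - 1)`
    let R := (plusQF 2 F).prod (plusQF 1 F)
    have hR : BNondeg R := bNondeg_prod (hP 2) (hP 1)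
    let T : OQ R := sumHom (LinearEquiv.refl F _) (fun _ => QuadraticMap.prod_apply _ _ _) (s2, s1)
    have ho : orderOf T = q ^ 2 - 1 := by
      refine (orderOf_sumHom _ _ _).trans ?_
      rw [hs2, hs1]
      exact Nat.lcm_eq_left (by rw [two_sub_one]; exact dvd_mul_left _ _)
    have hT : T ∈ commutator (OQ R) :=
      sumHom_mem_of_twisted h2 (hP 2) (hP 1) hR _ _ ts2 ts1
    rw [← ho]
    refine inBoth_mixed hp hB (((plusPlus 2 1).prodCongr (LinearEquiv.refl F _)).trans e30)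
      (R₂ := minusQF 0 a b) (fun v => ?_) (k := 1) le_rfl (hfr' 0) hT
      (hco (i := 2) two_ne_zero (Or.inl (by rw [ho])))
    show minusQF 3 a b (e30 (plusPlus 2 1 v.1, v.2)) = (plusQF 2 F v.1.1 + plusQF 1 F v.1.2) + _
    rw [h30]
    show plusQF (2 + 1) F (plusPlus 2 1 v.1) + minusQF 0 a b v.2 = _
    rw [plusPlus_spec]
  · -- `e₅ (q² + 1) / 2`
    have ho := orderOf_mul_self_half ht1 (evp 2)
    rw [← ho]
    exact inBoth_mixed hp hB ((LinearEquiv.prodComm F _ _).trans e21)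
      (R₁ := minusQF 1 a b) (R₂ := plusQF 2 F) (fun v => by
        rw [LinearEquiv.trans_apply, h21, add_comm]; rfl)
      (k := 2) (by norm_num) (hfr 2) (mul_self_mem_commutator (hM 1) (hx _) t1)
      (hco (i := 2) two_ne_zero (Or.inr (by rw [ho]; exact Nat.div_dvd_of_dvd (evp 2).two_dvd)))
  · -- `e₅ (q² - 1) / 2`
    have ho := orderOf_mul_self_half hs2 (evm 2)
    rw [← ho]
    exact inBoth_mixed hp hB e21 h21 (k := 2) (by norm_num) (hfr' 1)
      (mul_self_mem_commutator (hP 2) (hx _) s2)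
      (hco (i := 2) two_ne_zero (Or.inl (by rw [ho]; exact Nat.div_dvd_of_dvd (evm 2).two_dvd)))
  · -- `e₅ (q + 1)`
    let R := (minusQF 0 a b).prod (minusQF 0 a b)
    have hR : BNondeg R := bNondeg_prod (hM 0) (hM 0)
    let T : OQ R := sumHom (LinearEquiv.refl F _) (fun _ => QuadraticMap.prod_apply _ _ _) (t0, t0)
    have ho : orderOf T = q + 1 := by
      refine (orderOf_sumHom _ _ _).trans ?_
      rw [ht0, Nat.lcm_self]
    have hT : T ∈ commutator (OQ R) :=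
      sumHom_mem_of_twisted h2 (hM 0) (hM 0) hR _ _ tt0 tt0
    rw [← ho]
    refine inBoth_mixed hp hB ((eMM.prodCongr (LinearEquiv.refl F _)).trans e21)
      (R₂ := minusQF 1 a b) (fun v => ?_) (k := 2) (by norm_num) (hfr' 1) hT
      (hco (i := 1) one_ne_zero (Or.inr (by rw [ho]; simp)))
    show minusQF 3 a b (e21 (eMM v.1, v.2)) = (minusQF 0 a b v.1.1 + minusQF 0 a b v.1.2) + _
    rw [h21, hMM]
  · -- `e₅ (q - 1)`
    let R := (plusQF 1 F).prod (plusQF 1 F)
    have hR : BNondeg R := bNondeg_prod (hP 1) (hP 1)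
    let T : OQ R := sumHom (LinearEquiv.refl F _) (fun _ => QuadraticMap.prod_apply _ _ _) (s1, s1)
    have ho : orderOf T = q - 1 := by
      refine (orderOf_sumHom _ _ _).trans ?_
      rw [hs1, Nat.lcm_self]
    have hT : T ∈ commutator (OQ R) :=
      sumHom_mem_of_twisted h2 (hP 1) (hP 1) hR _ _ ts1 ts1
    rw [← ho]
    refine inBoth_mixed hp hB (((plusPlus 1 1).prodCongr (LinearEquiv.refl F _)).trans e21)
      (R₂ := minusQF 1 a b) (fun v => ?_) (k := 2) (by norm_num) (hfr' 1) hT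
      (hco (i := 1) one_ne_zero (Or.inl (by rw [ho]; simp)))
    show minusQF 3 a b (e21 (plusPlus 1 1 v.1, v.2)) = (plusQF 1 F v.1.1 + plusQF 1 F v.1.2) + _
    rw [h21]
    show plusQF (1 + 1) F (plusPlus 1 1 v.1) + minusQF 1 a b v.2 = _
    rw [plusPlus_spec]
  · -- `e₇ (q + 1) / 2`
    have ho := orderOf_mul_self_half ht0 (by simpa using evp 1)
    rw [← ho]
    exact inBoth_mixed hp hB ((LinearEquiv.prodComm F _ _).trans e30)
      (R₁ := minusQF 0 a b) (R₂ := plusQF 3 F) (fun v => by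
        rw [LinearEquiv.trans_apply, h30, add_comm]; rfl)
      (k := 3) (by norm_num) (hfr 3) (mul_self_mem_commutator (hM 0) (hx _) t0)
      (hco (i := 1) one_ne_zero (Or.inr (by
        rw [ho, pow_one]; exact Nat.div_dvd_of_dvd (by simpa using (evp 1).two_dvd))))
  · -- `e₇ (q - 1) / 2`
    have ho := orderOf_mul_self_half hs1 (by simpa using evm 1)
    rw [← ho]
    exact inBoth_mixed hp hB e12 h12 (k := 3) (by norm_num) (hfr' 2)
      (mul_self_mem_commutator (hP 1) (hx _) s1)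
      (hco (i := 1) one_ne_zero (Or.inl (by
        rw [ho, pow_one]; exact Nat.div_dvd_of_dvd (by simpa using (evm 1).two_dvd))))
  · -- `e₉`
    let e : ((Fin 0 → F) × ((Fin 3 ⊕ Fin 3) ⊕ Fin 2 → F)) ≃ₗ[F] ((Fin 3 ⊕ Fin 3) ⊕ Fin 2 → F) :=
      LinearEquiv.ofLinearMap (LinearMap.snd F _ _) (LinearMap.inr F _ _) (LinearMap.ext fun _ => rfl)
        (LinearMap.ext fun v => Prod.ext (Subsingleton.elim _ _) rfl)
    have := inBoth_mixed hp hB e (R₁ := (0 : QuadraticForm F (Fin 0 → F))) (R₂ := minusQF 3 a b)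
      (fun v => by
        show minusQF 3 a b v.2 = 0 + minusQF 3 a b v.2
        rw [zero_add])
      (k := 4) (by norm_num) (hfr' 3) (t₀ := 1) (one_mem _) (by rw [orderOf_one]; exact Nat.coprime_one_right _)
    rwa [orderOf_one, mul_one] at this

end Cfsg.Agent.RecogA
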