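/-!
A finite search for the numbers of elements of given order.
-/

namespace Cfsg.Agent.RecogA

/-- The sum of the values at the divisors of `k`. -/
def sumDvd (S : List (Nat × Nat)) (k : Nat) : Nat :=
  S.foldr (fun t acc => if Nat.beq (k % t.1) 0 then t.2 + acc else acc) 0

/-- The total of a table. -/
def sumAll (S : List (Nat × Nat)) : Nat := S.foldr (fun t acc => t.2 + acc) 0

/-- Membership of a key. -/
def hasKey (S : List (Nat × Nat)) (e : Nat) : Bool := S.any fun t => Nat.beq t.1 e

/-- The conditions on a complete table. -/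
def leafCond (vals ks ps : List Nat) (S : List (Nat × Nat)) : Bool :=
  vals.all (fun v => S.any fun t => Nat.beq t.2 v) &&
    S.all (fun t => Nat.beq (sumAll S % t.1) 0) &&
    Nat.beq (((ps.filter (hasKey S)).foldr (fun p acc => p * acc) 1) ^ 20 % sumAll S) 0 &&
    ks.all (fun k => Nat.beq (sumDvd S k % Nat.gcd k (sumAll S)) 0)

/-- The search: every consistent table is the target. -/
def nseSearch (vals ks ps : List Nat) (target : List (Nat × Nat)) :
    List (Nat × List Nat × List Nat) → List (Nat × Nat) → Bool
  | [], S => !(leafCond vals ks ps S) || decide (S = target)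
  | (m, facets, L) :: rest, S =>
    nseSearch vals ks ps target rest S &&
      (!(facets.all (hasKey S)) ||
        L.all fun v => !(Nat.beq ((sumDvd S m + v) % m) 0) ||
          nseSearch vals ks ps target rest ((m, v) :: S))

/-- Candidates for `A4`: order, maximal proper divisors, possible values. -/
def nseTableFour : List (Nat × List Nat × List Nat) :=
  [(3, [1], [8]), (4, [2], [8]), (6, [3, 2], [8]),
    (8, [4], [8]), (12, [6, 4], [8]), (16, [8], [8]),
    (24, [12, 8], [8])]

/-- Candidates for `A5`. -/
def nseTableFive : List (Nat × List Nat × List Nat) :=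
  [(3, [1], [20, 24]), (4, [2], [20, 24]), (5, [1], [20, 24]),
    (6, [3, 2], [20, 24]), (8, [4], [20, 24]), (9, [3], [24]),
    (10, [5, 2], [20, 24]), (12, [6, 4], [20, 24]), (15, [5, 3], [24]),
    (16, [8], [24]), (18, [9, 6], [24]), (20, [10, 4], [24]),
    (24, [12, 8], [24]), (25, [5], [20]), (30, [15, 10, 6], [24]),
    (36, [18, 12], [24]), (45, [15, 9], [24]), (50, [25, 10], [20]),
    (72, [36, 24], [24]), (90, [45, 30, 18], [24])]

/-- Candidates for `A6`. -/
def nseTableSix : List (Nat × List Nat × List Nat) :=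
  [(3, [1], [80, 90, 144]), (4, [2], [80, 90, 144]), (5, [1], [80, 144]),
    (6, [3, 2], [80, 90, 144]), (7, [1], [90, 144]), (8, [4], [80, 144]),
    (9, [3], [90, 144]), (10, [5, 2], [80, 144]), (12, [6, 4], [80, 144]),
    (14, [7, 2], [90, 144]), (15, [5, 3], [80, 144]), (16, [8], [80, 144]),
    (18, [9, 6], [90, 144]), (20, [10, 4], [80, 144]), (21, [7, 3], [144]),
    (24, [12, 8], [80, 144]), (25, [5], [80]), (27, [9], [90, 144]),
    (28, [14, 4], [144]), (30, [15, 10, 6], [80, 144]), (32, [16], [80, 144]),
    (35, [7, 5], [144]), (36, [18, 12], [144]), (40, [20, 8], [80, 144]),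
    (42, [21, 14, 6], [144]), (45, [15, 9], [144]), (48, [24, 16], [80, 144]),
    (50, [25, 10], [80]), (54, [27, 18], [90, 144]), (56, [28, 8], [144]),
    (60, [30, 20, 12], [80, 144]), (63, [21, 9], [144]), (70, [35, 14, 10], [144]),
    (72, [36, 24], [144]), (75, [25, 15], [80]), (84, [42, 28, 12], [144]),
    (90, [45, 30, 18], [144]), (100, [50, 20], [80]), (105, [35, 21, 15], [144]),
    (108, [54, 36], [144]), (112, [56, 16], [144]), (126, [63, 42, 18], [144]),
    (135, [45, 27], [144]), (140, [70, 28, 20], [144]), (144, [72, 48], [144]),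
    (150, [75, 50, 30], [80]), (168, [84, 56, 24], [144]), (180, [90, 60, 36], [144]),
    (200, [100, 40], [80]), (210, [105, 70, 42, 30], [144]), (216, [108, 72], [144]),
    (252, [126, 84, 36], [144]), (270, [135, 90, 54], [144]), (300, [150, 100, 60], [80]),
    (315, [105, 63, 45], [144]), (432, [216, 144], [144]), (504, [252, 168, 72], [144]),
    (540, [270, 180, 108], [144]), (630, [315, 210, 126, 90], [144])]

/-- The moduli for Frobenius's theorem. -/
def nseModuli (ps : List Nat) (table : List (Nat × List Nat × List Nat)) : List Nat :=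
  table.map (fun t => t.1) ++ ps.map (fun p => p ^ 12)

theorem nseSearch_four :
    nseSearch [8] (nseModuli [2, 3] nseTableFour) [2, 3] [(3, 8), (2, 3), (1, 1)] nseTableFour
      [(2, 3), (1, 1)] = true := by
  decide +kernel

theorem nseSearch_five :
    nseSearch [20, 24] (nseModuli [2, 3, 5] nseTableFive) [2, 3, 5]
      [(5, 24), (3, 20), (2, 15), (1, 1)] nseTableFive [(2, 15), (1, 1)] = true := by
  decide +kernel

theorem nseSearch_six :
    nseSearch [80, 90, 144] (nseModuli [2, 3, 5, 7] nseTableSix) [2, 3, 5, 7]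
      [(5, 144), (4, 90), (3, 80), (2, 45), (1, 1)] nseTableSix [(2, 45), (1, 1)] = true := by
  decide +kernel

end Cfsg.Agent.RecogA
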