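import Cfsg.Agent.RecogA.ModuleExtension
import Cfsg.Agent.Forms.OmegaCrit

/-!
Elements of orders four and eight in orthogonal groups in characteristic two, and in extensions
of the natural module.
-/

set_option autoImplicit false
set_option linter.unusedSectionVars false

namespace Cfsg.Agent.RecogA

open QuadraticMap Cfsg.Agent.Classical

variable {F : Type*} [Field F] {V : Type*} [AddCommGroup V] [Module F V]
  {Q : QuadraticForm F V}

theorem siegel_congr {u u' a a' : V} (hu : Q u = 0) (ha : polar Q u a = 0) (hu' : Q u' = 0)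
    (ha' : polar Q u' a' = 0) (h1 : u = u') (h2 : a = a') :
    siegel Q hu ha = siegel Q hu' ha' := by
  subst h1; subst h2; rfl

theorem commute_reflQ_of_fixed {t : OQ Q} {x : V} (hx : Q x ≠ 0) (h : t.1 x = x) :
    Commute t (reflQ Q x hx) := by
  have h1 := reflQ_conj Q t x hx (by rw [h]; exact hx)
  rw [OrthGen.reflQ_congr Q h _ hx] at h1
  exact mul_inv_eq_iff_eq_mul.1 h1

theorem commute_siegel_of_fixed {t : OQ Q} {u a : V} (hu : Q u = 0) (ha : polar Q u a = 0)
    (h1 : t.1 u = u) (h2 : t.1 a = a) : Commute t (siegel Q hu ha) := by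
  have h := siegel_conj Q t hu ha
  rw [siegel_congr _ _ hu ha h1 h2] at h
  exact mul_inv_eq_iff_eq_mul.1 h

variable [CharP F 2]

variable (F) in
include F in
theorem vec_add_self (v : V) : v + v = 0 := by
  rw [← two_smul F v, CharTwo.two_eq_zero, zero_smul]

theorem polar_self_even (x : V) : polar Q x x = 0 := by
  rw [OrthGen.polar_self_two, CharTwo.two_eq_zero, zero_mul]

variable (F) in
include F in
theorem sub_eq_add_even (v w : V) : v - w = v + w := by
  rw [sub_eq_iff_eq_add, add_assoc, vec_add_self F, add_zero]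

theorem siegel_sq_eq_one {u a : V} (hu : Q u = 0) (ha : polar Q u a = 0) :
    siegel Q hu ha * siegel Q hu ha = 1 := by
  rw [siegel_mul]
  ext v
  simp [vec_add_self F]

/-- A hyperbolic pair with two vectors `a`, `w` orthogonal to it, `a` non-singular and `w` not
orthogonal to `a`. -/
structure SiegelConfig (Q : QuadraticForm F V) (u y a w : V) : Prop where
  qu : Q u = 0
  qy : Q y = 0
  uy : polar Q u y = 1
  ua : polar Q u a = 0
  ya : polar Q y a = 0
  uw : polar Q u w = 0
  yw : polar Q y w = 0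
  qa : Q a ≠ 0
  aw : polar Q a w ≠ 0

namespace SiegelConfig

variable {u y a w : V} (h : SiegelConfig Q u y a w)

/-- The element of order four. -/
noncomputable def elt : OQ Q := siegel Q h.qu h.uw * reflQ Q a h.qa

include h in
theorem conj_coeff : w + (reflQ Q a h.qa).1 w = ((Q a)⁻¹ * polar Q a w) • a := by
  rw [reflQ_apply, sub_eq_add_even F, ← add_assoc, vec_add_self F, zero_add]

theorem elt_mul_self : h.elt * h.elt =
    siegel Q h.qu (show polar Q u (((Q a)⁻¹ * polar Q a w) • a) = 0 by
      rw [polar_smul_right, h.ua, smul_zero]) := by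
  have hru : (reflQ Q a h.qa).1 u = u := OrthGen.reflQ_fix Q h.qa (by rw [polar_comm, h.ua])
  have h1 := siegel_conj Q (reflQ Q a h.qa) h.qu h.uw
  rw [reflQ_inv] at h1
  rw [elt, show siegel Q h.qu h.uw * reflQ Q a h.qa * (siegel Q h.qu h.uw * reflQ Q a h.qa) =
    siegel Q h.qu h.uw * (reflQ Q a h.qa * siegel Q h.qu h.uw * reflQ Q a h.qa) by group, h1,
    siegel_congr _ _ h.qu (show polar Q u ((reflQ Q a h.qa).1 w) = 0 by
      conv_lhs => arg 2; rw [← hru]
      rw [OQ_polar, h.uw]) hru rfl, siegel_mul]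
  exact siegel_congr _ _ _ _ rfl h.conj_coeff

include h in
theorem coeff_ne_zero : (Q a)⁻¹ * polar Q a w ≠ 0 := mul_ne_zero (inv_ne_zero h.qa) h.aw

theorem elt_sq_apply : (h.elt * h.elt).1 y = y + ((Q a)⁻¹ * polar Q a w) • a -
    (Q (((Q a)⁻¹ * polar Q a w) • a)) • u := by
  rw [elt_mul_self, siegel_apply, h.uy, polar_smul_left, polar_comm Q a y, h.ya]
  simp

theorem elt_sq_moves : (h.elt * h.elt).1 y ≠ y := by
  intro e
  rw [elt_sq_apply] at e
  have := congrArg (fun v => polar Q v w) e
  simp only [polar_sub_left, polar_add_left, polar_smul_left, h.uw, h.yw, smul_eq_mul] at this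
  rw [mul_zero, sub_zero, zero_add, mul_eq_zero] at this
  exact this.elim h.coeff_ne_zero h.aw

theorem elt_pow_four : h.elt ^ 4 = 1 := by
  rw [show (4 : ℕ) = 2 * 2 from rfl, pow_mul, pow_two, pow_two, elt_mul_self, siegel_sq_eq_one]

theorem orderOf_elt : orderOf h.elt = 4 := by
  have : orderOf h.elt = 2 ^ (1 + 1) := by
    refine orderOf_eq_prime_pow (fun e => h.elt_sq_moves ?_) h.elt_pow_four
    rw [pow_one, pow_two] at e
    rw [e]; rfl
  exact this

theorem commute_elt {t : OQ Q} (hu : t.1 u = u) (ha : t.1 a = a) (hw : t.1 w = w) :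
    Commute t h.elt :=
  (commute_siegel_of_fixed _ _ hu hw).mul_right (commute_reflQ_of_fixed _ ha)

theorem elt_apply : h.elt.1 y = y + w - Q w • u := by
  rw [elt, Subgroup.coe_mul, LinearEquiv.mul_apply,
    OrthGen.reflQ_fix Q h.qa (show polar Q a y = 0 by rw [polar_comm, h.ya]), siegel_apply, h.uy,
    polar_comm Q w y, h.yw]
  simp

/-- The sum of the four powers, at `y`. -/
theorem elt_sum : y + h.elt.1 y + (h.elt * h.elt).1 y + (h.elt * h.elt).1 (h.elt.1 y) =
    ((Q a)⁻¹ * polar Q a w * polar Q a w) • u := by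
  rw [add_assoc (y + _), ← map_add, show y + h.elt.1 y = w + Q w • u by
      rw [h.elt_apply, sub_eq_add_even F, add_assoc y, ← add_assoc y y, vec_add_self F, zero_add],
    elt_mul_self, siegel_apply, polar_add_right, polar_smul_right, h.uw,
    polar_self_even, polar_add_right, polar_smul_left, polar_smul_right, polar_smul_left,
    polar_comm Q a u, h.ua]
  simp only [smul_eq_mul, mul_zero, zero_smul, add_zero, sub_zero]
  rw [sub_eq_add_even F, ← add_assoc, vec_add_self F, zero_add]

include h in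
theorem sum_coeff_ne_zero : ((Q a)⁻¹ * polar Q a w * polar Q a w) • u ≠ 0 := by
  refine smul_ne_zero (mul_ne_zero h.coeff_ne_zero h.aw) fun e => ?_
  have := h.uy
  rw [e, polar_zero_left] at this
  exact zero_ne_one this

end SiegelConfig

/-- An element of order two commuting with `t`. -/
theorem exists_order_two_mul (hB : BNondeg Q) {t : OQ Q} (hm : Odd (orderOf t)) {x : V} (hx : Q x ≠ 0)
    (htx : t.1 x = x) : ∃ g : OQ Q, orderOf g = 2 * orderOf t := by
  have h2 : orderOf (reflQ Q x hx) = 2 := by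
    refine orderOf_eq_prime (by rw [pow_two, reflQ_mul_self]) fun e => ?_
    refine absurd (hB x fun v => ?_) fun h => hx (by rw [h, map_zero])
    have hv := congrArg (fun g : OQ Q => g.1 v) e
    simp only [reflQ_apply] at hv
    have hv' : ((Q x)⁻¹ * polar Q x v) • x = 0 := by simpa using hv
    rcases smul_eq_zero.1 hv' with h | h
    · exact (mul_eq_zero.1 h).resolve_left (inv_ne_zero hx)
    · exact absurd (by rw [h, map_zero]) hx
  refine ⟨reflQ Q x hx * t, ?_⟩
  rw [(commute_reflQ_of_fixed hx htx).symm.orderOf_mul_eq_mul_orderOf_of_coprime, h2]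
  rw [h2]
  exact (Nat.coprime_two_left.2 hm)


/-- An element of order `4m` commuting with `t`. -/
theorem exists_order_four_mul {t : OQ Q} (hm : Odd (orderOf t)) {u y a w : V}
    (h : SiegelConfig Q u y a w) (htu : t.1 u = u) (hta : t.1 a = a) (htw : t.1 w = w) :
    ∃ g : OQ Q, orderOf g = 4 * orderOf t := by
  refine ⟨h.elt * t, ?_⟩
  rw [(h.commute_elt htu hta htw).symm.orderOf_mul_eq_mul_orderOf_of_coprime, h.orderOf_elt]
  rw [h.orderOf_elt]
  exact Nat.Coprime.pow_left 2 (Nat.coprime_two_left.2 hm)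

/-- An element of order eight commuting with `t`. -/
theorem exists_order_eight_mul {t : OQ Q} (hm : Odd (orderOf t)) {u y u' y' a w : V}
    (h : SiegelConfig Q u' y' a w) (hu : Q u = 0) (huy : polar Q u y = 1)
    (huu' : polar Q u u' = 0) (huy' : polar Q u y' = 0) (hua : polar Q u a = 0)
    (huw : polar Q u w = 0) (hyu' : polar Q y u' = 0) (ht0 : t.1 u = u) (ht1 : t.1 u' = u')
    (ht2 : t.1 y' = y') (hta : t.1 a = a) (htw : t.1 w = w) :
    ∃ g : OQ Q, orderOf g = 8 * orderOf t := by
  set σ := h.elt with hσ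
  have hσu : σ.1 u = u := by
    rw [hσ, SiegelConfig.elt, Subgroup.coe_mul, LinearEquiv.mul_apply,
      OrthGen.reflQ_fix Q h.qa (show polar Q a u = 0 by rw [polar_comm, hua]), siegel_apply,
      polar_comm Q u' u, huu', polar_comm Q w u, huw]
    simp
  have hperp : ∀ v, polar Q u v = 0 → polar Q u (σ.1 v) = 0 := fun v hv => by
    rw [← hσu, OQ_polar, hv]
  set z := siegel Q hu huy' * σ with hz
  have hcj : ∀ (v : V) (hv : polar Q u v = 0) (g : OQ Q), g.1 u = u →
      ∀ hv' : polar Q u (g.1 v) = 0,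
      g * siegel Q hu hv = siegel Q hu hv' * g := fun v hv g hg hv' => by
    have h1 := siegel_conj Q g hu hv
    rw [siegel_congr _ _ hu hv' hg rfl] at h1
    exact mul_inv_eq_iff_eq_mul.1 h1
  have h2u : (σ * σ).1 u = u := by rw [Subgroup.coe_mul, LinearEquiv.mul_apply, hσu, hσu]
  have hsum : polar Q u ((y' + σ.1 y') + (σ * σ).1 (y' + σ.1 y')) = 0 := by
    rw [polar_add_right, polar_add_right]
    rw [show polar Q u ((σ * σ).1 (y' + σ.1 y')) = 0 by
      conv_lhs => arg 2; rw [← h2u]
      rw [OQ_polar, polar_add_right, huy', hperp _ huy', add_zero]]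
    rw [huy', hperp _ huy', add_zero, add_zero]
  have hz2 : z * z = siegel Q hu (show polar Q u (y' + σ.1 y') = 0 by
      rw [polar_add_right, huy', hperp _ huy', add_zero]) * (σ * σ) := by
    rw [hz, mul_assoc, ← mul_assoc σ, hcj y' huy' σ hσu (hperp _ huy'), ← mul_assoc, ← mul_assoc,
      siegel_mul, mul_assoc]
  have h4 : σ * σ * (σ * σ) = 1 := by
    rw [← pow_two, ← pow_two, ← pow_mul]; exact h.elt_pow_four
  have hz4 : z ^ 4 = siegel Q hu hsum := by
    have hp : polar Q u (y' + σ.1 y') = 0 := by rw [polar_add_right, huy', hperp _ huy', add_zero]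
    have hp' : polar Q u ((σ * σ).1 (y' + σ.1 y')) = 0 := by
      conv_lhs => arg 2; rw [← h2u]
      rw [OQ_polar, hp]
    rw [show (4 : ℕ) = 2 * 2 from rfl, pow_mul, pow_two, pow_two, hz2, mul_assoc,
      ← mul_assoc (σ * σ), hcj _ hp (σ * σ) h2u hp', mul_assoc (siegel Q hu hp'), h4, mul_one,
      siegel_mul]
  have hS : (y' + σ.1 y') + (σ * σ).1 (y' + σ.1 y') =
      ((Q a)⁻¹ * polar Q a w * polar Q a w) • u' := by
    rw [map_add, ← add_assoc]
    exact h.elt_sum
  have hne : z ^ 4 ≠ 1 := fun e => by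
    have h1 : (z ^ 4).1 y = y := by rw [e]; rfl
    rw [hz4, siegel_congr _ _ hu (show polar Q u (((Q a)⁻¹ * polar Q a w * polar Q a w) • u') = 0 by
      rw [polar_smul_right, huu', smul_zero]) rfl hS, siegel_apply, huy, polar_smul_left,
      polar_comm Q u' y, hyu', QuadraticMap.map_smul, h.qu] at h1
    simp only [smul_eq_mul, mul_zero, zero_smul, zero_mul, sub_zero, one_smul, add_eq_left] at h1
    exact h.sum_coeff_ne_zero h1
  have ho : orderOf z = 2 ^ (2 + 1) := by
    refine orderOf_eq_prime_pow hne ?_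
    rw [show 2 ^ (2 + 1) = 4 * 2 from rfl, pow_mul, hz4, pow_two, siegel_sq_eq_one]
  have hc : Commute t z :=
    (commute_siegel_of_fixed _ _ ht0 ht2).mul_right (h.commute_elt ht1 hta htw)
  refine ⟨z * t, ?_⟩
  rw [hc.symm.orderOf_mul_eq_mul_orderOf_of_coprime, ho]
  · norm_num
  rw [ho]
  exact Nat.Coprime.pow_left _ (Nat.coprime_two_left.2 hm)

end Cfsg.Agent.RecogA
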