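import Cfsg.Agent.RecogA.Socle
import Cfsg.Agent.Perm.Regular

/-!
A simple factor `T` of a normal subgroup `M` of a transitive group, and the elements of `T`
induced by the intersection of `M` with a point stabilizer.
-/

namespace Cfsg.Agent.RecogA

open MulAction

set_option linter.style.haveILetI false

variable {G : Type*} [Group G]

theorem mul_conj_of_mem_centralizer {T : Subgroup G} {s t x : G} (hx : x ∈ T)
    (h : s⁻¹ * t ∈ Subgroup.centralizer (T : Set G)) : t * x * t⁻¹ = s * x * s⁻¹ := by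
  have e := Subgroup.mem_centralizer_iff.1 h x hx
  calc t * x * t⁻¹ = s * ((s⁻¹ * t) * x) * t⁻¹ := by group
    _ = s * (x * (s⁻¹ * t)) * t⁻¹ := by rw [← e]
    _ = s * x * s⁻¹ := by group

theorem centralizer_normalized {T : Subgroup G} {s c : G}
    (hs : s ∈ Subgroup.normalizer (T : Set G)) (hc : c ∈ Subgroup.centralizer (T : Set G)) :
    s * c * s⁻¹ ∈ Subgroup.centralizer (T : Set G) := by
  rw [Subgroup.mem_centralizer_iff]
  intro x hx
  have hx' : s⁻¹ * x * s ∈ T := by
    refine (Subgroup.mem_normalizer_iff.1 hs _).2 ?_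
    simpa [mul_assoc] using hx
  have e := Subgroup.mem_centralizer_iff.1 hc _ hx'
  calc x * (s * c * s⁻¹) = s * ((s⁻¹ * x * s) * c) * s⁻¹ := by group
    _ = s * (c * (s⁻¹ * x * s)) * s⁻¹ := by rw [e]
    _ = s * c * s⁻¹ * x := by group

theorem centralizer_le_normalizer (T : Subgroup G) :
    Subgroup.centralizer (T : Set G) ≤ Subgroup.normalizer (T : Set G) := by
  intro c hc
  rw [Subgroup.mem_normalizer_iff]
  intro x
  constructor
  · intro hx
    rwa [← Subgroup.mem_centralizer_iff.1 hc x hx, mul_inv_cancel_right]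
  · intro hx
    have h := Subgroup.mem_centralizer_iff.1 (inv_mem hc) _ hx
    have e : x = c * x * c⁻¹ := by
      calc x = c⁻¹ * (c * x * c⁻¹) * c := by group
        _ = (c * x * c⁻¹) * c⁻¹ * c := by rw [h]
        _ = c * x * c⁻¹ := by group
    exact e ▸ hx

theorem simple_inter_centralizer_eq_one {T : Subgroup G} [IsSimpleGroup T]
    (hT : ¬ IsMulCommutative T) {x : G} (hx : x ∈ T)
    (hxc : x ∈ Subgroup.centralizer (T : Set G)) : x = 1 := by
  have h : (⟨x, hx⟩ : T) ∈ Subgroup.center T := by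
    rw [Subgroup.mem_center_iff]
    exact fun y => Subtype.ext (Subgroup.mem_centralizer_iff.1 hxc y y.2)
  have hbot : Subgroup.center T = ⊥ :=
    ((inferInstance : (Subgroup.center T).Normal).eq_bot_or_eq_top).resolve_right fun h' => hT
      ⟨⟨fun a b => (Subgroup.mem_center_iff.1 (h' ▸ Subgroup.mem_top a) b).symm⟩⟩
  rw [hbot, Subgroup.mem_bot] at h
  exact congrArg Subtype.val h

/-- The elements of `T` acting on it like an element of `S`. -/
def covered (S T : Subgroup G) (hS : S ≤ Subgroup.normalizer (T : Set G)) : Subgroup G where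
  carrier := {t | t ∈ T ∧ ∃ s ∈ S, s⁻¹ * t ∈ Subgroup.centralizer (T : Set G)}
  one_mem' := ⟨one_mem _, 1, one_mem _, by simp [one_mem]⟩
  mul_mem' := by
    rintro a b ⟨ha, s, hs, hsa⟩ ⟨hb, s', hs', hsb⟩
    refine ⟨mul_mem ha hb, s * s', mul_mem hs hs', ?_⟩
    have h1 := centralizer_normalized (inv_mem (hS hs')) hsa
    have := mul_mem h1 hsb
    simpa [mul_assoc] using this
  inv_mem' := by
    rintro a ⟨ha, s, hs, hsa⟩
    refine ⟨inv_mem ha, s⁻¹, inv_mem hs, ?_⟩
    have := centralizer_normalized (hS hs) (inv_mem hsa)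
    simpa [mul_assoc] using this

theorem conj_mem_covered {S T : Subgroup G} (hS : S ≤ Subgroup.normalizer (T : Set G)) {t s : G}
    (ht : t ∈ covered S T hS) (hs : s ∈ S) : s * t * s⁻¹ ∈ covered S T hS := by
  obtain ⟨htT, s0, hs0, h⟩ := ht
  refine ⟨(Subgroup.mem_normalizer_iff.1 (hS hs) t).1 htT, s * s0 * s⁻¹,
    mul_mem (mul_mem hs hs0) (inv_mem hs), ?_⟩
  have := centralizer_normalized (hS hs) h
  simpa [mul_assoc] using this

/-- A simple factor whose automorphisms from a point stabilizer are all inner ones meets that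
stabilizer trivially. -/
theorem eq_one_of_mem_stabilizer {Ω : Type*} [MulAction G Ω] [FaithfulSMul G Ω]
    {M T : Subgroup G} [IsPretransitive M Ω] [IsSimpleGroup T] (hTM : T ≤ M)
    (hMT : M ≤ Subgroup.normalizer (T : Set G)) {α : Ω}
    (hcov : ∀ t ∈ T, ∃ s ∈ M ⊓ stabilizer G α, s⁻¹ * t ∈ Subgroup.centralizer (T : Set G))
    {x : G} (hxT : x ∈ T) (hxα : x • α = α) : x = 1 := by
  set R : Subgroup T := (stabilizer G α).subgroupOf T with hR
  haveI : R.Normal := by
    refine ⟨fun y hy t => ?_⟩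
    obtain ⟨s, hs, hst⟩ := hcov t t.2
    rw [hR, Subgroup.mem_subgroupOf] at hy ⊢
    have hconj : ((t * y * t⁻¹ : T) : G) = s * y * s⁻¹ := mul_conj_of_mem_centralizer y.2 hst
    rw [hconj]
    exact mul_mem (mul_mem (Subgroup.mem_inf.1 hs).2 hy) (inv_mem (Subgroup.mem_inf.1 hs).2)
  rcases (inferInstance : R.Normal).eq_bot_or_eq_top with h | h
  · have h1 : (⟨x, hxT⟩ : T) ∈ R := Subgroup.mem_subgroupOf.2 hxα
    rw [h, Subgroup.mem_bot] at h1
    exact congrArg Subtype.val h1
  · exfalso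
    have hTle : ∀ t ∈ T, t • α = α := fun t ht =>
      Subgroup.mem_subgroupOf.1 (h ▸ Subgroup.mem_top (⟨t, ht⟩ : T))
    have hTbot : T = ⊥ := PermLib.eq_bot_of_forall_smul (α := Ω) fun t ht b => by
      obtain ⟨⟨m, hm⟩, rfl⟩ := exists_smul_eq M α b
      have ht' : m⁻¹ * t * m ∈ T := by
        simpa using (Subgroup.mem_normalizer_iff.1 (hMT (inv_mem hm)) t).1 ht
      change t • m • α = m • α
      have e := hTle _ ht'
      rw [mul_smul, mul_smul, inv_smul_eq_iff] at e
      exact e
    exact (not_subsingleton_iff_nontrivial.2 (IsSimpleGroup.toNontrivial (G := T)))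
      (hTbot ▸ (inferInstance : Subsingleton (⊥ : Subgroup G)))

variable [Finite G] {N T : Subgroup G}

/-- Elements of `N` are products of elements of the simple factor and elements centralizing
it. -/
theorem exists_factor_mul_centralizer [N.Normal] (hTN : T ≤ N)
    (hdisj : ∀ g : G, cjg g T ≠ T → T ⊓ cjg g T = ⊥ ∧ ∀ a ∈ T, ∀ b ∈ cjg g T, Commute a b)
    (hsup : (⨆ g : G, cjg g T) = N) :
    ∀ n ∈ N, ∃ t ∈ T, t⁻¹ * n ∈ Subgroup.centralizer (T : Set G) := by
  intro n hn
  have hle : N ≤ T ⊔ Subgroup.centralizer (T : Set G) := by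
    rw [← hsup]
    refine iSup_le fun g => ?_
    by_cases h : cjg g T = T
    · rw [h]; exact le_sup_left
    · exact le_trans (fun x hx => Subgroup.mem_centralizer_iff.2
        fun a ha => ((hdisj g h).2 a ha x hx).eq) le_sup_right
  have h2 : n ∈ ((T ⊔ Subgroup.centralizer (T : Set G) : Subgroup G) : Set G) := hle hn
  rw [Subgroup.coe_mul_of_right_le_normalizer_left _ _ (centralizer_le_normalizer T)] at h2
  obtain ⟨t, ht, c, hc, rfl⟩ := Set.mem_mul.1 h2
  exact ⟨t, ht, by simpa using hc⟩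

end Cfsg.Agent.RecogA
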