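import Cfsg.Agent.RecogA.OcticOrders
import Cfsg.Agent.Linear.Symplectic

/-!
An upper bound for the element orders of `Sp(8, q)` and of `PSp(8, q)`, for even `q`.
-/

namespace Cfsg.Agent.RecogA

open Matrix Polynomial

variable {F : Type*} [Field F] [CharP F 2]

theorem coe_symplectic_charpolyRev {m : ℕ} (g : Matrix.symplecticGroup (Fin m) F) :
    (g : Matrix (Fin m ⊕ Fin m) (Fin m ⊕ Fin m) F).charpolyRev =
      (g : Matrix (Fin m ⊕ Fin m) (Fin m ⊕ Fin m) F).charpoly := by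
  set M : Matrix (Fin m ⊕ Fin m) (Fin m ⊕ Fin m) F := g.val with hM
  have hd : M.det = 1 := SymplecticGroup.det_eq_one g.2
  have hu : IsUnit M := (Matrix.isUnit_iff_isUnit_det _).2 (hd ▸ isUnit_one)
  have h1 := Matrix.charpoly_inv M hu
  rw [hd, Ring.inverse_one, map_one, mul_one, CharTwo.neg_eq, one_pow, one_mul] at h1
  rw [← h1, hM, ← SymplecticGroup.coe_inv', SymplecticGroup.coe_inv]
  have hJ : IsUnit (Matrix.J (Fin m) F) :=
    (Matrix.isUnit_iff_isUnit_det _).2 (Matrix.isUnit_det_J _ _)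
  obtain ⟨U, hU⟩ := hJ
  rw [← Matrix.J_inv, ← hU, Matrix.charpoly_units_conj', Matrix.charpoly_transpose]

theorem charpoly_symplectic_eight (g : Matrix.symplecticGroup (Fin 4) F) :
    let P := (g : Matrix (Fin 4 ⊕ Fin 4) (Fin 4 ⊕ Fin 4) F).charpoly
    P.Monic ∧ P.natDegree = 8 ∧ ∀ i, i ≤ 8 → P.coeff i = P.coeff (8 - i) := by
  intro P
  have hd : P.natDegree = 8 := by
    rw [Matrix.charpoly_natDegree_eq_dim]; simp
  refine ⟨Matrix.charpoly_monic _, hd, fun i hi => ?_⟩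
  have h : P.reverse = P := by
    show (Matrix.charpoly _).reverse = _
    rw [Matrix.reverse_charpoly, coe_symplectic_charpolyRev]
  conv_lhs => rw [← h]
  rw [Polynomial.coeff_reverse, hd, Polynomial.revAt_le hi]

theorem coe_symplectic_pow {m : ℕ} (g : Matrix.symplecticGroup (Fin m) F) (n : ℕ) :
    ((g ^ n : Matrix.symplecticGroup (Fin m) F) : Matrix (Fin m ⊕ Fin m) (Fin m ⊕ Fin m) F) =
      (g : Matrix (Fin m ⊕ Fin m) (Fin m ⊕ Fin m) F) ^ n := SubmonoidClass.coe_pow _ _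

theorem exists_pow_symplectic_eight [Fintype F] (g : Matrix.symplecticGroup (Fin 4) F) :
    ∃ N ∈ sp8Orders (Fintype.card F), g ^ N = 1 := by
  obtain ⟨hm, hd, hs⟩ := charpoly_symplectic_eight g
  obtain ⟨N, hN, R, hR⟩ := palindromic_octic_dvd hm hd hs
  refine ⟨N, hN, Subtype.ext ?_⟩
  have := congrArg (aeval (g : Matrix (Fin 4 ⊕ Fin 4) (Fin 4 ⊕ Fin 4) F)) hR
  rw [map_mul, Matrix.aeval_self_charpoly, zero_mul, map_sub, map_pow, aeval_X, map_one,
    sub_eq_zero] at this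
  rw [coe_symplectic_pow]
  exact this

theorem center_symplectic_eq_bot {m : ℕ} [NeZero m] :
    Subgroup.center (Matrix.symplecticGroup (Fin m) F) = ⊥ := by
  rw [eq_bot_iff]
  intro g hg
  obtain ⟨a, ha, hga⟩ := Linear.Symp.center_scalar hg
  have ha1 : a = 1 := by
    rcases (mul_self_eq_one_iff (a := a)).1 (by rw [← pow_two]; exact ha) with h | h
    · exact h
    · rw [h, CharTwo.neg_eq]
  rw [Subgroup.mem_bot]
  exact Linear.Symp.sp_ext fun v => by rw [hga, ha1]; simp [Linear.Symp.app]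

/-- `PSp(2m, q)` is `Sp(2m, q)` in characteristic two. -/
noncomputable def pspEquivEven (m : ℕ) [NeZero m] :
    Cfsg.PSp m F ≃* Matrix.symplecticGroup (Fin m) F :=
  (QuotientGroup.quotientMulEquivOfEq (center_symplectic_eq_bot (F := F) (m := m))).trans
    QuotientGroup.quotientBot

theorem range_orderOf_psp_even (m : ℕ) [NeZero m] :
    Set.range (orderOf : Cfsg.PSp m F → ℕ) =
      Set.range (orderOf : Matrix.symplecticGroup (Fin m) F → ℕ) := by
  ext n
  constructor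
  · rintro ⟨x, rfl⟩
    exact ⟨pspEquivEven m x, MulEquiv.orderOf_eq _ _⟩
  · rintro ⟨x, rfl⟩
    exact ⟨(pspEquivEven m).symm x, MulEquiv.orderOf_eq _ _⟩

theorem range_orderOf_sp_eight_subset [Fintype F] :
    Set.range (orderOf : Matrix.symplecticGroup (Fin 4) F → ℕ) ⊆
      {n | ∃ N ∈ sp8Orders (Fintype.card F), n ∣ N} := by
  rintro _ ⟨g, rfl⟩
  obtain ⟨N, hN, h⟩ := exists_pow_symplectic_eight g
  exact ⟨N, hN, orderOf_dvd_of_pow_eq_one h⟩

end Cfsg.Agent.RecogA
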